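/-
Dimensions of eigenspaces in representations.
-/
import Mathlib
import Cfsg.Agent.Lib.RepBounds.Eigen

set_option autoImplicit false
set_option linter.unusedSectionVars false

namespace Cfsg.Agent.Lib.AltDegree52

open Module

variable {K V : Type*} [Field K] [AddCommGroup V] [Module K V] [FiniteDimensional K V]

/-- An independent family of subspaces has total dimension at most that of the space. -/
theorem sum_finrank_le {ι : Type*} [DecidableEq ι] (Y : ι → Submodule K V) (s : Finset ι)
    (h : ∀ i ∈ s, Y i ⊓ (s.erase i).sup Y = ⊥) : ∑ i ∈ s, finrank K (Y i) ≤ finrank K V := by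
  suffices hs : ∀ t ⊆ s, ∑ i ∈ t, finrank K (Y i) = finrank K (t.sup Y : Submodule K V) by
    rw [hs s subset_rfl]; exact Submodule.finrank_le _
  intro t
  induction t using Finset.induction_on with
  | empty => intro _; rw [Finset.sup_empty, finrank_bot, Finset.sum_empty]
  | insert a t ha ih =>
    intro hts
    rw [Finset.sum_insert ha, Finset.sup_insert, ih ((Finset.subset_insert a t).trans hts)]
    have hsub : t.sup Y ≤ (s.erase a).sup Y := Finset.sup_mono fun x hx =>
      Finset.mem_erase.2 ⟨fun e => ha (e ▸ hx), hts (Finset.mem_insert_of_mem hx)⟩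
    have hbot : Y a ⊓ t.sup Y = ⊥ := le_bot_iff.1
      ((inf_le_inf_left _ hsub).trans (h a (hts (Finset.mem_insert_self a t))).le)
    have := Submodule.finrank_sup_add_finrank_inf_eq (Y a) (t.sup Y)
    rw [hbot, finrank_bot, add_zero] at this
    exact this.symm

/-- Subspaces fixed by each other's operators, and meeting their own fixed points trivially. -/
theorem sum_finrank_le_of_fixed {ι : Type*} [DecidableEq ι] (Y : ι → Submodule K V) (F : ι → Submodule K V)
    (s : Finset ι) (h0 : ∀ i ∈ s, Y i ⊓ F i = ⊥) (h1 : ∀ i ∈ s, ∀ j ∈ s, j ≠ i → Y j ≤ F i) :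
    ∑ i ∈ s, finrank K (Y i) ≤ finrank K V :=
  sum_finrank_le Y s fun i hi => le_bot_iff.1 ((inf_le_inf_left _ (Finset.sup_le fun j hj =>
    h1 i hi j (Finset.mem_of_mem_erase hj) (Finset.ne_of_mem_erase hj))).trans (h0 i hi).le)

theorem eigenspace_inf_eigenspace (T : End K V) {a b : K} (h : a ≠ b) :
    End.eigenspace T a ⊓ End.eigenspace T b = ⊥ := by
  rw [Submodule.eq_bot_iff]
  rintro x ⟨hx1, hx2⟩
  rw [SetLike.mem_coe, End.mem_eigenspace_iff] at hx1 hx2
  exact (smul_eq_zero.1 (show (a - b) • x = 0 by rw [sub_smul, ← hx1, ← hx2, sub_self])).resolve_left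
    (sub_ne_zero.2 h)

/-- Distinct eigenvalues. -/
theorem sum_eigenspace_le (T : End K V) (s : Finset K) :
    ∑ c ∈ s, finrank K (End.eigenspace T c) ≤ finrank K V := by
  classical
  refine sum_finrank_le _ s fun i _ => ?_
  have h := (End.eigenspaces_iSupIndep T) i
  rw [disjoint_iff] at h
  refine le_bot_iff.1 (le_trans ?_ h.le)
  refine inf_le_inf_left _ (Finset.sup_le fun j hj => ?_)
  exact le_iSup₂_of_le j (Finset.ne_of_mem_erase hj) le_rfl

/-- An involution splits every invariant subspace. -/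
theorem finrank_involution_split (T : End K V) (hT : T * T = 1) (h2 : (2 : K) ≠ 0) (W : Submodule K V)
    (hW : ∀ x ∈ W, T x ∈ W) :
    finrank K W = finrank K ↥(W ⊓ End.eigenspace T 1) + finrank K ↥(W ⊓ End.eigenspace T (-1)) := by
  have hTT : ∀ x, T (T x) = x := fun x => LinearMap.congr_fun hT x
  have hne : (1 : K) ≠ -1 := fun h => h2 (by linear_combination h)
  have hsup : (W ⊓ End.eigenspace T 1) ⊔ (W ⊓ End.eigenspace T (-1)) = W := by
    refine le_antisymm (sup_le inf_le_left inf_le_left) fun x hx => ?_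
    refine Submodule.mem_sup.2 ⟨(2 : K)⁻¹ • (x + T x), ⟨W.smul_mem _ (W.add_mem hx (hW x hx)), ?_⟩,
      (2 : K)⁻¹ • (x - T x), ⟨W.smul_mem _ (W.sub_mem hx (hW x hx)), ?_⟩, ?_⟩
    · rw [SetLike.mem_coe, End.mem_eigenspace_iff, map_smul, map_add, hTT, one_smul, add_comm]
    · rw [SetLike.mem_coe, End.mem_eigenspace_iff, map_smul, map_sub, hTT, neg_one_smul, ← smul_neg, neg_sub]
    · rw [← smul_add, show x + T x + (x - T x) = (2 : K) • x by rw [two_smul]; abel, smul_smul,
        inv_mul_cancel₀ h2, one_smul]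
  have hinf : (W ⊓ End.eigenspace T 1) ⊓ (W ⊓ End.eigenspace T (-1)) = ⊥ :=
    le_bot_iff.1 ((inf_le_inf inf_le_right inf_le_right).trans (eigenspace_inf_eigenspace T hne).le)
  have h := Submodule.finrank_sup_add_finrank_inf_eq (W ⊓ End.eigenspace T 1) (W ⊓ End.eigenspace T (-1))
  rw [hsup, hinf, finrank_bot, add_zero] at h
  exact h

/-- An endomorphism of order three has three eigenspaces. -/
theorem order_three_split (T : End K V) (hT : T ^ 3 = 1) (h3 : (3 : K) ≠ 0) {w : K}
    (hw : w ^ 2 + w + 1 = 0) :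
    LinearMap.range (T - 1) = End.eigenspace T w ⊔ End.eigenspace T (w ^ 2) ∧
      LinearMap.range (T - 1) ⊓ End.eigenspace T 1 = ⊥ := by
  have hTTT : ∀ x, T (T (T x)) = x := fun x => by
    have := LinearMap.congr_fun hT x
    simpa [pow_succ] using this
  have hw1 : w ≠ 1 := fun h => h3 (by rw [h] at hw; linear_combination hw)
  have hw21 : w ^ 2 ≠ 1 := fun h => hw1 (by
    have : w = -2 := by linear_combination hw - h
    exfalso; apply h3; rw [this] at h; linear_combination h)
  have hle : LinearMap.range (T - 1) ≤ End.eigenspace T w ⊔ End.eigenspace T (w ^ 2) := by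
    rintro _ ⟨x, rfl⟩
    set y := (T - 1) x with hy
    have hy0 : y + T y + T (T y) = 0 := by
      rw [hy, LinearMap.sub_apply, End.one_apply, map_sub, map_sub, hTTT]
      abel
    have hy2 : T (T y) = -y - T y := by
      have := eq_neg_of_add_eq_zero_right hy0
      rw [this]; abel
    have hd : w - w ^ 2 ≠ 0 := fun h => hw1 (by
      have hne : w ≠ 0 := fun h0 => by rw [h0] at hw; simp at hw
      have h' : w * (1 - w) = 0 := by linear_combination h
      exact (sub_eq_zero.1 ((mul_eq_zero.1 h').resolve_left hne)).symm)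
    refine Submodule.mem_sup.2 ⟨(w - w ^ 2)⁻¹ • (T y - w ^ 2 • y), ?_, (w - w ^ 2)⁻¹ • (w • y - T y), ?_, ?_⟩
    · rw [End.mem_eigenspace_iff, map_smul, map_sub, map_smul, hy2, smul_comm]
      congr 1
      rw [smul_sub, smul_smul, show w * w ^ 2 = 1 by linear_combination (w - 1) * hw,
        show w ^ 2 = -w - 1 by linear_combination hw, sub_smul, neg_smul]
      simp only [one_smul]
      abel
    · rw [End.mem_eigenspace_iff, map_smul, map_sub, map_smul, hy2, smul_comm]
      congr 1
      rw [smul_sub, smul_smul, show w ^ 2 * w = 1 by linear_combination (w - 1) * hw,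
        show w ^ 2 = -w - 1 by linear_combination hw, sub_smul, neg_smul]
      simp only [one_smul]
      abel
    · rw [← smul_add, show T y - w ^ 2 • y + (w • y - T y) = (w - w ^ 2) • y by rw [sub_smul]; abel,
        smul_smul, inv_mul_cancel₀ hd, one_smul]
  have hge : ∀ c : K, c ≠ 1 → End.eigenspace T c ≤ LinearMap.range (T - 1) := fun c hc x hx => by
    rw [End.mem_eigenspace_iff] at hx
    refine ⟨(c - 1)⁻¹ • x, ?_⟩
    rw [map_smul, LinearMap.sub_apply, hx, End.one_apply,
      show c • x - x = (c - 1) • x by rw [sub_smul, one_smul], smul_smul,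
      inv_mul_cancel₀ (sub_ne_zero.2 hc), one_smul]
  refine ⟨le_antisymm hle (sup_le (hge w hw1) (hge _ hw21)), ?_⟩
  rw [Submodule.eq_bot_iff]
  rintro y ⟨⟨x, rfl⟩, hy⟩
  set y := (T - 1) x with hyd
  rw [SetLike.mem_coe, End.mem_eigenspace_iff, one_smul] at hy
  have hy0 : y + T y + T (T y) = 0 := by
    rw [hyd, LinearMap.sub_apply, End.one_apply, map_sub, map_sub, hTTT]
    abel
  rw [hy, hy] at hy0
  exact (smul_eq_zero.1 (show (3 : K) • y = 0 by
    rw [show (3 : K) = 1 + 1 + 1 by norm_num, add_smul, add_smul, one_smul]; exact hy0)).resolve_left h3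

variable {G : Type*} [Group G]

/-- Eigenvectors transported by a representation. -/
theorem apply_mem_eigenspace (ρ : G →* End K V) {g h h' : G} (hgh : g * h = h' * g) {c : K} {x : V}
    (hx : x ∈ End.eigenspace (ρ h) c) : ρ g x ∈ End.eigenspace (ρ h') c := by
  rw [End.mem_eigenspace_iff] at hx ⊢
  rw [← End.mul_apply, ← map_mul, ← hgh, map_mul, End.mul_apply, hx, map_smul]

theorem inv_apply (ρ : G →* End K V) (g : G) (x : V) : ρ g⁻¹ (ρ g x) = x := by
  rw [← End.mul_apply, ← map_mul, inv_mul_cancel, map_one, End.one_apply]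

theorem apply_inv (ρ : G →* End K V) (g : G) (x : V) : ρ g (ρ g⁻¹ x) = x := by
  rw [← End.mul_apply, ← map_mul, mul_inv_cancel, map_one, End.one_apply]

theorem apply_injective (ρ : G →* End K V) (g : G) : Function.Injective (ρ g) :=
  Function.LeftInverse.injective (g := ρ g⁻¹) (inv_apply ρ g)

theorem apply_ne_zero (ρ : G →* End K V) (g : G) {x : V} (hx : x ≠ 0) : ρ g x ≠ 0 := fun h =>
  hx (apply_injective ρ g (h.trans (map_zero _).symm))

theorem map_eigenspace (ρ : G →* End K V) (g h : G) (c : K) :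
    (End.eigenspace (ρ h) c).map (ρ g) = End.eigenspace (ρ (g * h * g⁻¹)) c := by
  refine le_antisymm ?_ fun y hy => ⟨ρ g⁻¹ y, apply_mem_eigenspace ρ (by group) hy, apply_inv ρ g y⟩
  rintro _ ⟨x, hx, rfl⟩
  exact apply_mem_eigenspace ρ (by group) hx

theorem finrank_map_apply (ρ : G →* End K V) (g : G) (W : Submodule K V) :
    finrank K (W.map (ρ g)) = finrank K W :=
  (Submodule.equivMapOfInjective _ (apply_injective ρ g) W).finrank_eq.symm

theorem finrank_eigenspace_conj (ρ : G →* End K V) (g h : G) (c : K) :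
    finrank K (End.eigenspace (ρ (g * h * g⁻¹)) c) = finrank K (End.eigenspace (ρ h) c) := by
  rw [← map_eigenspace, finrank_map_apply]

theorem map_range_sub_one (ρ : G →* End K V) (g h : G) :
    (LinearMap.range (ρ h - 1)).map (ρ g) = LinearMap.range (ρ (g * h * g⁻¹) - 1) := by
  have e : ∀ x, ρ g ((ρ h - 1) x) = (ρ (g * h * g⁻¹) - 1) (ρ g x) := fun x => by
    simp only [LinearMap.sub_apply, End.one_apply, map_sub, map_mul, End.mul_apply, inv_apply]
  refine le_antisymm ?_ ?_
  · rintro _ ⟨_, ⟨x, rfl⟩, rfl⟩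
    exact ⟨_, (e x).symm⟩
  · rintro _ ⟨y, rfl⟩
    refine ⟨_, ⟨ρ g⁻¹ y, rfl⟩, ?_⟩
    rw [e, apply_inv]

/-- The representation on an invariant subspace. -/
def resHom (ρ : G →* End K V) (W : Submodule K V) (h : ∀ g, ∀ x ∈ W, ρ g x ∈ W) : G →* End K W where
  toFun g := (ρ g).restrict (h g)
  map_one' := LinearMap.ext fun x => Subtype.ext (by simp)
  map_mul' g g' := LinearMap.ext fun x => Subtype.ext (by simp)

theorem resHom_apply (ρ : G →* End K V) (W : Submodule K V) (h : ∀ g, ∀ x ∈ W, ρ g x ∈ W) (g : G) (x : W) :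
    (resHom ρ W h g x : V) = ρ g x := rfl

end Cfsg.Agent.Lib.AltDegree52
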