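/-
Elements of alternating groups given by a few points.
-/
import Mathlib
import Cfsg.Agent.Lib.Alternating.ThreeCycle

set_option autoImplicit false
set_option linter.unusedSectionVars false

namespace Cfsg.Agent.Lib.AltDegree52

open Equiv Equiv.Perm

variable {α : Type*} [Fintype α] [DecidableEq α]

/-- A point outside a list. -/
theorem exists_fresh (l : List α) (h : l.length < Fintype.card α) : ∃ x, x ∉ l := by
  by_contra! hc
  have h1 : (Finset.univ : Finset α) ⊆ l.toFinset := fun x _ => List.mem_toFinset.2 (hc x)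
  have h2 := (Finset.card_le_card h1).trans (List.toFinset_card_le l)
  rw [Finset.card_univ] at h2
  omega

/-- Extending a list without repetition. -/
theorem exists_extend (l : List α) (hl : l.Nodup) (k : ℕ) (h : l.length + k ≤ Fintype.card α) :
    ∃ l' : List α, l'.length = k ∧ (l ++ l').Nodup := by
  induction k with
  | zero => exact ⟨[], rfl, by simpa using hl⟩
  | succ k ih =>
    obtain ⟨l', hl', hnd⟩ := ih (by omega)
    obtain ⟨x, hx⟩ := exists_fresh (l ++ l') (by rw [List.length_append]; omega)
    refine ⟨l' ++ [x], by simp [hl'], ?_⟩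
    rw [← List.append_assoc]
    exact List.nodup_append.2 ⟨hnd, List.nodup_singleton x, fun a ha b hb => by
      rw [List.mem_singleton] at hb; subst hb; exact fun e => hx (e ▸ ha)⟩

/-- `A_n` is `(n-2)`-transitive. -/
theorem exists_map {k : ℕ} {f g : Fin k → α} (hf : Function.Injective f) (hg : Function.Injective g)
    (h : k + 2 ≤ Fintype.card α) :
    ∃ σ ∈ alternatingGroup α, ∀ i, σ (f i) = g i := by
  classical
  let e : {x // x ∈ Set.range f} ≃ {x // x ∈ Set.range g} :=
    (Equiv.ofInjective f hf).symm.trans (Equiv.ofInjective g hg)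
  have he : ∀ i, e.extendSubtype (f i) = g i := fun i => by
    rw [Equiv.extendSubtype_apply_of_mem e (f i) ⟨i, rfl⟩]
    simp [e]
  rcases Int.units_eq_one_or (Perm.sign e.extendSubtype) with hs | hs
  · exact ⟨_, hs, he⟩
  obtain ⟨u, hu⟩ := exists_fresh (List.ofFn g) (by rw [List.length_ofFn]; omega)
  obtain ⟨w, hw⟩ := exists_fresh (u :: List.ofFn g) (by rw [List.length_cons, List.length_ofFn]; omega)
  rw [List.mem_cons, not_or] at hw
  refine ⟨swap u w * e.extendSubtype, ?_, fun i => ?_⟩
  · rw [Perm.mem_alternatingGroup, map_mul, hs, Perm.sign_swap (Ne.symm hw.1)]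
    norm_num
  · rw [Perm.mul_apply, he]
    refine swap_apply_of_ne_of_ne ?_ ?_
    · exact fun h => hu (h ▸ List.mem_ofFn.2 ⟨i, rfl⟩)
    · exact fun h => hw.2 (h ▸ List.mem_ofFn.2 ⟨i, rfl⟩)

/-- A double transposition. -/
def dt (a b c d : α) : Perm α := swap a b * swap c d

theorem dt_mem {a b c d : α} (hab : a ≠ b) (hcd : c ≠ d) : dt a b c d ∈ alternatingGroup α := by
  rw [Perm.mem_alternatingGroup, dt, map_mul, sign_swap hab, sign_swap hcd]
  norm_num

theorem conj_swap (σ : Perm α) (a b : α) : σ * swap a b * σ⁻¹ = swap (σ a) (σ b) := by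
  rw [Equiv.mul_swap_eq_swap_mul, mul_inv_cancel_right]

theorem conj_dt (σ : Perm α) (a b c d : α) : σ * dt a b c d * σ⁻¹ = dt (σ a) (σ b) (σ c) (σ d) := by
  rw [dt, dt, ← conj_swap, ← conj_swap]
  group

theorem conj_tri (σ : Perm α) (a b c : α) :
    σ * Alternating.tri a b c * σ⁻¹ = Alternating.tri (σ a) (σ b) (σ c) := by
  rw [Alternating.tri, Alternating.tri, ← conj_swap, ← conj_swap]
  group

theorem dt_swap_left (a b c d : α) : dt b a c d = dt a b c d := by rw [dt, dt, swap_comm a b]

theorem dt_swap_right (a b c d : α) : dt a b d c = dt a b c d := by rw [dt, dt, swap_comm c d]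

theorem swap_comm_of_disjoint {a b c d : α} (hac : a ≠ c) (had : a ≠ d) (hbc : b ≠ c) (hbd : b ≠ d) :
    swap a b * swap c d = swap c d * swap a b := by
  have h := conj_swap (swap a b) c d
  rw [swap_apply_of_ne_of_ne hac.symm hbc.symm, swap_apply_of_ne_of_ne had.symm hbd.symm,
    mul_inv_eq_iff_eq_mul] at h
  exact h

theorem dt_comm {a b c d : α} (hac : a ≠ c) (had : a ≠ d) (hbc : b ≠ c) (hbd : b ≠ d) :
    dt c d a b = dt a b c d := (swap_comm_of_disjoint hac had hbc hbd).symm

theorem dt_mul_self {a b c d : α} (hac : a ≠ c) (had : a ≠ d) (hbc : b ≠ c) (hbd : b ≠ d) :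
    dt a b c d * dt a b c d = 1 := by
  rw [dt]
  nth_rewrite 2 [swap_comm_of_disjoint hac had hbc hbd]
  rw [mul_assoc, ← mul_assoc (swap c d), swap_mul_self, one_mul, swap_mul_self]

theorem tri_rot {a b c : α} (hab : a ≠ b) (hac : a ≠ c) (hbc : b ≠ c) :
    Alternating.tri b c a = Alternating.tri a b c := by
  have h : Alternating.tri a b c =
      Alternating.tri a b c * Alternating.tri a b c * (Alternating.tri a b c)⁻¹ :=
    (mul_inv_cancel_right _ _).symm
  rw [conj_tri, Alternating.tri_apply_left hab hbc, Alternating.tri_apply_mid,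
    Alternating.tri_apply_right hac hbc] at h
  exact h.symm

theorem tri_inv {a b c : α} (hab : a ≠ b) (hac : a ≠ c) (hbc : b ≠ c) :
    (Alternating.tri a b c)⁻¹ = Alternating.tri a c b := by
  rw [Alternating.tri, Alternating.tri, mul_inv_rev, swap_inv, swap_inv]

theorem tri_pow_three {a b c : α} (hab : a ≠ b) (hac : a ≠ c) (hbc : b ≠ c) :
    Alternating.tri a b c ^ 3 = 1 :=
  (Alternating.tri_isThreeCycle hab hac hbc).orderOf ▸ pow_orderOf_eq_one _

theorem tri_ne_one {a b c : α} (hab : a ≠ b) (hac : a ≠ c) (hbc : b ≠ c) :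
    Alternating.tri a b c ≠ 1 := fun h => by
  have := Alternating.tri_apply_left (c := c) hab hbc
  rw [h] at this
  exact hab this

theorem dt_ne_one {a b c d : α} (hab : a ≠ b) (hac : a ≠ c) (had : a ≠ d) : dt a b c d ≠ 1 := fun h => by
  have := congrArg (fun σ : Perm α => σ a) h
  simp only [dt, Perm.mul_apply, Perm.one_apply, swap_apply_of_ne_of_ne hac had, swap_apply_left] at this
  exact hab this.symm

/-- The even permutations fixing every point of `s`. -/
def offSub (s : List α) : Subgroup (alternatingGroup α) where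
  carrier := {g | ∀ x ∈ s, (g : Perm α) x = x}
  one_mem' := fun x _ => rfl
  mul_mem' := fun {g h} hg hh x hx => by
    show (g : Perm α) ((h : Perm α) x) = x
    rw [hh x hx, hg x hx]
  inv_mem' := fun {g} hg x hx => by
    show (g : Perm α)⁻¹ x = x
    conv_lhs => rw [← hg x hx]
    exact Equiv.symm_apply_apply _ _

theorem mem_offSub {s : List α} {g : alternatingGroup α} : g ∈ offSub s ↔ ∀ x ∈ s, (g : Perm α) x = x :=
  Iff.rfl

theorem offSub_mono {s t : List α} (h : s ⊆ t) : offSub t ≤ offSub s := fun _ hg x hx => hg x (h hx)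

/-- The alternating group on the remaining points. -/
def offHom (s : List α) : alternatingGroup {x // x ∉ s} →* alternatingGroup α where
  toFun g := ⟨Perm.ofSubtype (g : Perm {x // x ∉ s}), by
    rw [Perm.mem_alternatingGroup, Perm.sign_ofSubtype]
    exact g.2⟩
  map_one' := Subtype.ext (map_one _)
  map_mul' g h := Subtype.ext (map_mul _ _ _)

theorem offHom_injective (s : List α) : Function.Injective (offHom s) := fun _ _ h =>
  Subtype.ext (Perm.ofSubtype_injective (congrArg Subtype.val h))

theorem offHom_range (s : List α) : (offHom s).range = offSub s := by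
  refine le_antisymm ?_ ?_
  · rintro _ ⟨g, rfl⟩ x hx
    exact Perm.ofSubtype_apply_of_not_mem _ (by simpa using hx)
  · intro g hg
    have h1 : ∀ x, ((g : Perm α) x ∉ s) ↔ x ∉ s := fun x => by
      refine ⟨fun h hx => h (by rw [hg x hx]; exact hx), fun h hgx => h ?_⟩
      have := (g : Perm α).injective (hg _ hgx)
      rw [this] at hgx
      exact hgx
    have h2 : Perm.ofSubtype ((g : Perm α).subtypePerm h1) = (g : Perm α) :=
      Perm.ofSubtype_subtypePerm h1 fun x hx hxs => hx (hg x hxs)
    refine ⟨⟨(g : Perm α).subtypePerm h1, ?_⟩, Subtype.ext ?_⟩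
    · rw [Perm.mem_alternatingGroup]
      have h3 := congrArg Perm.sign h2
      rw [Perm.sign_ofSubtype] at h3
      convert h3.trans g.2
    · refine Eq.trans ?_ h2
      show Perm.ofSubtype _ = Perm.ofSubtype _
      convert rfl

theorem card_off {s : List α} (hs : s.Nodup) :
    Fintype.card {x // x ∉ s} = Fintype.card α - s.length := by
  rw [Fintype.card_subtype_compl, Fintype.card_subtype,
    ← List.toFinset_card_of_nodup hs]
  congr 1
  exact congrArg Finset.card (by ext x; simp)

end Cfsg.Agent.Lib.AltDegree52
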