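/-
Representations of alternating groups of very small dimension.
-/
import Mathlib
import Cfsg.Agent.Lib.AltDegree52.Points
import Cfsg.Agent.Lib.AltDegree52.Eig

set_option autoImplicit false
set_option linter.unusedSectionVars false

namespace Cfsg.Agent.Lib.AltDegree52

open Equiv Equiv.Perm Module
open Cfsg.Agent.Lib.Alternating (tri)

variable {α : Type*} [Fintype α] [DecidableEq α]

/-- A double transposition, as an element of the alternating group. -/
def dtA (a b c d : α) : alternatingGroup α :=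
  if h : Perm.sign (dt a b c d) = 1 then ⟨_, mem_alternatingGroup.2 h⟩ else 1

/-- A three-cycle, as an element of the alternating group. -/
def triA (a b c : α) : alternatingGroup α :=
  if h : Perm.sign (tri a b c) = 1 then ⟨_, mem_alternatingGroup.2 h⟩ else 1

theorem coe_dtA {a b c d : α} (hab : a ≠ b) (hcd : c ≠ d) : (dtA a b c d : Perm α) = dt a b c d := by
  rw [dtA, dif_pos (mem_alternatingGroup.1 (dt_mem hab hcd))]

theorem coe_triA {a b c : α} (hab : a ≠ b) (hac : a ≠ c) (hbc : b ≠ c) :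
    (triA a b c : Perm α) = tri a b c := by
  rw [triA, dif_pos (mem_alternatingGroup.1 (Alternating.tri_mem_alt hab hac hbc))]

theorem conj_dtA (g : alternatingGroup α) (a b c d : α) :
    g * dtA a b c d * g⁻¹ =
      dtA ((g : Perm α) a) ((g : Perm α) b) ((g : Perm α) c) ((g : Perm α) d) := by
  have h := conj_dt (g : Perm α) a b c d
  have hiff : Perm.sign (dt ((g : Perm α) a) ((g : Perm α) b) ((g : Perm α) c) ((g : Perm α) d)) = 1 ↔
      Perm.sign (dt a b c d) = 1 := by
    rw [← h, map_mul, map_mul, map_inv, mul_right_comm, mul_inv_cancel, one_mul]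
  by_cases h1 : Perm.sign (dt a b c d) = 1
  · refine Subtype.ext ?_
    rw [dtA, dtA, dif_pos h1, dif_pos (hiff.2 h1)]
    exact h
  · rw [dtA, dtA, dif_neg h1, dif_neg (mt hiff.1 h1), mul_one, mul_inv_cancel]

theorem conj_triA (g : alternatingGroup α) (a b c : α) :
    g * triA a b c * g⁻¹ = triA ((g : Perm α) a) ((g : Perm α) b) ((g : Perm α) c) := by
  have h := conj_tri (g : Perm α) a b c
  have hiff : Perm.sign (tri ((g : Perm α) a) ((g : Perm α) b) ((g : Perm α) c)) = 1 ↔
      Perm.sign (tri a b c) = 1 := by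
    rw [← h, map_mul, map_mul, map_inv, mul_right_comm, mul_inv_cancel, one_mul]
  by_cases h1 : Perm.sign (tri a b c) = 1
  · refine Subtype.ext ?_
    rw [triA, triA, dif_pos h1, dif_pos (hiff.2 h1)]
    exact h
  · rw [triA, triA, dif_neg h1, dif_neg (mt hiff.1 h1), mul_one, mul_inv_cancel]

theorem dtA_comm {a b c d : α} (hac : a ≠ c) (had : a ≠ d) (hbc : b ≠ c) (hbd : b ≠ d) :
    dtA c d a b = dtA a b c d := by
  unfold dtA
  simp only [dt_comm hac had hbc hbd]

theorem dtA_swap_left (a b c d : α) : dtA b a c d = dtA a b c d := by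
  unfold dtA; simp only [dt_swap_left]

theorem dtA_swap_right (a b c d : α) : dtA a b d c = dtA a b c d := by
  unfold dtA; simp only [dt_swap_right]

theorem dtA_mul_self {a b c d : α} (hab : a ≠ b) (hac : a ≠ c) (had : a ≠ d) (hbc : b ≠ c) (hbd : b ≠ d)
    (hcd : c ≠ d) : dtA a b c d * dtA a b c d = 1 :=
  Subtype.ext (by rw [Subgroup.coe_mul, coe_dtA hab hcd]; exact dt_mul_self hac had hbc hbd)

theorem dtA_ne_one {a b c d : α} (hab : a ≠ b) (hac : a ≠ c) (had : a ≠ d) (hcd : c ≠ d) :
    dtA a b c d ≠ 1 := fun h => dt_ne_one hab hac had (by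
  rw [← coe_dtA hab hcd, h]; rfl)

theorem dtA_klein {a b c d : α} (hab : a ≠ b) (hac : a ≠ c) (had : a ≠ d) (hbc : b ≠ c) (hbd : b ≠ d)
    (hcd : c ≠ d) : dtA a b c d * dtA a c b d = dtA a d b c := by
  refine Subtype.ext (Equiv.ext fun x => ?_)
  rw [Subgroup.coe_mul, coe_dtA hab hcd, coe_dtA hac hbd, coe_dtA had hbc]
  simp only [dt, Perm.mul_apply, Equiv.swap_apply_def]
  split_ifs <;> simp_all

/-- A representation with a nontrivial kernel is trivial. -/
theorem eq_one_of_ker {M : Type*} [Monoid M] (ρ : alternatingGroup α →* M) (h5 : 5 ≤ Fintype.card α)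
    {u : alternatingGroup α} (hu : u ≠ 1) (h : ρ u = 1) (g : alternatingGroup α) : ρ g = 1 := by
  haveI : IsSimpleGroup (alternatingGroup α) :=
    alternatingGroup.isSimpleGroup (by rw [Nat.card_eq_fintype_card]; omega)
  rcases (MonoidHom.normal_ker ρ).eq_bot_or_eq_top with h1 | h1
  · exact absurd (by rw [← Subgroup.mem_bot, ← h1]; exact h) hu
  · exact MonoidHom.mem_ker.1 (h1 ▸ Subgroup.mem_top g)

/-- An element with central image. -/
theorem eq_one_of_commute {M : Type*} [Monoid M] (ρ : alternatingGroup α →* M) (h5 : 5 ≤ Fintype.card α)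
    {u : alternatingGroup α} (hu : u ≠ 1) (h : ∀ g, Commute (ρ u) (ρ g)) (g : alternatingGroup α) :
    ρ g = 1 := by
  haveI : IsSimpleGroup (alternatingGroup α) :=
    alternatingGroup.isSimpleGroup (by rw [Nat.card_eq_fintype_card]; omega)
  obtain ⟨k, hk⟩ : ∃ k, k * u ≠ u * k := by
    by_contra! hc
    have : u ∈ Subgroup.center (alternatingGroup α) := Subgroup.mem_center_iff.2 hc
    rcases (inferInstance : (Subgroup.center (alternatingGroup α)).Normal).eq_bot_or_eq_top with h1 | h1
    · exact hu (by rw [h1] at this; exact Subgroup.mem_bot.1 this)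
    · refine Alternating.alt_not_isMulCommutative (α := α) (by omega) ⟨⟨fun x y => ?_⟩⟩
      exact Subgroup.mem_center_iff.1 (h1 ▸ Subgroup.mem_top y : y ∈ Subgroup.center _) x
  refine eq_one_of_ker ρ h5 (u := (k * u) * (u * k)⁻¹) (fun e => hk (mul_inv_eq_one.1 e)) ?_ g
  rw [map_mul, map_mul, ← (h k).eq, ← map_mul, ← map_mul, mul_inv_cancel, map_one]

variable {K V : Type*} [Field K] [AddCommGroup V] [Module K V] [FiniteDimensional K V]

/-- Dimension at most one. -/
theorem eq_one_of_dim_le_one (ρ : alternatingGroup α →* End K V) (h5 : 5 ≤ Fintype.card α)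
    (hn : finrank K V ≤ 1) (g : alternatingGroup α) : ρ g = 1 := by
  obtain ⟨a, b, c, hab, hac, hbc⟩ := Fintype.two_lt_card_iff.1 (show 2 < Fintype.card α by omega)
  refine eq_one_of_commute ρ h5 (u := triA a b c) (fun e => tri_ne_one hab hac hbc ?_) (fun k => ?_) g
  · rw [← coe_triA hab hac hbc, e]; rfl
  obtain ⟨v, hv⟩ := finrank_le_one_iff.1 hn
  obtain ⟨s, hs⟩ := hv (ρ (triA a b c) v)
  obtain ⟨t, ht⟩ := hv (ρ k v)
  refine LinearMap.ext fun x => ?_
  obtain ⟨r, rfl⟩ := hv x
  rw [End.mul_apply, End.mul_apply, map_smul, map_smul, map_smul, map_smul, ← hs, ← ht, map_smul, map_smul,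
    ← hs, ← ht, smul_comm s t]

/-- `negE ρ g` is the negative eigenspace. -/
abbrev negE {G : Type*} [Group G] (ρ : G →* End K V) (g : G) : Submodule K V := End.eigenspace (ρ g) (-1)

/-- `posE ρ g` is the space of fixed vectors. -/
abbrev posE {G : Type*} [Group G] (ρ : G →* End K V) (g : G) : Submodule K V := End.eigenspace (ρ g) 1

theorem mem_negE {G : Type*} [Group G] {ρ : G →* End K V} {g : G} {v : V} : v ∈ negE ρ g ↔ ρ g v = -v := by
  rw [End.mem_eigenspace_iff, neg_one_smul]

theorem mem_posE {G : Type*} [Group G] {ρ : G →* End K V} {g : G} {v : V} : v ∈ posE ρ g ↔ ρ g v = v := by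
  rw [End.mem_eigenspace_iff, one_smul]

/-- The three characters of a four-group permuted by a three-cycle. -/
theorem klein_split {G : Type*} [Group G] (ρ : G →* End K V) (h2 : (2 : K) ≠ 0) {x y z c : G}
    (hxy : x * y = z) (hyx : y * x = z) (hx : x * x = 1) (hy : y * y = 1)
    (hcx : c * x * c⁻¹ = y) (hcy : c * y * c⁻¹ = z) :
    finrank K (negE ρ x) = 2 * finrank K ↥(negE ρ x ⊓ posE ρ y) ∧
      3 * finrank K ↥(negE ρ x ⊓ posE ρ y) ≤ finrank K V := by
  have hxx : ρ x * ρ x = 1 := by rw [← map_mul, hx, map_one]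
  have hyy : ρ y * ρ y = 1 := by rw [← map_mul, hy, map_one]
  have hinv : ∀ v ∈ negE ρ x, ρ y v ∈ negE ρ x := fun v hv =>
    apply_mem_eigenspace ρ (by rw [hxy, hyx]) hv
  have hz : ∀ v, ρ z v = ρ y (ρ x v) := fun v => by rw [← End.mul_apply, ← map_mul, hyx]
  have hz' : ∀ v, ρ z v = ρ x (ρ y v) := fun v => by rw [← End.mul_apply, ← map_mul, hxy]
  have h1 : negE ρ x ⊓ negE ρ y = negE ρ y ⊓ posE ρ z := by
    ext v
    simp only [Submodule.mem_inf, mem_negE, mem_posE]
    refine ⟨fun h => ⟨h.2, by rw [hz, h.1, map_neg, h.2, neg_neg]⟩, fun h => ⟨?_, h.1⟩⟩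
    have h' := h.2
    rw [hz', h.1, map_neg, neg_eq_iff_eq_neg] at h'
    exact h'
  have h2' : finrank K ↥(negE ρ x ⊓ negE ρ y) = finrank K ↥(negE ρ x ⊓ posE ρ y) := by
    rw [h1, negE, posE, ← hcx, ← hcy, ← map_eigenspace, ← map_eigenspace,
      ← Submodule.map_inf _ (apply_injective ρ c), finrank_map_apply, hcx]
  have hsplit := finrank_involution_split (ρ y) hyy h2 (negE ρ x) hinv
  have htot := finrank_involution_split (ρ x) hxx h2 ⊤ (fun _ _ => trivial)
  rw [finrank_top, top_inf_eq, top_inf_eq] at htot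
  have h3 : finrank K ↥(negE ρ x ⊓ posE ρ y) ≤ finrank K (posE ρ x) := by
    rw [← h2', h1]
    calc finrank K ↥(negE ρ y ⊓ posE ρ z) = finrank K ↥((negE ρ y ⊓ posE ρ z).map (ρ c)) :=
          (finrank_map_apply ρ c _).symm
      _ ≤ finrank K (posE ρ x) := Submodule.finrank_mono ?_
    rw [Submodule.map_inf _ (apply_injective ρ c), negE, posE, map_eigenspace, map_eigenspace, hcy]
    have hcz : c * z * c⁻¹ = x := by
      have : c * z * c⁻¹ = (c * x * c⁻¹) * (c * y * c⁻¹) := by rw [← hxy]; group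
      rw [this, hcx, hcy, ← hyx, ← mul_assoc, hy, one_mul]
    rw [hcz]
    exact inf_le_right
  change finrank K (negE ρ x) = finrank K ↥(negE ρ x ⊓ posE ρ y) + finrank K ↥(negE ρ x ⊓ negE ρ y) at hsplit
  change finrank K V = finrank K (posE ρ x) + finrank K (negE ρ x) at htot
  omega

theorem negE_ne_bot {G : Type*} [Group G] (ρ : G →* End K V) (h2 : (2 : K) ≠ 0) {x : G} (hx : x * x = 1)
    (hne : ρ x ≠ 1) : negE ρ x ≠ ⊥ := by
  intro h
  refine hne (LinearMap.ext fun v => ?_)
  have hTT : ρ x (ρ x v) = v := by rw [← End.mul_apply, ← map_mul, hx, map_one, End.one_apply]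
  have : ρ x v - v ∈ negE ρ x := by rw [mem_negE, map_sub, hTT, neg_sub]
  rw [h, Submodule.mem_bot, sub_eq_zero] at this
  exact this

/-- A common eigenvector for a four-group, and the three-cycle makes three of them. -/
theorem trivial_of_dim_le_two (ρ : alternatingGroup α →* End K V) (h2 : (2 : K) ≠ 0)
    (h5 : 5 ≤ Fintype.card α) (hn : finrank K V ≤ 2) (g : alternatingGroup α) : ρ g = 1 := by
  obtain ⟨l, hl, hnd⟩ := exists_extend ([] : List α) List.nodup_nil 4 (by simp; omega)
  match l, hl with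
  | [a, b, c, d], _ =>
    simp only [List.nil_append, List.nodup_cons, List.mem_cons, List.not_mem_nil, or_false, not_or] at hnd
    obtain ⟨⟨hab, hac, had⟩, ⟨hbc, hbd⟩, hcd, -⟩ := hnd
    by_cases hne : ρ (dtA a b c d) = 1
    · exact eq_one_of_ker ρ h5 (dtA_ne_one hab hac had hcd) hne g
    exfalso
    have hxx := dtA_mul_self hab hac had hbc hbd hcd
    have hyy := dtA_mul_self hac hab had (Ne.symm hbc) hcd hbd
    have hk := dtA_klein hab hac had hbc hbd hcd
    have hk' : dtA a c b d * dtA a b c d = dtA a d b c := by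
      rw [dtA_klein hac hab had (Ne.symm hbc) hcd hbd, dtA_swap_right]
    have hc1 : triA b c d * dtA a b c d * (triA b c d)⁻¹ = dtA a c b d := by
      rw [conj_dtA, coe_triA hbc hbd hcd, Alternating.tri_apply_of_ne hab hac had,
        Alternating.tri_apply_left hbc hcd, Alternating.tri_apply_mid, Alternating.tri_apply_right hbd hcd,
        dtA_swap_right]
    have hc2 : triA b c d * dtA a c b d * (triA b c d)⁻¹ = dtA a d b c := by
      rw [conj_dtA, coe_triA hbc hbd hcd, Alternating.tri_apply_of_ne hab hac had,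
        Alternating.tri_apply_left hbc hcd, Alternating.tri_apply_mid, Alternating.tri_apply_right hbd hcd,
        dtA_swap_right]
    obtain ⟨hA, hB⟩ := klein_split ρ h2 hk hk' hxx hyy hc1 hc2
    have : finrank K (negE ρ (dtA a b c d)) ≠ 0 := fun h =>
      negE_ne_bot ρ h2 hxx hne (Submodule.finrank_eq_zero.1 h)
    omega

end Cfsg.Agent.Lib.AltDegree52
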