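/-
Representations of dimension at most three.
-/
import Mathlib
import Cfsg.Agent.Lib.AltDegree52.Small

set_option autoImplicit false
set_option linter.unusedSectionVars false

namespace Cfsg.Agent.Lib.AltDegree52

open Equiv Equiv.Perm Module
open Cfsg.Agent.Lib.Alternating (tri tri_apply_left tri_apply_mid tri_apply_right tri_apply_of_ne)

variable {α : Type*} [Fintype α] [DecidableEq α]
variable {K V : Type*} [Field K] [AddCommGroup V] [Module K V] [FiniteDimensional K V]

theorem nodup_four {a b c d : α} (h : [a, b, c, d].Nodup) :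
    a ≠ b ∧ a ≠ c ∧ a ≠ d ∧ b ≠ c ∧ b ≠ d ∧ c ≠ d := by
  simp only [List.nodup_cons, List.mem_cons, List.not_mem_nil, or_false, not_or] at h
  tauto

theorem triA_dtA {a b c d : α} (h : [a, b, c, d].Nodup) :
    triA b c d * dtA a b c d * (triA b c d)⁻¹ = dtA a c b d ∧
      triA b c d * dtA a c b d * (triA b c d)⁻¹ = dtA a d b c ∧
      triA b c d * dtA a d b c * (triA b c d)⁻¹ = dtA a b c d := by
  obtain ⟨hab, hac, had, hbc, hbd, hcd⟩ := nodup_four h
  simp only [conj_dtA, coe_triA hbc hbd hcd, tri_apply_of_ne hab hac had, tri_apply_left hbc hcd,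
    tri_apply_mid, tri_apply_right hbd hcd]
  exact ⟨dtA_swap_right _ _ _ _, dtA_swap_right _ _ _ _, trivial⟩

theorem dtA_klein' {a b c d : α} (h : [a, b, c, d].Nodup) :
    dtA a b c d * dtA a c b d = dtA a d b c ∧ dtA a c b d * dtA a b c d = dtA a d b c ∧
      dtA a b c d * dtA a b c d = 1 ∧ dtA a c b d * dtA a c b d = 1 := by
  obtain ⟨hab, hac, had, hbc, hbd, hcd⟩ := nodup_four h
  refine ⟨dtA_klein hab hac had hbc hbd hcd, ?_, dtA_mul_self hab hac had hbc hbd hcd,
    dtA_mul_self hac hab had hbc.symm hcd hbd⟩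
  rw [dtA_klein hac hab had hbc.symm hcd hbd, dtA_swap_right]

/-- Half of the negative eigenspace of a double transposition. -/
abbrev quadX (ρ : alternatingGroup α →* End K V) (a b c d : α) : Submodule K V :=
  negE ρ (dtA a b c d) ⊓ posE ρ (dtA a c b d)

theorem quad_dims (ρ : alternatingGroup α →* End K V) (h2 : (2 : K) ≠ 0) {a b c d : α}
    (h : [a, b, c, d].Nodup) :
    finrank K (negE ρ (dtA a b c d)) = 2 * finrank K (quadX ρ a b c d) ∧
      3 * finrank K (quadX ρ a b c d) ≤ finrank K V := by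
  obtain ⟨hk, hk', hxx, hyy⟩ := dtA_klein' h
  obtain ⟨h1, h1', -⟩ := triA_dtA h
  exact klein_split ρ h2 hk hk' hxx hyy h1 h1'

theorem quad_ne_bot (ρ : alternatingGroup α →* End K V) (h2 : (2 : K) ≠ 0) (h5 : 5 ≤ Fintype.card α)
    {g : alternatingGroup α} (hg : ρ g ≠ 1) {a b c d : α} (h : [a, b, c, d].Nodup) :
    finrank K (quadX ρ a b c d) ≠ 0 := by
  obtain ⟨hab, hac, had, hbc, hbd, hcd⟩ := nodup_four h
  intro h0
  obtain ⟨hA, -⟩ := quad_dims ρ h2 h
  rw [h0, mul_zero, Submodule.finrank_eq_zero] at hA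
  refine hg (eq_one_of_ker ρ h5 (dtA_ne_one hab hac had hcd) ?_ g)
  by_contra hne
  exact negE_ne_bot ρ h2 (dtA_klein' h).2.2.1 hne hA

theorem commute_of_fix {g : alternatingGroup α} {a b c d : α} (ha : (g : Perm α) a = a)
    (hb : (g : Perm α) b = b) (hc : (g : Perm α) c = c) (hd : (g : Perm α) d = d) :
    g * dtA a b c d = dtA a b c d * g := by
  have := conj_dtA g a b c d
  rw [ha, hb, hc, hd] at this
  exact mul_inv_eq_iff_eq_mul.1 this

theorem commute_triA_of_fix {g : alternatingGroup α} {a b c : α} (ha : (g : Perm α) a = a)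
    (hb : (g : Perm α) b = b) (hc : (g : Perm α) c = c) : g * triA a b c = triA a b c * g := by
  have := conj_triA g a b c
  rw [ha, hb, hc] at this
  exact mul_inv_eq_iff_eq_mul.1 this

/-- No representations of dimension three on seven points, odd characteristic. -/
theorem trivial_of_dim_le_three (ρ : alternatingGroup α →* End K V) (h2 : (2 : K) ≠ 0)
    (h7 : 7 ≤ Fintype.card α) (hn : finrank K V ≤ 3) (g : alternatingGroup α) : ρ g = 1 := by
  obtain ⟨l, hl, hnd⟩ := exists_extend ([] : List α) List.nodup_nil 7 (by simp; omega)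
  match l, hl with
  | [a, b, c, d, e, f, k], _ =>
    rw [List.nil_append] at hnd
    have h4 : [a, b, c, d].Nodup := hnd.sublist (by simp)
    obtain ⟨hab, hac, had, hbc, hbd, hcd⟩ := nodup_four h4
    simp only [List.nodup_cons, List.mem_cons, List.not_mem_nil, or_false, not_or, ← ne_eq] at hnd
    obtain ⟨⟨-, -, -, hae, haf, hak⟩, ⟨-, -, hbe, hbf, hbk⟩, ⟨-, hce, hcf, hck⟩, ⟨hde, hdf, hdk⟩,
      ⟨hef, hek⟩, hfk, -⟩ := hnd
    by_contra hg
    obtain ⟨hA, hB⟩ := quad_dims ρ h2 h4
    have h0 := quad_ne_bot ρ h2 (by omega) hg h4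
    have hμ : finrank K (quadX ρ a b c d) = 1 := by omega
    obtain ⟨v, hv, hv0⟩ := Submodule.exists_mem_ne_zero_of_ne_bot
      (fun hb => h0 (Submodule.finrank_eq_zero.2 hb) : quadX ρ a b c d ≠ ⊥)
    obtain ⟨hk, hk', hxx, hyy⟩ := dtA_klein' h4
    obtain ⟨hc1, hc2, hc3⟩ := triA_dtA h4
    set u := triA e f k with hu
    set c' := triA b c d with hc'
    have hfix : ∀ {x : α}, x ≠ e → x ≠ f → x ≠ k → (u : Perm α) x = x := fun h h' h'' => by
      rw [hu, coe_triA hef hek hfk, tri_apply_of_ne h h' h'']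
    have hux : u * dtA a b c d = dtA a b c d * u :=
      commute_of_fix (hfix hae haf hak) (hfix hbe hbf hbk) (hfix hce hcf hck) (hfix hde hdf hdk)
    have huy : u * dtA a c b d = dtA a c b d * u :=
      commute_of_fix (hfix hae haf hak) (hfix hce hcf hck) (hfix hbe hbf hbk) (hfix hde hdf hdk)
    have huc : u * c' = c' * u :=
      commute_triA_of_fix (hfix hbe hbf hbk) (hfix hce hcf hck) (hfix hde hdf hdk)
    have huv : ρ u v ∈ quadX ρ a b c d :=
      ⟨apply_mem_eigenspace ρ hux hv.1, apply_mem_eigenspace ρ huy hv.2⟩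
    obtain ⟨s, hs⟩ : ∃ s : K, s • v = ρ u v := by
      obtain ⟨s, hs⟩ := (finrank_eq_one_iff_of_nonzero' (⟨v, hv⟩ : quadX ρ a b c d)
        (by simpa [Subtype.ext_iff] using hv0)).1 hμ ⟨_, huv⟩
      exact ⟨s, congrArg Subtype.val hs⟩
    set v1 := ρ c' v with hv1
    set v2 := ρ c' v1 with hv2
    have hs1 : ρ u v1 = s • v1 := by
      rw [hv1, ← End.mul_apply, ← map_mul, huc, map_mul, End.mul_apply, ← hs, map_smul]
    have hs2 : ρ u v2 = s • v2 := by
      rw [hv2, ← End.mul_apply, ← map_mul, huc, map_mul, End.mul_apply, hs1, map_smul]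
    -- characters
    have hvx := mem_negE.1 hv.1
    have hvy := mem_posE.1 hv.2
    have hmove : ∀ {w : V} {g g' : alternatingGroup α}, c' * g * c'⁻¹ = g' → ∀ {t : K}, ρ g w = t • w →
        ρ g' (ρ c' w) = t • ρ c' w := fun hgg' t hw => by
      rw [← hgg', map_mul, map_mul, End.mul_apply, End.mul_apply, inv_apply, hw, map_smul]
    have h1y : ρ (dtA a c b d) v1 = (-1 : K) • v1 := hmove hc1 (by rw [hvx, neg_one_smul])
    have h1z : ρ (dtA a d b c) v1 = (1 : K) • v1 := hmove hc2 (by rw [hvy, one_smul])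
    have h2z : ρ (dtA a d b c) v2 = (-1 : K) • v2 := hmove hc2 h1y
    have h2x : ρ (dtA a b c d) v2 = (1 : K) • v2 := hmove hc3 h1z
    have h1x : ρ (dtA a b c d) v1 = (-1 : K) • v1 := by
      have : dtA a b c d = dtA a d b c * dtA a c b d := by rw [← hk, mul_assoc, hyy, mul_one]
      rw [this, map_mul, End.mul_apply, h1y, map_smul, h1z, one_smul]
    have h2y : ρ (dtA a c b d) v2 = (-1 : K) • v2 := by
      have : dtA a c b d = dtA a d b c * dtA a b c d := by rw [← hk', mul_assoc, hxx, mul_one]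
      rw [this, map_mul, End.mul_apply, h2x, one_smul, h2z]
    let R : End K V := ρ (dtA a b c d) + (2 : K) • ρ (dtA a c b d)
    have hR : ∀ i : Fin 3, End.HasEigenvector R (![1, -3, -1] i) (![v, v1, v2] i) := by
      intro i
      refine ⟨End.mem_eigenspace_iff.2 ?_, ?_⟩
      · fin_cases i
        · simp [R, hvx, hvy, two_smul]
        · simp [R, h1x, h1y]; module
        · simp [R, h2x, h2y]; module
      · fin_cases i
        · exact hv0
        · exact apply_ne_zero ρ c' hv0
        · exact apply_ne_zero ρ c' (apply_ne_zero ρ c' hv0)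
    have hinj : Function.Injective (![1, -3, -1] : Fin 3 → K) := by
      have h4 : (4 : K) ≠ 0 := by
        rw [show (4 : K) = 2 * 2 by norm_num]; exact mul_ne_zero h2 h2
      intro i j hij
      fin_cases i <;> fin_cases j <;> simp at hij ⊢ <;>
        first
          | exact h4 (by linear_combination hij)
          | exact h4 (by linear_combination -hij)
          | exact h2 (by linear_combination hij)
          | exact h2 (by linear_combination -hij)
    have hli := End.eigenvectors_linearIndependent' R _ hinj _ hR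
    have hspan := hli.span_eq_top_of_card_eq_finrank (by
      have := hli.fintype_card_le_finrank
      simp only [Fintype.card_fin] at this ⊢
      omega)
    have hsc : ρ u = s • 1 := by
      refine LinearMap.ext_on hspan ?_
      rintro _ ⟨i, rfl⟩
      fin_cases i <;> simp [hs, hs1, hs2]
    exact hg (eq_one_of_commute ρ (by omega) (u := u) (fun h => tri_ne_one hef hek hfk (by
      rw [← coe_triA hef hek hfk, ← hu, h]; rfl))
      (fun k => by rw [hsc]; exact (Commute.one_left _).smul_left s) g)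

/-- No representations of dimension three on six points, characteristic two. -/
theorem trivial_of_dim_le_three_char_two [IsAlgClosed K] (ρ : alternatingGroup α →* End K V)
    (h2 : (2 : K) = 0) (h6 : 6 ≤ Fintype.card α) (hn : finrank K V ≤ 3) (g : alternatingGroup α) :
    ρ g = 1 := by
  classical
  obtain ⟨l, hl, hnd⟩ := exists_extend ([] : List α) List.nodup_nil 6 (by simp; omega)
  match l, hl with
  | [a, b, c, d, e, f], _ =>
    simp only [List.nil_append, List.nodup_cons, List.mem_cons, List.not_mem_nil, or_false, not_or, ← ne_eq] at hnd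
    obtain ⟨⟨hab, hac, had, hae, haf⟩, ⟨hbc, hbd, hbe, hbf⟩, ⟨hcd, hce, hcf⟩, ⟨hde, hdf⟩, hef, -⟩ := hnd
    by_contra hg
    set c1 := triA a b c with hc1
    set c2 := triA d e f with hc2
    have hc1ne : c1 ≠ 1 := fun h => tri_ne_one hab hac hbc (by rw [← coe_triA hab hac hbc, ← hc1, h]; rfl)
    have hp1 : c1 ^ 3 = 1 := Subtype.ext (by
      rw [SubgroupClass.coe_pow, hc1, coe_triA hab hac hbc]; exact tri_pow_three hab hac hbc)
    have hp2 : c2 ^ 3 = 1 := Subtype.ext (by
      rw [SubgroupClass.coe_pow, hc2, coe_triA hde hdf hef]; exact tri_pow_three hde hdf hef)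
    have hcomm : c1 * c2 = c2 * c1 := commute_triA_of_fix
      (by rw [hc1, coe_triA hab hac hbc, tri_apply_of_ne had.symm hbd.symm hcd.symm])
      (by rw [hc1, coe_triA hab hac hbc, tri_apply_of_ne hae.symm hbe.symm hce.symm])
      (by rw [hc1, coe_triA hab hac hbc, tri_apply_of_ne haf.symm hbf.symm hcf.symm])
    set τp : Perm α := swap a d * (swap b f * swap f c * swap c e) with hτp
    let τ : alternatingGroup α := ⟨τp, by
      rw [mem_alternatingGroup, hτp, map_mul, map_mul, map_mul, sign_swap had, sign_swap hbf,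
        sign_swap hcf.symm, sign_swap hce]
      norm_num⟩
    have ta : τp a = d := by
      simp [hτp, swap_apply_of_ne_of_ne, hab, hac, haf, hae]
    have tb : τp b = f := by
      simp [hτp, swap_apply_of_ne_of_ne, hbc, hbe, hbf, haf.symm, hdf.symm]
    have tc : τp c = e := by
      simp [hτp, swap_apply_of_ne_of_ne, hbe.symm, hef, hce.symm, hae.symm, hde.symm]
    have td : τp d = a := by
      simp [hτp, swap_apply_of_ne_of_ne, hcd.symm, hde, hdf, hbd.symm]
    have te : τp e = b := by
      simp [hτp, swap_apply_of_ne_of_ne, hab.symm, hbd, hcf, hce, hbc.symm]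
    have tf : τp f = c := by
      simp [hτp, swap_apply_of_ne_of_ne, hcf.symm, hcf, hef.symm, hac.symm, hcd, hbc.symm]
    have hτ1 : τ * c1 * τ⁻¹ = c2⁻¹ := by
      rw [hc1, conj_triA]
      show triA (τp a) (τp b) (τp c) = _
      rw [ta, tb, tc]
      refine Subtype.ext ?_
      rw [Subgroup.coe_inv, hc2, coe_triA hde hdf hef, coe_triA hdf hde hef.symm, tri_inv hde hdf hef]
    have hτ2 : τ * c2 * τ⁻¹ = c1 := by
      rw [hc2, conj_triA]
      show triA (τp d) (τp e) (τp f) = _
      rw [td, te, tf]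
    have h3 : (3 : K) ≠ 0 := by
      rw [show (3 : K) = 1 + 2 by norm_num, h2, add_zero]; exact one_ne_zero
    obtain ⟨x, hx, hx1⟩ := RepBounds.exists_eigenvalue_pow_ne_one (ρ c1) (N := 3) (m := 1)
      (by exact_mod_cast h3) (by rw [← map_pow, hp1, map_one])
      (by rw [pow_one]; exact fun h => hg (eq_one_of_ker ρ (by omega) hc1ne h g))
    rw [pow_one] at hx1
    let T : Fin 2 → End K V := ![ρ c1, ρ c2]
    have hT : ∀ i j, Commute (T i) (T j) := by
      intro i j
      fin_cases i <;> fin_cases j <;> simp [T, Commute, SemiconjBy, ← map_mul, hcomm]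
    obtain ⟨v, hv, hv0, χ, hχ⟩ := RepBounds.exists_common_eigenvector T hT _ hx (fun i w hw => by
      fin_cases i
      · exact apply_mem_eigenspace ρ rfl hw
      · exact apply_mem_eigenspace ρ hcomm.symm hw)
    have hA : ρ c1 v = x • v := End.mem_eigenspace_iff.1 hv
    obtain ⟨y, hB⟩ : ∃ y : K, ρ c2 v = y • v := ⟨χ 1, hχ 1⟩
    have cube : ∀ {k : alternatingGroup α}, k ^ 3 = 1 → ∀ {t : K} {w : V}, w ≠ 0 → ρ k w = t • w →
        t ^ 3 = 1 := fun {k} hk {t} {w} hw h => by
      have : ρ (k ^ 3) w = t ^ 3 • w := by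
        rw [map_pow]; exact End.HasEigenvector.pow_apply ⟨End.mem_eigenspace_iff.2 h, hw⟩ 3
      rw [hk, map_one, End.one_apply] at this
      exact smul_left_injective K hw (by simpa using this.symm)
    have hx3 := cube hp1 hv0 hA
    have hy3 := cube hp2 hv0 hB
    -- one step of the orbit
    have step : ∀ {w : V} {s t : K}, w ≠ 0 → ρ c1 w = s • w → ρ c2 w = t • w →
        ρ τ w ≠ 0 ∧ ρ c1 (ρ τ w) = t • ρ τ w ∧ ρ c2 (ρ τ w) = s ^ 2 • ρ τ w := by
      intro w s t hw hs ht
      refine ⟨apply_ne_zero ρ τ hw, ?_, ?_⟩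
      · rw [← hτ2, map_mul, map_mul, End.mul_apply, End.mul_apply, inv_apply, ht, map_smul]
      · have e : c2 = τ * c1 ^ 2 * τ⁻¹ := by
          rw [← conj_pow, hτ1, inv_pow, eq_inv_iff_mul_eq_one, ← pow_succ', hp2]
        rw [e, map_mul, map_mul, End.mul_apply, End.mul_apply, inv_apply, map_pow,
          End.HasEigenvector.pow_apply ⟨End.mem_eigenspace_iff.2 hs, hw⟩ 2, map_smul]
    obtain ⟨h1n, h1a, h1b⟩ := step hv0 hA hB
    obtain ⟨h2n, h2a, h2b⟩ := step h1n h1a h1b
    obtain ⟨h3n, h3a, h3b⟩ := step h2n h2a h2b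
    have hxne : x ≠ 0 := fun h => by rw [h] at hx3; simp at hx3
    have key : ∀ s : K, s ^ 3 = 1 → s ^ 2 = 1 → s = 1 := fun s h h' => by linear_combination h - s * h'
    let J : Finset (Fin 2 → K) := {![x, y], ![y, x ^ 2], ![x ^ 2, y ^ 2], ![y ^ 2, (x ^ 2) ^ 2]}
    have hJ : J.card = 4 := by
      have e4 : (x ^ 2) ^ 2 = x := by linear_combination x * hx3
      have n1 : ![x, y] ≠ ![y, x ^ 2] := fun h => hx1 (by
        have a1 : x = y := congrFun h 0
        have a2 : y = x ^ 2 := congrFun h 1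
        have a3 : x * (x - 1) = 0 := by linear_combination -(a1 + a2)
        exact sub_eq_zero.1 ((mul_eq_zero.1 a3).resolve_left hxne))
      have n2 : ![x, y] ≠ ![x ^ 2, y ^ 2] := fun h => hx1 (by
        have a1 : x = x ^ 2 := congrFun h 0
        have a3 : x * (x - 1) = 0 := by linear_combination -a1
        exact sub_eq_zero.1 ((mul_eq_zero.1 a3).resolve_left hxne))
      have n3 : ![x, y] ≠ ![y ^ 2, (x ^ 2) ^ 2] := fun h => hx1 (by
        have a1 : x = y ^ 2 := congrFun h 0
        have a2 : y = (x ^ 2) ^ 2 := congrFun h 1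
        rw [a2, e4] at a1
        have a3 : x * (x - 1) = 0 := by linear_combination -a1
        exact sub_eq_zero.1 ((mul_eq_zero.1 a3).resolve_left hxne))
      have n4 : ![y, x ^ 2] ≠ ![x ^ 2, y ^ 2] := fun h => hx1 (by
        have a1 : y = x ^ 2 := congrFun h 0
        have a2 : x ^ 2 = y ^ 2 := congrFun h 1
        rw [a1, e4] at a2
        exact key x hx3 (by
          have a3 : x * (x - 1) = 0 := by linear_combination a2
          rw [sub_eq_zero.1 ((mul_eq_zero.1 a3).resolve_left hxne), one_pow]))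
      have n5 : ![y, x ^ 2] ≠ ![y ^ 2, (x ^ 2) ^ 2] := fun h => hx1 (by
        have a2 : x ^ 2 = (x ^ 2) ^ 2 := congrFun h 1
        rw [e4] at a2
        have a3 : x * (x - 1) = 0 := by linear_combination a2
        exact sub_eq_zero.1 ((mul_eq_zero.1 a3).resolve_left hxne))
      have n6 : ![x ^ 2, y ^ 2] ≠ ![y ^ 2, (x ^ 2) ^ 2] := fun h => hx1 (by
        have a1 : x ^ 2 = y ^ 2 := congrFun h 0
        have a2 : y ^ 2 = (x ^ 2) ^ 2 := congrFun h 1
        rw [e4, ← a1] at a2
        have a3 : x * (x - 1) = 0 := by linear_combination a2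
        exact sub_eq_zero.1 ((mul_eq_zero.1 a3).resolve_left hxne))
      exact Finset.card_eq_four.2 ⟨_, _, _, _, n1, n2, n3, n4, n5, n6, rfl⟩
    have hle : J.card ≤ finrank K V := by
      refine RepBounds.card_le_finrank_of_eigenchar T J fun χ hχ => ?_
      simp only [J, Finset.mem_insert, Finset.mem_singleton] at hχ
      rcases hχ with rfl | rfl | rfl | rfl
      · exact ⟨v, hv0, fun i => by fin_cases i <;> simp [T, hA, hB]⟩
      · exact ⟨_, h1n, fun i => by fin_cases i <;> simp [T, h1a, h1b]⟩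
      · exact ⟨_, h2n, fun i => by fin_cases i <;> simp [T, h2a, h2b]⟩
      · exact ⟨_, h3n, fun i => by fin_cases i <;> simp [T, h3a, h3b]⟩
    omega

end Cfsg.Agent.Lib.AltDegree52
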