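/-
Double covers of alternating groups in which some double transposition lifts to an involution.
-/
import Mathlib
import Cfsg.Agent.Lib.AltDegree52.Small2
import Cfsg.Agent.Lib.Brauer.AltMultiplier

set_option autoImplicit false

namespace Cfsg.Agent.Lib.AltDegree52

open Equiv Equiv.Perm
open Cfsg.Agent.Lib.Brauer.AltMultiplier (q cyc cyc_mem cyc_pow_three cyc_zero cyc_one cyc_q cyc_other
  card_closure_le closure_cyc q_injective q_ne_zero q_ne_one)

/-- If a minimal double cover had an involution over a double transposition it would be split. -/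
theorem lift_dt_sq_ne_one {m : ℕ} (hm : 2 ≤ m) {Γ : Type*} [Group Γ] [Finite Γ]
    (π : Γ →* alternatingGroup (Fin (m + 2))) (hsurj : Function.Surjective π)
    (hmin : ∀ M : Subgroup Γ, M.map π = ⊤ → M = ⊤) (hc : π.ker ≤ Subgroup.center Γ)
    (hcard : Nat.card π.ker = 2) (hm6 : 6 ≤ m + 2) {g : Γ} {a b c d : Fin (m + 2)}
    (h : [a, b, c, d].Nodup) (hg : π g = dtA a b c d) : g * g ≠ 1 := by
  intro hgg
  have hk2 : ∀ k ∈ π.ker, k * k = 1 := fun k hk => by
    have := pow_card_eq_one' (x := (⟨k, hk⟩ : π.ker))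
    rw [hcard, pow_two] at this
    exact congrArg Subtype.val this
  -- all lifts of double transpositions are involutions
  have hall : ∀ (g' : Γ) {x y z w : Fin (m + 2)}, [x, y, z, w].Nodup → π g' = dtA x y z w → g' * g' = 1 := by
    intro g' x y z w hxyzw hg'
    obtain ⟨σ, hσ, hmap⟩ := exists_map (f := ![a, b, c, d]) (g := ![x, y, z, w])
      (by rw [← List.nodup_ofFn]; simpa using h) (by rw [← List.nodup_ofFn]; simpa using hxyzw)
      (by rw [Fintype.card_fin]; omega)
    obtain ⟨s, hs⟩ := hsurj ⟨σ, hσ⟩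
    have hk : (s * g * s⁻¹)⁻¹ * g' ∈ π.ker := by
      rw [MonoidHom.mem_ker, map_mul, map_inv, map_mul, map_mul, map_inv, hs, hg, hg', conj_dtA]
      show (dtA (σ a) (σ b) (σ c) (σ d))⁻¹ * _ = 1
      rw [show σ a = x from hmap 0, show σ b = y from hmap 1, show σ c = z from hmap 2,
        show σ d = w from hmap 3, inv_mul_cancel]
    set k := (s * g * s⁻¹)⁻¹ * g' with hkdef
    have hg'eq : g' = s * g * s⁻¹ * k := by rw [hkdef, mul_inv_cancel_left]
    have hkc := Subgroup.mem_center_iff.1 (hc hk)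
    calc g' * g' = s * g * s⁻¹ * (k * (s * g * s⁻¹)) * k := by rw [hg'eq]; group
      _ = s * g * s⁻¹ * (s * g * s⁻¹ * k) * k := by rw [← hkc]
      _ = s * (g * g) * s⁻¹ * (k * k) := by group
      _ = 1 := by rw [hgg, hk2 k hk, mul_one, mul_one, mul_inv_cancel]
  -- lifts of the generating three-cycles
  have hex : ∀ i : Fin m, ∃ x : Γ, π x = ⟨cyc i, cyc_mem i⟩ ∧ x ^ 3 = 1 := by
    intro i
    obtain ⟨x, hx⟩ := hsurj ⟨cyc i, cyc_mem i⟩
    have hk : x ^ 3 ∈ π.ker := by
      rw [MonoidHom.mem_ker, map_pow, hx]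
      exact Subtype.ext (cyc_pow_three i)
    refine ⟨x * x ^ 3, by rw [map_mul, MonoidHom.mem_ker.1 hk, mul_one, hx], ?_⟩
    rw [((Commute.refl x).pow_right 3).mul_pow]
    have h2 := hk2 _ hk
    calc x ^ 3 * (x ^ 3) ^ 3 = (x ^ 3 * x ^ 3) * (x ^ 3 * x ^ 3) := by group
      _ = 1 := by rw [h2, mul_one]
  choose L hL hL3 using hex
  have hLL : ∀ i j, i ≠ j → (L i * L j) ^ 2 = 1 := by
    intro i j hij
    have hq : q i ≠ q j := fun e => hij (q_injective e)
    have h01 : (0 : Fin (m + 2)) ≠ 1 := by simp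
    rw [pow_two]
    refine hall (L i * L j) (x := 0) (y := q i) (z := 1) (w := q j)
      (by simp [hq, (q_ne_zero i).symm, (q_ne_zero j).symm, q_ne_one i, (q_ne_one j).symm]) ?_
    rw [map_mul, hL, hL]
    refine Subtype.ext (Equiv.ext fun y => ?_)
    rw [coe_dtA (q_ne_zero i).symm (q_ne_one j).symm]
    show cyc i (cyc j y) = _
    rcases eq_or_ne y 0 with rfl | h0
    · simp [dt, cyc_zero, cyc_one, swap_apply_of_ne_of_ne, (q_ne_zero j).symm]
    rcases eq_or_ne y 1 with rfl | h1
    · simp [dt, cyc_one, cyc_other, swap_apply_of_ne_of_ne, hq.symm, q_ne_zero, q_ne_one]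
    rcases eq_or_ne y (q j) with rfl | h2
    · simp [dt, cyc_zero, cyc_q, swap_apply_of_ne_of_ne, (q_ne_one i).symm]
    rcases eq_or_ne y (q i) with rfl | h3
    · simp [dt, cyc_q, cyc_other, swap_apply_of_ne_of_ne, hq, q_ne_zero, q_ne_one]
    simp [dt, cyc_other, swap_apply_of_ne_of_ne, h0, h1, h2, h3]
  have hb := card_closure_le m L hL3 hLL
  have htop : Subgroup.closure (Set.range L) = ⊤ := by
    refine hmin _ ?_
    rw [MonoidHom.map_closure, ← Set.range_comp,
      show π ∘ L = fun i => (⟨cyc i, cyc_mem i⟩ : alternatingGroup (Fin (m + 2))) from funext hL]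
    apply Subgroup.map_injective (alternatingGroup (Fin (m + 2))).subtype_injective
    rw [MonoidHom.map_closure, ← Set.range_comp, ← MonoidHom.range_eq_map, Subgroup.range_subtype]
    exact closure_cyc
  rw [htop, Subgroup.card_top] at hb
  have hA := two_mul_nat_card_alternatingGroup (α := Fin (m + 2))
  rw [Nat.card_perm, Nat.card_fin] at hA
  have hΓ : Nat.card Γ = Nat.card (alternatingGroup (Fin (m + 2))) * 2 := by
    rw [Subgroup.card_eq_card_quotient_mul_card_subgroup π.ker, hcard,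
      Nat.card_congr (QuotientGroup.quotientKerEquivOfSurjective π hsurj).toEquiv]
  have := Nat.factorial_pos (m + 2)
  omega

end Cfsg.Agent.Lib.AltDegree52
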