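/-
A cocycle of vectors gives a copy of the deleted permutation module.
-/
import Mathlib
import Cfsg.Agent.S0714

set_option autoImplicit false
set_option linter.unusedSectionVars false

namespace Cfsg.Agent.Lib.AltDegree52

open Module

variable {α : Type*} [Fintype α] [DecidableEq α]
variable {K V : Type*} [Field K] [AddCommGroup V] [Module K V] [FiniteDimensional K V]

/-- The degree of a nontrivial representation is at least that of the deleted permutation module. -/
def Big (K : Type*) [Field K] (r n : ℕ) : Prop := r ≤ n + 2 ∧ ((r : K) ≠ 0 → r ≤ n + 1)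

theorem big_of_cocycle (ρ : alternatingGroup α →* End K V) (hα : 5 ≤ Fintype.card α)
    (v : α → α → V) (hne : ∀ a b, a ≠ b → v a b ≠ 0) (hanti : ∀ a b, a ≠ b → v b a = -v a b)
    (hact : ∀ (g : alternatingGroup α) (a b : α), a ≠ b →
      ρ g (v a b) = v ((g : Equiv.Perm α) a) ((g : Equiv.Perm α) b))
    (hcoc : ∀ a b c, a ≠ b → b ≠ c → c ≠ a → v a b + v b c + v c a = 0) :
    Big K (Fintype.card α) (finrank K V) := by
  classical
  obtain ⟨o⟩ : Nonempty α := Fintype.card_pos_iff.1 (by omega)
  let w : α → V := fun x => if x = o then 0 else v x o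
  have hw : ∀ a b, a ≠ b → v a b = w a - w b := by
    intro a b hab
    rcases eq_or_ne b o with rfl | hb
    · simp [w, hab]
    rcases eq_or_ne a o with rfl | ha
    · simp [w, hb, hanti b a hb]
    · have h := hcoc a b o hab hb ha.symm
      rw [hanti a o ha] at h
      simp only [w, if_neg ha, if_neg hb]
      rw [← sub_eq_add_neg, sub_eq_zero] at h
      exact eq_sub_of_add_eq h
  have hρw : ∀ (g : alternatingGroup α) (x : α),
      ρ g (w x) = w ((g : Equiv.Perm α) x) - w ((g : Equiv.Perm α) o) := by
    intro g x
    rcases eq_or_ne x o with rfl | hx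
    · simp [w]
    · rw [← hw _ _ fun e => hx ((g : Equiv.Perm α).injective e), ← hact g x o hx]
      simp [w, hx]
  let T : (α → K) →ₗ[K] V := ∑ x, (LinearMap.proj x : (α → K) →ₗ[K] K).smulRight (w x)
  have hT : ∀ f, T f = ∑ x, f x • w x := fun f => by simp [T]
  let Z := Cfsg.permSumZero K (alternatingGroup α) α
  have hequi : ∀ (g : alternatingGroup α), ∀ f ∈ Z.toSubmodule,
      T (Cfsg.permRep K (alternatingGroup α) α g f) = ρ g (T f) := by
    intro g f hf
    have hf' : ∑ x, f x = 0 := hf
    rw [hT, hT, map_sum]
    simp only [map_smul, hρw, smul_sub, Finset.sum_sub_distrib, ← Finset.sum_smul, hf', zero_smul, sub_zero]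
    refine (Equiv.sum_comp (g : Equiv.Perm α) _).symm.trans (Finset.sum_congr rfl fun x _ => ?_)
    change f ((g : Equiv.Perm α).symm ((g : Equiv.Perm α) x)) • _ = _
    rw [Equiv.symm_apply_apply]
  let W : Subrepresentation (Cfsg.permRep K (alternatingGroup α) α) :=
    { toSubmodule := Z.toSubmodule ⊓ LinearMap.ker T
      apply_mem_toSubmodule := fun g f hf => ⟨Z.apply_mem_toSubmodule g hf.1, by
        rw [SetLike.mem_coe, LinearMap.mem_ker, hequi g f hf.1, LinearMap.mem_ker.1 hf.2, map_zero]⟩ }
  obtain ⟨a, b, hab⟩ := Fintype.exists_pair_of_one_lt_card (show 1 < Fintype.card α by omega)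
  let e : α → K := Pi.single a 1 - Pi.single b 1
  have heZ : e ∈ Z.toSubmodule := by
    show ∑ x, e x = 0
    simp [e]
  have heT : T e ≠ 0 := by
    rw [hT]
    have : ∑ x, e x • w x = w a - w b := by
      simp [e, sub_smul, Finset.sum_sub_distrib, Pi.single_apply, ite_smul]
    rw [this, ← hw a b hab]
    exact hne a b hab
  have heW : e ∉ W.toSubmodule := fun h => heT (LinearMap.mem_ker.1 h.2)
  have hWC : W.toSubmodule = ⊥ ∨ W.toSubmodule = Submodule.span K {fun _ : α => (1 : K)} := by
    rcases Cfsg.Agent.S0714.result hα W with h | h | h | h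
    · exact Or.inl h
    · exact Or.inr (congrArg Subrepresentation.toSubmodule h)
    · exact absurd (by rw [h]; exact heZ) heW
    · exact absurd (by rw [h]; trivial) heW
  -- dimensions
  let σ : (α → K) →ₗ[K] K := ∑ x, LinearMap.proj x
  have hσ : ∀ f, σ f = ∑ x, f x := fun f => by simp [σ]
  have hZdim : Fintype.card α = finrank K Z.toSubmodule + 1 := by
    have h1 := LinearMap.finrank_range_add_finrank_ker σ
    have hker : LinearMap.ker σ = Z.toSubmodule := by
      ext f; rw [LinearMap.mem_ker, hσ]; rfl
    have hrange : LinearMap.range σ = ⊤ := LinearMap.range_eq_top.2 fun c =>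
      ⟨Pi.single a c, by simp [hσ]⟩
    rw [hker, hrange, finrank_top, finrank_self, Module.finrank_pi] at h1
    omega
  have hmain : finrank K Z.toSubmodule ≤ finrank K W.toSubmodule + finrank K V := by
    have h1 := LinearMap.finrank_range_add_finrank_ker (T.domRestrict Z.toSubmodule)
    have h2 : finrank K (LinearMap.ker (T.domRestrict Z.toSubmodule)) = finrank K W.toSubmodule := by
      rw [LinearMap.ker_domRestrict]
      rw [show W.toSubmodule = Z.toSubmodule ⊓ LinearMap.ker T from rfl,
        ← Submodule.map_comap_subtype]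
      exact (Submodule.equivMapOfInjective _ Subtype.val_injective _).finrank_eq
    have h3 := Submodule.finrank_le (LinearMap.range (T.domRestrict Z.toSubmodule))
    omega
  have hone : (fun _ : α => (1 : K)) ≠ 0 := fun h => one_ne_zero (congrFun h a)
  constructor
  · rcases hWC with h | h
    · rw [h, finrank_bot] at hmain; omega
    · rw [h, finrank_span_singleton hone] at hmain; omega
  · intro hr
    rcases hWC with h | h
    · rw [h, finrank_bot] at hmain; omega
    · have h1 : (fun _ : α => (1 : K)) ∈ Z.toSubmodule :=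
        (h.ge (Submodule.mem_span_singleton_self _)).1
      exact absurd (by simpa using (show ∑ _x : α, (1 : K) = 0 from h1)) hr

end Cfsg.Agent.Lib.AltDegree52
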