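/-
Small representations of alternating groups, odd characteristic.
-/
import Mathlib
import Cfsg.Agent.Lib.AltDegree52.Small2
import Cfsg.Agent.Lib.AltDegree52.Finish

set_option autoImplicit false
set_option linter.unusedSectionVars false

namespace Cfsg.Agent.Lib.AltDegree52

open Equiv Equiv.Perm Module

universe v

variable {K : Type*} [Field K]

/-- Small representations of smaller alternating groups are trivial. -/
def TrivBelow (K : Type*) [Field K] (r : ℕ) : Prop :=
  ∀ (β : Type) [Fintype β] [DecidableEq β] (W : Type v) [AddCommGroup W] [Module K W]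
    [FiniteDimensional K W] (σ : alternatingGroup β →* End K W),
    9 ≤ Fintype.card β → Fintype.card β < r → finrank K W + 2 < Fintype.card β → ∀ g, σ g = 1

variable {α : Type} [Fintype α] [DecidableEq α]
variable {V : Type v} [AddCommGroup V] [Module K V] [FiniteDimensional K V]

/-- Triviality of small representations gives fixed points. -/
theorem fix_of_off (ρ : alternatingGroup α →* End K V) (s : List α) (W : Submodule K V)
    (hinv : ∀ g ∈ offSub s, ∀ v ∈ W, ρ g v ∈ W)
    (htriv : ∀ σ : alternatingGroup {x // x ∉ s} →* End K W, ∀ g, σ g = 1) :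
    ∀ g ∈ offSub s, ∀ v ∈ W, ρ g v = v := by
  intro g hg v hv
  obtain ⟨g', rfl⟩ : g ∈ (offHom s).range := by rw [offHom_range]; exact hg
  have h := htriv (resHom (ρ.comp (offHom s)) W (fun k x hx =>
    hinv _ (by rw [← offHom_range]; exact ⟨k, rfl⟩) x hx)) g'
  exact congrArg Subtype.val (LinearMap.congr_fun h ⟨v, hv⟩)

theorem mem_offSub_four {g : alternatingGroup α} {a b c d : α} (ha : (g : Perm α) a = a)
    (hb : (g : Perm α) b = b) (hc : (g : Perm α) c = c) (hd : (g : Perm α) d = d) :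
    g ∈ offSub [a, b, c, d] := fun x hx => by
  simp only [List.mem_cons, List.not_mem_nil, or_false] at hx
  rcases hx with rfl | rfl | rfl | rfl <;> assumption

theorem of_mem_offSub_four {g : alternatingGroup α} {a b c d : α} (hg : g ∈ offSub [a, b, c, d]) :
    (g : Perm α) a = a ∧ (g : Perm α) b = b ∧ (g : Perm α) c = c ∧ (g : Perm α) d = d :=
  ⟨hg a (by simp), hg b (by simp), hg c (by simp), hg d (by simp)⟩

/-- The outside permutations fix half of the negative eigenspace. -/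
theorem quad_fixed (ρ : alternatingGroup α →* End K V) (h2 : (2 : K) ≠ 0) (h9 : 9 ≤ Fintype.card α)
    (hn : finrank K V + 2 ≤ Fintype.card α) (IH : TrivBelow.{v} K (Fintype.card α)) {a b c d : α}
    (h : [a, b, c, d].Nodup) : ∀ g ∈ offSub [a, b, c, d], ∀ v ∈ quadX ρ a b c d, ρ g v = v := by
  refine fix_of_off ρ _ _ (fun g hg v hv => ?_) ?_
  · obtain ⟨ha, hb, hc, hd⟩ := of_mem_offSub_four hg
    exact ⟨apply_mem_eigenspace ρ (commute_of_fix ha hb hc hd) hv.1,
      apply_mem_eigenspace ρ (commute_of_fix ha hc hb hd) hv.2⟩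
  intro σ
  have hoff : Fintype.card {x // x ∉ [a, b, c, d]} = Fintype.card α - 4 := card_off h
  have hμ := (quad_dims ρ h2 h).2
  by_cases h13 : 13 ≤ Fintype.card α
  · exact IH _ _ σ (by omega) (by omega) (by omega)
  by_cases h11 : 11 ≤ Fintype.card α
  · exact trivial_of_dim_le_three σ h2 (by omega) (by omega)
  · exact trivial_of_dim_le_two σ h2 (by omega) (by omega)

/-- The outside permutations fix the negative eigenspace. -/
theorem negE_fixed (ρ : alternatingGroup α →* End K V) (h2 : (2 : K) ≠ 0) (h9 : 9 ≤ Fintype.card α)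
    (hn : finrank K V + 2 ≤ Fintype.card α) (IH : TrivBelow.{v} K (Fintype.card α)) {a b c d : α}
    (h : [a, b, c, d].Nodup) :
    ∀ g ∈ offSub [a, b, c, d], ∀ v ∈ negE ρ (dtA a b c d), ρ g v = v := by
  intro g hg v hv
  have h' : [a, b, d, c].Nodup := by
    obtain ⟨hab, hac, had, hbc, hbd, hcd⟩ := nodup_four h
    simp [hab, hac, had, hbc, hbd, hcd.symm]
  obtain ⟨hk, hk', hxx, hyy⟩ := dtA_klein' h
  have hyy' : ∀ w, ρ (dtA a c b d) (ρ (dtA a c b d) w) = w := fun w => by
    rw [← End.mul_apply, ← map_mul, hyy, map_one, End.one_apply]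
  have hzv : ∀ w ∈ negE ρ (dtA a b c d), ρ (dtA a b c d) (ρ (dtA a c b d) w) = -ρ (dtA a c b d) w :=
    fun w hw => by
      rw [← End.mul_apply, ← map_mul, hk, ← hk', map_mul, End.mul_apply, mem_negE.1 hw, map_neg]
  set y := ρ (dtA a c b d) v with hy
  have hg' : g ∈ offSub [a, b, d, c] := fun x hx => hg x (by
    simp only [List.mem_cons, List.not_mem_nil, or_false] at hx ⊢; tauto)
  have h1 : (2 : K)⁻¹ • (v + y) ∈ quadX ρ a b c d := by
    refine Submodule.smul_mem _ _ ⟨mem_negE.2 ?_, mem_posE.2 ?_⟩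
    · rw [map_add, mem_negE.1 hv, hzv v hv]; abel
    · rw [map_add, hyy', add_comm]
  have h1' : (2 : K)⁻¹ • (v - y) ∈ quadX ρ a b d c := by
    refine Submodule.smul_mem _ _ ⟨mem_negE.2 ?_, mem_posE.2 ?_⟩
    · rw [dtA_swap_right, map_sub, mem_negE.1 hv, hzv v hv]; abel
    · have hz : ∀ w, ρ (dtA a d b c) w = ρ (dtA a c b d) (ρ (dtA a b c d) w) := fun w => by
        rw [← End.mul_apply, ← map_mul, hk']
      rw [hz, map_sub, mem_negE.1 hv, hzv v hv, map_sub, map_neg, map_neg, hyy']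
      rw [← hy]; abel
  have e : v = (2 : K)⁻¹ • (v + y) + (2 : K)⁻¹ • (v - y) := by
    rw [← smul_add, show v + y + (v - y) = (2 : K) • v by rw [two_smul]; abel, smul_smul,
      inv_mul_cancel₀ h2, one_smul]
  rw [e, map_add, quad_fixed ρ h2 h9 hn IH h g hg _ h1, quad_fixed ρ h2 h9 hn IH h' g hg' _ h1']

/-- The negative eigenspace of a double transposition is two-dimensional. -/
theorem negE_dim (ρ : alternatingGroup α →* End K V) (h2 : (2 : K) ≠ 0) (h9 : 9 ≤ Fintype.card α)
    (hn : finrank K V + 2 ≤ Fintype.card α) (IH : TrivBelow.{v} K (Fintype.card α))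
    {g : alternatingGroup α} (hg : ρ g ≠ 1) {a b c d : α} (h : [a, b, c, d].Nodup) :
    finrank K (negE ρ (dtA a b c d)) = 2 := by
  obtain ⟨hA, hB⟩ := quad_dims ρ h2 h
  have h0 := quad_ne_bot ρ h2 (by omega) hg h
  set μ := finrank K (quadX ρ a b c d) with hμ
  suffices μ ≤ 1 by omega
  set r := Fintype.card α with hr
  let e : Fin r ≃ α := (Fintype.equivFin α).symm
  let pt : Fin (r / 4) → Fin 4 → α := fun i t => e ⟨4 * (i : ℕ) + (t : ℕ), by omega⟩
  have hpt : ∀ i j t s, pt i t = pt j s → i = j ∧ t = s := fun i j t s hh => by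
    have := congrArg Fin.val (e.injective hh)
    simp only at this
    refine ⟨Fin.ext ?_, Fin.ext ?_⟩ <;> omega
  have hnd : ∀ i, [pt i 0, pt i 1, pt i 2, pt i 3].Nodup := fun i => by
    have ne : ∀ t s, t ≠ s → pt i t ≠ pt i s := fun t s hts hh => hts (hpt i i t s hh).2
    simp [ne]
  let Y : Fin (r / 4) → Submodule K V := fun i =>
    negE ρ (dtA (pt i 0) (pt i 1) (pt i 2) (pt i 3)) ⊔
      (negE ρ (dtA (pt i 0) (pt i 2) (pt i 1) (pt i 3)) ⊓ posE ρ (dtA (pt i 0) (pt i 1) (pt i 2) (pt i 3)))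
  let F : Fin (r / 4) → Submodule K V := fun i =>
    posE ρ (dtA (pt i 0) (pt i 1) (pt i 2) (pt i 3)) ⊓ posE ρ (dtA (pt i 0) (pt i 2) (pt i 1) (pt i 3))
  have hbot : ∀ (x : alternatingGroup α) (v : V), v ∈ negE ρ x → v ∈ posE ρ x → v = 0 := by
    intro x v hv hv'
    have h1 := (mem_posE.1 hv').symm.trans (mem_negE.1 hv)
    refine (smul_eq_zero.1 (show (2 : K) • v = 0 from ?_)).resolve_left h2
    rw [two_smul]
    nth_rewrite 1 [h1]
    exact neg_add_cancel v
  have hY : ∀ i, finrank K (Y i) = 3 * μ := by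
    intro i
    have hd := hnd i
    obtain ⟨m0, m1, m2, m3, hp0, hp1, hp2, hp3⟩ : ∃ m0 m1 m2 m3,
        pt i 0 = m0 ∧ pt i 1 = m1 ∧ pt i 2 = m2 ∧ pt i 3 = m3 := ⟨_, _, _, _, rfl, rfl, rfl, rfl⟩
    simp only [hp0, hp1, hp2, hp3] at hd
    rw [show Y i = negE ρ (dtA m0 m1 m2 m3) ⊔
      (negE ρ (dtA m0 m2 m1 m3) ⊓ posE ρ (dtA m0 m1 m2 m3)) from by simp only [Y, hp0, hp1, hp2, hp3]]
    obtain ⟨h01, h02, h03, h12, h13, h23⟩ := nodup_four hd
    have hd' : [m0, m2, m1, m3].Nodup := by simp [h01, h02, h03, h12.symm, h23, h13]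
    obtain ⟨hA1, -⟩ := quad_dims ρ h2 hd
    obtain ⟨hA2, -⟩ := quad_dims ρ h2 hd'
    -- all such double transpositions are conjugate
    have hconj : ∀ {x y z w : α}, [x, y, z, w].Nodup →
        finrank K (negE ρ (dtA x y z w)) = finrank K (negE ρ (dtA a b c d)) := by
      intro x y z w hxyzw
      have i1 : Function.Injective ![a, b, c, d] := by
        rw [← List.nodup_ofFn]; simpa using h
      have i2 : Function.Injective ![x, y, z, w] := by
        rw [← List.nodup_ofFn]; simpa using hxyzw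
      obtain ⟨σ, hσ, hmap⟩ := exists_map i1 i2 (by omega)
      rw [← finrank_eigenspace_conj ρ ⟨σ, hσ⟩ (dtA a b c d), conj_dtA]
      exact congrArg (fun k => finrank K (negE ρ k)) (by
        rw [show σ a = x from hmap 0, show σ b = y from hmap 1, show σ c = z from hmap 2,
          show σ d = w from hmap 3])
    rw [hconj hd] at hA1
    rw [hconj hd'] at hA2
    have hsum := Submodule.finrank_sup_add_finrank_inf_eq (negE ρ (dtA m0 m1 m2 m3))
      (negE ρ (dtA m0 m2 m1 m3) ⊓ posE ρ (dtA m0 m1 m2 m3))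
    have hi : negE ρ (dtA m0 m1 m2 m3) ⊓ (negE ρ (dtA m0 m2 m1 m3) ⊓ posE ρ (dtA m0 m1 m2 m3)) = ⊥ :=
      eq_bot_iff.2 fun v hv => (Submodule.mem_bot _).2 (hbot _ v hv.1 hv.2.2)
    rw [hi, finrank_bot, hconj hd] at hsum
    change _ = _ + finrank K (quadX ρ m0 m2 m1 m3) at hsum
    omega
  have hF : ∀ i, Y i ⊓ F i = ⊥ := by
    intro i
    refine eq_bot_iff.2 fun v hv => (Submodule.mem_bot _).2 ?_
    obtain ⟨u, hu, w, hw, rfl⟩ := Submodule.mem_sup.1 hv.1
    have hu' : u ∈ posE ρ (dtA (pt i 0) (pt i 1) (pt i 2) (pt i 3)) := by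
      simpa using Submodule.sub_mem _ hv.2.1 hw.2
    rw [hbot _ u hu hu', zero_add]
    have := hv.2.2
    rw [hbot _ u hu hu', zero_add] at this
    exact hbot _ w hw.1 this
  have hle : ∀ i j, j ≠ i → Y j ≤ F i := by
    intro i j hji
    have hd := hnd j
    have hd' : [pt j 0, pt j 2, pt j 1, pt j 3].Nodup := by
      obtain ⟨h01, h02, h03, h12, h13, h23⟩ := nodup_four hd
      simp [h01, h02, h03, h12.symm, h23, h13]
    have hfix : ∀ t u w x, t ≠ u → w ≠ x → ∀ s,
        (dtA (pt i t) (pt i u) (pt i w) (pt i x) : Perm α) (pt j s) = pt j s := by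
      intro t u w x htu hwx s
      have ne : ∀ t', pt j s ≠ pt i t' := fun t' hh => hji (hpt _ _ _ _ hh).1
      rw [coe_dtA (fun hh => htu (hpt _ _ _ _ hh).2) (fun hh => hwx (hpt _ _ _ _ hh).2), dt,
        Perm.mul_apply, swap_apply_of_ne_of_ne (ne _) (ne _), swap_apply_of_ne_of_ne (ne _) (ne _)]
    refine sup_le (fun v hv => ⟨mem_posE.2 ?_, mem_posE.2 ?_⟩) (fun v hv => ⟨mem_posE.2 ?_, mem_posE.2 ?_⟩)
    · exact negE_fixed ρ h2 h9 hn IH hd _ (mem_offSub_four (hfix 0 1 2 3 (by decide) (by decide) _)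
        (hfix 0 1 2 3 (by decide) (by decide) _) (hfix 0 1 2 3 (by decide) (by decide) _)
        (hfix 0 1 2 3 (by decide) (by decide) _)) v hv
    · exact negE_fixed ρ h2 h9 hn IH hd _ (mem_offSub_four (hfix 0 2 1 3 (by decide) (by decide) _)
        (hfix 0 2 1 3 (by decide) (by decide) _) (hfix 0 2 1 3 (by decide) (by decide) _)
        (hfix 0 2 1 3 (by decide) (by decide) _)) v hv
    · exact quad_fixed ρ h2 h9 hn IH hd' _ (mem_offSub_four (hfix 0 1 2 3 (by decide) (by decide) _)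
        (hfix 0 1 2 3 (by decide) (by decide) _) (hfix 0 1 2 3 (by decide) (by decide) _)
        (hfix 0 1 2 3 (by decide) (by decide) _)) v hv
    · exact quad_fixed ρ h2 h9 hn IH hd' _ (mem_offSub_four (hfix 0 2 1 3 (by decide) (by decide) _)
        (hfix 0 2 1 3 (by decide) (by decide) _) (hfix 0 2 1 3 (by decide) (by decide) _)
        (hfix 0 2 1 3 (by decide) (by decide) _)) v hv
  have htot := sum_finrank_le_of_fixed Y F Finset.univ (fun i _ => hF i) (fun i _ j _ hji => hle i j hji)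
  simp only [hY, Finset.sum_const, Finset.card_univ, Fintype.card_fin, smul_eq_mul] at htot
  by_contra hμ1
  have : r / 4 * 6 ≤ r / 4 * (3 * μ) := Nat.mul_le_mul_left _ (by omega)
  omega

/-- The two-dimensional negative eigenspaces give lines indexed by pairs of points. -/
theorem lines_indep (ρ : alternatingGroup α →* End K V) (h2 : (2 : K) ≠ 0) (h9 : 9 ≤ Fintype.card α)
    (hn : finrank K V + 2 ≤ Fintype.card α) (IH : TrivBelow.{v} K (Fintype.card α)) {a b c d e f e' f' : α}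
    (h : [a, b, c, d].Nodup) (h' : [a, b, e, f].Nodup) (h'' : [a, b, e', f'].Nodup)
    (hce : c ≠ e) (hcf : c ≠ f) (hde : d ≠ e) (hdf : d ≠ f)
    (hce' : c ≠ e') (hcf' : c ≠ f') (hde' : d ≠ e') (hdf' : d ≠ f') :
    negE ρ (dtA a b c d) ⊓ negE ρ (dtA a b e f) ≤ negE ρ (dtA a b c d) ⊓ negE ρ (dtA a b e' f') := by
  intro v hv
  refine ⟨hv.1, mem_negE.2 ?_⟩
  obtain ⟨hab, hac, had, hbc, hbd, hcd⟩ := nodup_four h
  obtain ⟨-, hae, haf, hbe, hbf, hef⟩ := nodup_four h'
  obtain ⟨-, hae', haf', hbe', hbf', hef'⟩ := nodup_four h''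
  have hS' := (dtA_klein' h'').2.2.1
  have hmem : dtA a b e' f' * dtA a b e f ∈ offSub [a, b, c, d] := by
    refine mem_offSub_four ?_ ?_ ?_ ?_ <;>
      simp [coe_dtA hab hef, coe_dtA hab hef', dt, swap_apply_of_ne_of_ne, hac.symm, hbc.symm, had.symm,
        hbd.symm, *]
  have := negE_fixed ρ h2 h9 hn IH h _ hmem v hv.1
  rw [map_mul, End.mul_apply, mem_negE.1 hv.2, map_neg, neg_eq_iff_eq_neg] at this
  exact this

end Cfsg.Agent.Lib.AltDegree52
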