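/-
Small representations of alternating groups, characteristic two.
-/
import Mathlib
import Cfsg.Agent.Lib.AltDegree52.Odd

set_option autoImplicit false
set_option linter.unusedSectionVars false

namespace Cfsg.Agent.Lib.AltDegree52

open Equiv Equiv.Perm Module
open Cfsg.Agent.Lib.Alternating (tri tri_apply_left tri_apply_mid tri_apply_right tri_apply_of_ne)

universe v

variable {K : Type*} [Field K] [IsAlgClosed K]
variable {α : Type} [Fintype α] [DecidableEq α]
variable {V : Type v} [AddCommGroup V] [Module K V] [FiniteDimensional K V]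

theorem nodup_three {a b c : α} (h : [a, b, c].Nodup) : a ≠ b ∧ a ≠ c ∧ b ≠ c := by
  simp only [List.nodup_cons, List.mem_cons, List.not_mem_nil, or_false, not_or, ← ne_eq] at h
  tauto

theorem mem_offSub_three {g : alternatingGroup α} {a b c : α} (ha : (g : Perm α) a = a)
    (hb : (g : Perm α) b = b) (hc : (g : Perm α) c = c) : g ∈ offSub [a, b, c] := fun x hx => by
  simp only [List.mem_cons, List.not_mem_nil, or_false] at hx
  rcases hx with rfl | rfl | rfl <;> assumption

theorem of_mem_offSub_three {g : alternatingGroup α} {a b c : α} (hg : g ∈ offSub [a, b, c]) :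
    (g : Perm α) a = a ∧ (g : Perm α) b = b ∧ (g : Perm α) c = c :=
  ⟨hg a (by simp), hg b (by simp), hg c (by simp)⟩

theorem triA_pow_three {a b c : α} (h : [a, b, c].Nodup) : triA a b c ^ 3 = 1 := by
  obtain ⟨hab, hac, hbc⟩ := nodup_three h
  refine Subtype.ext ?_
  rw [SubgroupClass.coe_pow, coe_triA hab hac hbc]
  exact tri_pow_three hab hac hbc

theorem triA_ne_one {a b c : α} (h : [a, b, c].Nodup) : triA a b c ≠ 1 := fun e => by
  obtain ⟨hab, hac, hbc⟩ := nodup_three h
  exact tri_ne_one hab hac hbc (by rw [← coe_triA hab hac hbc, e]; rfl)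

theorem triA_rot {a b c : α} (h : [a, b, c].Nodup) : triA b c a = triA a b c := by
  obtain ⟨hab, hac, hbc⟩ := nodup_three h
  refine Subtype.ext ?_
  rw [coe_triA hbc hab.symm hac.symm, coe_triA hab hac hbc]
  exact tri_rot hab hac hbc

theorem triA_swap {a b c : α} (h : [a, b, c].Nodup) : triA b a c = (triA a b c)⁻¹ := by
  obtain ⟨hab, hac, hbc⟩ := nodup_three h
  refine Subtype.ext ?_
  rw [Subgroup.coe_inv, coe_triA hab.symm hbc hac, coe_triA hab hac hbc, tri_inv hab hac hbc,
    ← tri_rot hab.symm hbc hac]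

theorem three_ne_zero_of_two {F : Type*} [Field F] (h2 : (2 : F) = 0) : (3 : F) ≠ 0 := by
  rw [show (3 : F) = 1 + 2 by norm_num, h2, add_zero]; exact one_ne_zero

/-- The eigenspaces of a three-cycle. -/
abbrev triE (ρ : alternatingGroup α →* End K V) (a b c : α) (w : K) : Submodule K V :=
  End.eigenspace (ρ (triA a b c)) w

/-- The moved space of a three-cycle. -/
abbrev triW (ρ : alternatingGroup α →* End K V) (a b c : α) : Submodule K V :=
  LinearMap.range (ρ (triA a b c) - 1)

theorem map_triW (ρ : alternatingGroup α →* End K V) (g : alternatingGroup α) (a b c : α) :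
    (triW ρ a b c).map (ρ g) = triW ρ ((g : Perm α) a) ((g : Perm α) b) ((g : Perm α) c) := by
  rw [triW, map_range_sub_one, conj_triA]

theorem range_sub_one_inv {G : Type*} [Group G] (ρ : G →* End K V) (g : G) :
    LinearMap.range (ρ g⁻¹ - 1) = LinearMap.range (ρ g - 1) := by
  have h : ∀ k : G, LinearMap.range (ρ k⁻¹ - 1) ≤ LinearMap.range (ρ k - 1) := by
    rintro k _ ⟨x, rfl⟩
    refine ⟨-(ρ k⁻¹ x), ?_⟩
    rw [LinearMap.sub_apply, LinearMap.sub_apply, End.one_apply, End.one_apply, map_neg, apply_inv]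
    abel
  refine le_antisymm (h g) ?_
  simpa using h g⁻¹

theorem triE_finrank (ρ : alternatingGroup α →* End K V) (h9 : 9 ≤ Fintype.card α) {w : K}
    (hw : w ^ 2 + w + 1 = 0) (h2 : (2 : K) = 0) {a b c : α} (h : [a, b, c].Nodup) :
    finrank K (triE ρ a b c w) = finrank K (triE ρ a b c (w ^ 2)) ∧
      finrank K (triW ρ a b c) = 2 * finrank K (triE ρ a b c w) ∧
      finrank K (posE ρ (triA a b c)) + 2 * finrank K (triE ρ a b c w) = finrank K V ∧
      triW ρ a b c = triE ρ a b c w ⊔ triE ρ a b c (w ^ 2) ∧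
      triW ρ a b c ⊓ posE ρ (triA a b c) = ⊥ := by
  obtain ⟨hab, hac, hbc⟩ := nodup_three h
  have h3 := three_ne_zero_of_two h2
  have hcube : ρ (triA a b c) ^ 3 = 1 := by rw [← map_pow, triA_pow_three h, map_one]
  obtain ⟨hW, hWP⟩ := order_three_split _ hcube h3 hw
  obtain ⟨l, hl, hnd⟩ := exists_extend [a, b, c] h 2 (by simp; omega)
  match l, hl with
  | [x, y], _ =>
    simp only [List.cons_append, List.nil_append, List.nodup_cons, List.mem_cons, List.not_mem_nil, or_false,
      not_or, ← ne_eq] at hnd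
    obtain ⟨⟨-, -, hax, hay⟩, ⟨-, hbx, hby⟩, ⟨hcx, hcy⟩, hxy, -⟩ := hnd
    have hinv : dtA a b x y * triA a b c * (dtA a b x y)⁻¹ = (triA a b c)⁻¹ := by
      rw [conj_triA, coe_dtA hab hxy, ← triA_swap h]
      simp [dt, swap_apply_of_ne_of_ne, hax, hay, hbx, hby, hac.symm, hbc.symm, hcx, hcy]
    have hw3 : w ^ 3 = 1 := by linear_combination (w - 1) * hw
    have hw0 : w ≠ 0 := fun e => by rw [e] at hw3; simp at hw3
    have hstep : ∀ t : K, t ^ 3 = 1 → finrank K (triE ρ a b c t) ≤ finrank K (triE ρ a b c (t ^ 2)) := by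
      intro t ht
      rw [← finrank_eigenspace_conj ρ (dtA a b x y) (triA a b c) t, hinv]
      refine Submodule.finrank_mono fun v hv => ?_
      rw [End.mem_eigenspace_iff] at hv ⊢
      have h1 := congrArg (ρ (triA a b c)) hv
      rw [apply_inv, map_smul] at h1
      calc ρ (triA a b c) v = (t ^ 2 * t) • ρ (triA a b c) v := by
            rw [show t ^ 2 * t = 1 by linear_combination ht, one_smul]
        _ = t ^ 2 • v := by rw [← smul_smul, ← h1]
    have e1 := hstep w hw3
    have e2 := hstep (w ^ 2) (by linear_combination (w ^ 3 + 1) * hw3)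
    rw [show (w ^ 2) ^ 2 = w by linear_combination w * hw3] at e2
    have heq : finrank K (triE ρ a b c w) = finrank K (triE ρ a b c (w ^ 2)) := le_antisymm e1 e2
    have hne : w ≠ w ^ 2 := fun e => h3 (by
      have h1 : w = 1 := by
        have : w * (1 - w) = 0 := by linear_combination e
        exact (sub_eq_zero.1 ((mul_eq_zero.1 this).resolve_left hw0)).symm
      rw [h1] at hw; linear_combination hw)
    have hsum := Submodule.finrank_sup_add_finrank_inf_eq (triE ρ a b c w) (triE ρ a b c (w ^ 2))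
    rw [eigenspace_inf_eigenspace _ hne, finrank_bot, add_zero, ← hW] at hsum
    have hker : LinearMap.ker (ρ (triA a b c) - 1) = posE ρ (triA a b c) := by
      ext v; rw [LinearMap.mem_ker, LinearMap.sub_apply, End.one_apply, sub_eq_zero, mem_posE]
    have hrn := LinearMap.finrank_range_add_finrank_ker (ρ (triA a b c) - 1)
    rw [hker] at hrn
    refine ⟨heq, ?_, ?_, hW, hWP⟩
    · show finrank K (LinearMap.range _) = _
      omega
    · omega

theorem off_inv_triE (ρ : alternatingGroup α →* End K V) {a b c : α} {g : alternatingGroup α}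
    (hg : g ∈ offSub [a, b, c]) (w : K) {v : V} (hv : v ∈ triE ρ a b c w) : ρ g v ∈ triE ρ a b c w := by
  obtain ⟨ha, hb, hc⟩ := of_mem_offSub_three hg
  exact apply_mem_eigenspace ρ (commute_triA_of_fix ha hb hc) hv

/-- A five-cycle. -/
def cyc5 (a b c d e : α) : alternatingGroup α := triA a b c * triA c d e

theorem coe_cyc5 {a b c d e : α} (h : [a, b, c, d, e].Nodup) :
    (cyc5 a b c d e : Perm α) a = b ∧ (cyc5 a b c d e : Perm α) b = c ∧ (cyc5 a b c d e : Perm α) c = d ∧
      (cyc5 a b c d e : Perm α) d = e ∧ (cyc5 a b c d e : Perm α) e = a ∧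
      ∀ x, x ≠ a → x ≠ b → x ≠ c → x ≠ d → x ≠ e → (cyc5 a b c d e : Perm α) x = x := by
  simp only [List.nodup_cons, List.mem_cons, List.not_mem_nil, or_false, not_or, ← ne_eq] at h
  obtain ⟨⟨hab, hac, had, hae⟩, ⟨hbc, hbd, hbe⟩, ⟨hcd, hce⟩, hde, -⟩ := h
  simp only [cyc5, Subgroup.coe_mul, Perm.mul_apply, coe_triA hab hac hbc, coe_triA hcd hce hde]
  refine ⟨?_, ?_, ?_, ?_, ?_, fun x h1 h2 h3 h4 h5 => ?_⟩
  · rw [tri_apply_of_ne hac had hae, tri_apply_left hab hbc]
  · rw [tri_apply_of_ne hbc hbd hbe, tri_apply_mid]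
  · rw [tri_apply_left hcd hde, tri_apply_of_ne had.symm hbd.symm hcd.symm]
  · rw [tri_apply_mid, tri_apply_of_ne hae.symm hbe.symm hce.symm]
  · rw [tri_apply_right hce hde, tri_apply_right hac hbc]
  · rw [tri_apply_of_ne h3 h4 h5, tri_apply_of_ne h1 h2 h3]

theorem cyc5_pow_five {a b c d e : α} (h : [a, b, c, d, e].Nodup) : cyc5 a b c d e ^ 5 = 1 := by
  obtain ⟨ha, hb, hc, hd, he, ho⟩ := coe_cyc5 h
  refine Subtype.ext (Equiv.ext fun x => ?_)
  rw [SubgroupClass.coe_pow]
  simp only [pow_succ, pow_zero, one_mul, Perm.mul_apply, OneMemClass.coe_one, Perm.one_apply]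
  by_cases hxa : x = a; · simp [hxa, ha, hb, hc, hd, he]
  by_cases hxb : x = b; · simp [hxb, ha, hb, hc, hd, he]
  by_cases hxc : x = c; · simp [hxc, ha, hb, hc, hd, he]
  by_cases hxd : x = d; · simp [hxd, ha, hb, hc, hd, he]
  by_cases hxe : x = e; · simp [hxe, ha, hb, hc, hd, he]
  simp [ho x hxa hxb hxc hxd hxe]

/-- The normaliser of a five-cycle squares it. -/
theorem cyc5_conj_sq {a b c d e x y : α} (h : [a, b, c, d, e, x, y].Nodup) :
    ∃ σ : alternatingGroup α, σ * cyc5 a b c d e * σ⁻¹ = cyc5 a b c d e ^ 2 := by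
  have h5 : [a, b, c, d, e].Nodup := h.sublist (by simp)
  simp only [List.nodup_cons, List.mem_cons, List.not_mem_nil, or_false, not_or, ← ne_eq] at h
  obtain ⟨⟨hab, hac, had, hae, hax, hay⟩, ⟨hbc, hbd, hbe, hbx, hby⟩, ⟨hcd, hce, hcx, hcy⟩, ⟨hde, hdx, hdy⟩,
    ⟨hex, hey⟩, hxy, -⟩ := h
  obtain ⟨ga, gb, gc, gd, ge, go⟩ := coe_cyc5 h5
  set s : Perm α := swap b c * (swap c e * swap e d) * swap x y with hs
  let σ : alternatingGroup α := ⟨s, by
    rw [mem_alternatingGroup, hs, map_mul, map_mul, map_mul, sign_swap hbc, sign_swap hce, sign_swap hde.symm,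
      sign_swap hxy]
    norm_num⟩
  have sa : s a = a := by simp [hs, swap_apply_of_ne_of_ne, hab, hac, had, hae, hax, hay]
  have sb : s b = c := by simp [hs, swap_apply_of_ne_of_ne, hbc, hbd, hbe, hbx, hby]
  have sc : s c = e := by simp [hs, swap_apply_of_ne_of_ne, hcd, hce, hcx, hcy, hbe.symm, hce.symm]
  have sd : s d = b := by simp [hs, swap_apply_of_ne_of_ne, hdx, hdy, hbc]
  have se : s e = d := by
    simp [hs, swap_apply_of_ne_of_ne, hex, hey, hbd.symm, hcd.symm, hde, hde.symm, hce.symm]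
  refine ⟨σ, ?_⟩
  conv_lhs => rw [cyc5, ← conj_mul, conj_triA, conj_triA]
  show triA (s a) (s b) (s c) * triA (s c) (s d) (s e) = _
  rw [sa, sb, sc, sd, se]
  have h5' : [a, c, e, b, d].Nodup := by simp [hac, hae, hab, had, hce, hbc.symm, hcd, hbe.symm, hde.symm, hbd]
  obtain ⟨pa, pc, pe, pb, pd, po⟩ := coe_cyc5 h5'
  rw [← cyc5]
  refine Subtype.ext (Equiv.ext fun z => ?_)
  rw [SubgroupClass.coe_pow, pow_two, Perm.mul_apply]
  by_cases hza : z = a; · simp [hza, pa, ga, gb]
  by_cases hzb : z = b; · simp [hzb, pb, gb, gc]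
  by_cases hzc : z = c; · simp [hzc, pc, gc, gd]
  by_cases hzd : z = d; · simp [hzd, pd, gd, ge]
  by_cases hze : z = e; · simp [hze, pe, ge, ga]
  simp [go z hza hzb hzc hzd hze, po z hza hzc hze hzb hzd]

/-- Degree eleven: the three-cycles do not have four-dimensional eigenspaces. -/
theorem no_four_eleven (ρ : alternatingGroup α →* End K V) (h2 : (2 : K) = 0) (h11 : Fintype.card α = 11)
    (hn : finrank K V ≤ 9) {k₀ : alternatingGroup α} (hk₀ : ρ k₀ ≠ 1) {w : K} (hw : w ^ 2 + w + 1 = 0)
    {a b c : α} (h : [a, b, c].Nodup) (hm : finrank K (triE ρ a b c w) = 4) : False := by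
  have hd0 : finrank K (posE ρ (triA a b c)) ≤ 1 := by
    have := (triE_finrank ρ (by omega) hw h2 h).2.2.1
    omega
  have hfix : ∀ g ∈ offSub [a, b, c], ∀ v ∈ posE ρ (triA a b c), ρ g v = v := by
    refine fix_of_off ρ _ _ (fun g hg v hv => off_inv_triE ρ hg 1 hv)
      (fun σ => eq_one_of_dim_le_one σ ?_ hd0)
    rw [card_off h]; simp only [List.length_cons, List.length_nil]; omega
  obtain ⟨l, hl, hnd⟩ := exists_extend [a, b, c] h 7 (by simp; omega)
  match l, hl with
  | [p, q, r, s, t, x, y], _ =>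
    obtain ⟨σ, hσ⟩ := cyc5_conj_sq (a := p) (b := q) (c := r) (d := s) (e := t) (x := x) (y := y)
      (List.Nodup.of_append_right hnd)
    simp only [List.cons_append, List.nil_append, List.nodup_cons, List.mem_cons, List.not_mem_nil, or_false,
      not_or, ← ne_eq] at hnd
    obtain ⟨⟨-, -, hap, haq, har, has, hat, -, -⟩, ⟨-, hbp, hbq, hbr, hbs, hbt, -, -⟩,
      ⟨hcp, hcq, hcr, hcs, hct, -, -⟩, ⟨hpq, hpr, hps, hpt, -, -⟩, ⟨hqr, hqs, hqt, -, -⟩,
      ⟨hrs, hrt, -, -⟩, ⟨hst, -, -⟩, -⟩ := hnd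
    set g := cyc5 p q r s t with hg
    have h5 : [p, q, r, s, t].Nodup := by simp [*]
    obtain ⟨gp, -, -, -, -, go⟩ := coe_cyc5 h5
    have hgne : g ≠ 1 := fun e => hpq (by
      rw [← hg, e] at gp; simpa using gp)
    have hg5 : ρ g ^ 5 = 1 := by rw [← map_pow, hg, cyc5_pow_five h5, map_one]
    have h5K : ((5 : ℕ) : K) ≠ 0 := by
      rw [show ((5 : ℕ) : K) = 1 + 2 * 2 by norm_num, h2, mul_zero, add_zero]; exact one_ne_zero
    obtain ⟨z, hz, hz1⟩ := RepBounds.exists_eigenvalue_pow_ne_one (ρ g) (N := 5) (m := 1) h5K hg5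
      (by rw [pow_one]; exact fun e => hk₀ (eq_one_of_ker ρ (by omega) hgne e k₀))
    rw [pow_one] at hz1
    obtain ⟨v, hv, hv0⟩ := Submodule.exists_mem_ne_zero_of_ne_bot hz
    have hz5 : z ^ 5 = 1 := by
      have h1 := End.HasEigenvector.pow_apply ⟨hv, hv0⟩ 5
      rw [hg5, End.one_apply] at h1
      exact smul_left_injective K hv0 (by simpa using h1.symm)
    have hstep : ∀ u : K, finrank K (End.eigenspace (ρ g) u) ≤ finrank K (End.eigenspace (ρ g) (u ^ 3)) := by
      intro u
      rw [← finrank_eigenspace_conj ρ σ g u, hσ]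
      refine Submodule.finrank_mono fun x hx => ?_
      rcases eq_or_ne x 0 with rfl | hx0
      · exact Submodule.zero_mem _
      rw [End.mem_eigenspace_iff]
      have h1 := End.HasEigenvector.pow_apply ⟨hx, hx0⟩ 3
      rwa [← map_pow, ← pow_mul, show 2 * 3 = 5 + 1 from rfl, pow_succ, hg, cyc5_pow_five h5, one_mul,
        ← hg] at h1
    have hzne : z ≠ 0 := fun e => by rw [e] at hz5; simp at hz5
    classical
    have hdist : ∀ i : ℕ, i ≤ 4 → i ≠ 0 → z ^ i ≠ 1 := by
      intro i hi h0 e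
      apply hz1
      interval_cases i
      · exact absurd rfl h0
      · simpa using e
      · linear_combination hz5 - z * (z ^ 2 + 1) * e
      · linear_combination (z ^ 3 + 1) * e - z * hz5
      · linear_combination hz5 - z * e
    have hle : finrank K (End.eigenspace (ρ g) z) ≤ 2 := by
      have e1 := hstep z
      have e2 := hstep (z ^ 3)
      have e3 := hstep (z ^ 4)
      rw [show (z ^ 3) ^ 3 = z ^ 4 by linear_combination z ^ 4 * hz5] at e2
      rw [show (z ^ 4) ^ 3 = z ^ 2 by linear_combination (z ^ 7 + z ^ 2) * hz5] at e3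
      have hne : ∀ i j : ℕ, i ≤ 4 → j ≤ 4 → i < j → z ^ i ≠ z ^ j := fun i j _ hj hij e => by
        refine hdist (j - i) (by omega) (by omega) ?_
        refine mul_left_cancel₀ (pow_ne_zero i hzne) ?_
        rw [mul_one, ← pow_add, Nat.add_sub_cancel' hij.le, e]
      have hsum := sum_eigenspace_le (ρ g) {z ^ 1, z ^ 2, z ^ 3, z ^ 4}
      rw [Finset.sum_insert (by
          simp only [Finset.mem_insert, Finset.mem_singleton, not_or]
          exact ⟨hne 1 2 (by norm_num) (by norm_num) (by norm_num), hne 1 3 (by norm_num) (by norm_num) (by norm_num),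
            hne 1 4 (by norm_num) (by norm_num) (by norm_num)⟩),
        Finset.sum_insert (by
          simp only [Finset.mem_insert, Finset.mem_singleton, not_or]
          exact ⟨hne 2 3 (by norm_num) (by norm_num) (by norm_num), hne 2 4 (by norm_num) (by norm_num) (by norm_num)⟩),
        Finset.sum_insert (by
          simp only [Finset.mem_singleton]
          exact hne 3 4 (by norm_num) (by norm_num) (by norm_num)),
        Finset.sum_singleton, pow_one] at hsum
      omega
    have hoff : ∀ k ∈ offSub [p, q, r, s, t], ∀ u ∈ End.eigenspace (ρ g) z, ρ k u = u := by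
      refine fix_of_off ρ _ _ (fun k hk u hu => apply_mem_eigenspace ρ ?_ hu)
        (fun σ => trivial_of_dim_le_three_char_two σ h2 ?_ (by omega))
      · rw [hg, cyc5, ← mul_assoc, commute_triA_of_fix (hk p (by simp)) (hk q (by simp)) (hk r (by simp)),
          mul_assoc, commute_triA_of_fix (hk r (by simp)) (hk s (by simp)) (hk t (by simp)), ← mul_assoc]
      · rw [card_off h5]; simp only [List.length_cons, List.length_nil]; omega
    obtain ⟨hab, hac, hbc⟩ := nodup_three h
    have hcv : v ∈ posE ρ (triA a b c) := mem_posE.2 (hoff _ (fun x hx => by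
      simp only [List.mem_cons, List.not_mem_nil, or_false] at hx
      rw [coe_triA hab hac hbc]
      rcases hx with rfl | rfl | rfl | rfl | rfl
      · exact tri_apply_of_ne hap.symm hbp.symm hcp.symm
      · exact tri_apply_of_ne haq.symm hbq.symm hcq.symm
      · exact tri_apply_of_ne har.symm hbr.symm hcr.symm
      · exact tri_apply_of_ne has.symm hbs.symm hcs.symm
      · exact tri_apply_of_ne hat.symm hbt.symm hct.symm) v hv)
    have := hfix g (mem_offSub_three (go a hap haq har has hat) (go b hbp hbq hbr hbs hbt)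
      (go c hcp hcq hcr hcs hct)) v hcv
    rw [End.mem_eigenspace_iff.1 hv] at this
    exact hz1 (smul_left_injective K hv0 (by simpa using this))

end Cfsg.Agent.Lib.AltDegree52
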