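/-
The deleted permutation module is the smallest one, odd characteristic.
-/
import Mathlib
import Cfsg.Agent.Lib.AltDegree52.Odd

set_option autoImplicit false
set_option linter.unusedSectionVars false

namespace Cfsg.Agent.Lib.AltDegree52

open Equiv Equiv.Perm Module

universe v

variable {K : Type*} [Field K]
variable {α : Type} [Fintype α] [DecidableEq α]
variable {V : Type v} [AddCommGroup V] [Module K V] [FiniteDimensional K V]

theorem nodup_six {a b c d e f : α} (h : [a, b, c, d, e, f].Nodup) :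
    a ≠ b ∧ a ≠ c ∧ a ≠ d ∧ a ≠ e ∧ a ≠ f ∧ b ≠ c ∧ b ≠ d ∧ b ≠ e ∧ b ≠ f ∧ c ≠ d ∧ c ≠ e ∧ c ≠ f ∧
      d ≠ e ∧ d ≠ f ∧ e ≠ f := by
  simp only [List.nodup_cons, List.mem_cons, List.not_mem_nil, or_false, not_or, ← ne_eq] at h
  tauto

theorem nodup_six_mk {a b c d e f : α} (hab : a ≠ b) (hac : a ≠ c) (had : a ≠ d) (hae : a ≠ e)
    (haf : a ≠ f) (hbc : b ≠ c) (hbd : b ≠ d) (hbe : b ≠ e) (hbf : b ≠ f) (hcd : c ≠ d) (hce : c ≠ e)
    (hcf : c ≠ f) (hde : d ≠ e) (hdf : d ≠ f) (hef : e ≠ f) : [a, b, c, d, e, f].Nodup := by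
  simp [*]

/-- A line attached to the pair `a`, `b`. -/
abbrev lineM (ρ : alternatingGroup α →* End K V) (a b c d e f : α) : Submodule K V :=
  negE ρ (dtA a b c d) ⊓ negE ρ (dtA a b e f)

section
variable (ρ : alternatingGroup α →* End K V) (h2 : (2 : K) ≠ 0) (h9 : 9 ≤ Fintype.card α)
    (hn : finrank K V + 2 ≤ Fintype.card α) (IH : TrivBelow.{v} K (Fintype.card α))
include h2 h9 hn IH

theorem lineM_step {a b c d e f e' f' : α} (h : [a, b, c, d, e, f].Nodup)
    (h' : [a, b, c, d, e', f'].Nodup) : lineM ρ a b c d e f = lineM ρ a b c d e' f' := by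
  obtain ⟨hab, hac, had, hae, haf, hbc, hbd, hbe, hbf, hcd, hce, hcf, hde, hdf, hef⟩ := nodup_six h
  obtain ⟨-, -, -, hae', haf', -, -, hbe', hbf', -, hce', hcf', hde', hdf', hef'⟩ := nodup_six h'
  have q1 : [a, b, c, d].Nodup := by simp [*]
  have q2 : [a, b, e, f].Nodup := by simp [*]
  have q3 : [a, b, e', f'].Nodup := by simp [*]
  exact le_antisymm (lines_indep ρ h2 h9 hn IH q1 q2 q3 hce hcf hde hdf hce' hcf' hde' hdf')
    (lines_indep ρ h2 h9 hn IH q1 q3 q2 hce' hcf' hde' hdf' hce hcf hde hdf)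

theorem lineM_eq {a b c d e f c' d' e' f' : α} (h : [a, b, c, d, e, f].Nodup)
    (h' : [a, b, c', d', e', f'].Nodup) : lineM ρ a b c d e f = lineM ρ a b c' d' e' f' := by
  obtain ⟨g, hg⟩ := exists_fresh [a, b, c, d, c', d'] (by simp; omega)
  obtain ⟨k, hk⟩ := exists_fresh [g, a, b, c, d, c', d'] (by simp; omega)
  simp only [List.mem_cons, List.not_mem_nil, or_false, not_or, ← ne_eq] at hg hk
  obtain ⟨hga, hgb, hgc, hgd, hgc', hgd'⟩ := hg
  obtain ⟨hkg, hka, hkb, hkc, hkd, hkc', hkd'⟩ := hk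
  obtain ⟨hab, hac, had, hae, haf, hbc, hbd, hbe, hbf, hcd, hce, hcf, hde, hdf, hef⟩ := nodup_six h
  obtain ⟨-, hac', had', hae', haf', hbc', hbd', hbe', hbf', hcd', hce', hcf', hde', hdf', hef'⟩ := nodup_six h'
  have m1 : [a, b, c, d, g, k].Nodup := nodup_six_mk hab hac had hga.symm hka.symm hbc hbd hgb.symm hkb.symm
    hcd hgc.symm hkc.symm hgd.symm hkd.symm hkg.symm
  have m2 : [a, b, g, k, c, d].Nodup := nodup_six_mk hab hga.symm hka.symm hac had hgb.symm hkb.symm hbc hbd
    hkg.symm hgc hgd hkc hkd hcd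
  have m3 : [a, b, g, k, c', d'].Nodup := nodup_six_mk hab hga.symm hka.symm hac' had' hgb.symm hkb.symm
    hbc' hbd' hkg.symm hgc' hgd' hkc' hkd' hcd'
  have m4 : [a, b, c', d', g, k].Nodup := nodup_six_mk hab hac' had' hga.symm hka.symm hbc' hbd' hgb.symm
    hkb.symm hcd' hgc'.symm hkc'.symm hgd'.symm hkd'.symm hkg.symm
  calc lineM ρ a b c d e f = lineM ρ a b c d g k := lineM_step ρ h2 h9 hn IH h m1
    _ = lineM ρ a b g k c d := inf_comm _ _
    _ = lineM ρ a b g k c' d' := lineM_step ρ h2 h9 hn IH m2 m3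
    _ = lineM ρ a b c' d' g k := inf_comm _ _
    _ = lineM ρ a b c' d' e' f' := lineM_step ρ h2 h9 hn IH m4 h'

theorem lineM_dim {k₀ : alternatingGroup α} (hk₀ : ρ k₀ ≠ 1) {a b c d e f : α}
    (h : [a, b, c, d, e, f].Nodup) : finrank K (lineM ρ a b c d e f) = 1 := by
  obtain ⟨hab, hac, had, hae, haf, hbc, hbd, hbe, hbf, hcd, hce, hcf, hde, hdf, hef⟩ := nodup_six h
  have q1 : [a, b, c, d].Nodup := by simp [*]
  have q2 : [a, b, e, f].Nodup := by simp [*]
  have q3 : [c, d, e, f].Nodup := by simp [*]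
  set T := dtA a b c d with hT
  set S := dtA a b e f with hS
  set U := dtA c d e f with hU
  have sab := swap_comm_of_disjoint (a := a) (b := b) hac had hbc hbd
  have hTS : T * S = U := Subtype.ext (by
    rw [Subgroup.coe_mul, hT, hS, hU, coe_dtA hab hcd, coe_dtA hab hef, coe_dtA hcd hef, dt, dt, dt, sab,
      mul_assoc, ← mul_assoc (swap a b), swap_mul_self, one_mul])
  have hST : S * T = U := Subtype.ext (by
    rw [Subgroup.coe_mul, hT, hS, hU, coe_dtA hab hcd, coe_dtA hab hef, coe_dtA hcd hef, dt, dt, dt,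
      swap_comm_of_disjoint hae haf hbe hbf, mul_assoc, ← mul_assoc (swap a b), swap_mul_self, one_mul,
      swap_comm_of_disjoint (a := c) (b := d) hce hcf hde hdf])
  have dT := negE_dim ρ h2 h9 hn IH hk₀ q1
  have dS := negE_dim ρ h2 h9 hn IH hk₀ q2
  have dU := negE_dim ρ h2 h9 hn IH hk₀ q3
  rw [← hT] at dT
  rw [← hS] at dS
  rw [← hU] at dU
  have hTT : ρ T * ρ T = 1 := by rw [← map_mul, (dtA_klein' q1).2.2.1, map_one]
  have hSS : ρ S * ρ S = 1 := by rw [← map_mul, (dtA_klein' q2).2.2.1, map_one]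
  have s1 := finrank_involution_split (ρ T) hTT h2 (negE ρ S)
    (fun x hx => apply_mem_eigenspace ρ (hTS.trans hST.symm) hx)
  have s2 := finrank_involution_split (ρ S) hSS h2 (negE ρ T)
    (fun x hx => apply_mem_eigenspace ρ (hST.trans hTS.symm) hx)
  have hTU : T * U = U * T := by rw [← hTS, mul_assoc, hST, ← hTS]
  have s3 := finrank_involution_split (ρ T) hTT h2 (negE ρ U)
    (fun x hx => apply_mem_eigenspace ρ hTU hx)
  have hUv : ∀ x, ρ U x = ρ S (ρ T x) := fun x => by rw [← End.mul_apply, ← map_mul, hST]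
  have e1 : negE ρ U ⊓ posE ρ T = negE ρ S ⊓ posE ρ T := by
    ext x
    simp only [Submodule.mem_inf, mem_negE, mem_posE]
    constructor <;> rintro ⟨h1, h1'⟩
    · exact ⟨by rw [hUv, h1'] at h1; exact h1, h1'⟩
    · exact ⟨by rw [hUv, h1']; exact h1, h1'⟩
  have e2 : negE ρ U ⊓ negE ρ T = negE ρ T ⊓ posE ρ S := by
    ext x
    simp only [Submodule.mem_inf, mem_negE, mem_posE]
    constructor <;> rintro ⟨h1, h1'⟩
    · exact ⟨h1', by rw [hUv, h1', map_neg, neg_inj] at h1; exact h1⟩
    · exact ⟨by rw [hUv, h1, map_neg, h1'], h1⟩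
  change finrank K (negE ρ U) = finrank K ↥(negE ρ U ⊓ posE ρ T) + finrank K ↥(negE ρ U ⊓ negE ρ T) at s3
  rw [e1, e2] at s3
  change finrank K (negE ρ S) = finrank K ↥(negE ρ S ⊓ posE ρ T) + finrank K ↥(negE ρ S ⊓ negE ρ T) at s1
  change finrank K (negE ρ T) = finrank K ↥(negE ρ T ⊓ posE ρ S) + finrank K ↥(negE ρ T ⊓ negE ρ S) at s2
  rw [inf_comm (negE ρ S) (negE ρ T)] at s1
  show finrank K ↥(negE ρ T ⊓ negE ρ S) = 1
  omega

/-- Vectors indexed by pairs of points. -/
theorem exists_pair_vectors {k₀ : alternatingGroup α} (hk₀ : ρ k₀ ≠ 1) :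
    ∃ v : α → α → V, (∀ a b, a ≠ b → v a b ≠ 0) ∧ (∀ a b, a ≠ b → v b a = -v a b) ∧
      (∀ (g : alternatingGroup α) (a b : α), a ≠ b →
        ρ g (v a b) = v ((g : Perm α) a) ((g : Perm α) b)) ∧
      (∀ a b c d, [a, b, c, d].Nodup → ρ (dtA a b c d) (v a b) = -v a b) := by
  classical
  obtain ⟨l, hl, hnd⟩ := exists_extend ([] : List α) List.nodup_nil 6 (by simp; omega)
  match l, hl with
  | [o0, o1, o2, o3, o4, o5], _ =>
    rw [List.nil_append] at hnd
    set W := lineM ρ o0 o1 o2 o3 o4 o5 with hW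
    have hW1 := lineM_dim ρ h2 h9 hn IH hk₀ hnd
    rw [← hW] at hW1
    obtain ⟨v0, hv0, hv00⟩ := Submodule.exists_mem_ne_zero_of_ne_bot (p := W)
      (fun hb => by rw [hb, finrank_bot] at hW1; exact one_ne_zero hW1.symm)
    obtain ⟨h01, -⟩ := nodup_six hnd
    -- transport of lines
    have hmap : ∀ (g : alternatingGroup α), ∀ x ∈ W, ρ g x ∈ lineM ρ ((g : Perm α) o0) ((g : Perm α) o1)
        ((g : Perm α) o2) ((g : Perm α) o3) ((g : Perm α) o4) ((g : Perm α) o5) := fun g x hx =>
      ⟨apply_mem_eigenspace ρ (mul_inv_eq_iff_eq_mul.1 (conj_dtA g o0 o1 o2 o3)) hx.1,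
        apply_mem_eigenspace ρ (mul_inv_eq_iff_eq_mul.1 (conj_dtA g o0 o1 o4 o5)) hx.2⟩
    have hnd' : ∀ g : alternatingGroup α, [(g : Perm α) o0, (g : Perm α) o1, (g : Perm α) o2,
        (g : Perm α) o3, (g : Perm α) o4, (g : Perm α) o5].Nodup := fun g => by
      have := hnd.map (g : Perm α).injective
      simpa using this
    have hstab : ∀ g ∈ offSub [o0, o1], ∀ x ∈ W, ρ g x = x := by
      refine fix_of_off ρ _ _ (fun g hg x hx => ?_) (fun σ => eq_one_of_dim_le_one σ ?_ hW1.le)
      · have h1 := hmap g x hx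
        have hd := hnd' g
        rw [hg o0 (by simp), hg o1 (by simp)] at h1 hd
        rwa [← lineM_eq ρ h2 h9 hn IH hnd hd] at h1
      · rw [card_off (by simpa using h01)]
        simp only [List.length_cons, List.length_nil]
        omega
    have hex : ∀ a b : α, a ≠ b → ∃ g : alternatingGroup α, (g : Perm α) o0 = a ∧ (g : Perm α) o1 = b := by
      intro a b hab
      obtain ⟨σ, hσ, hmap⟩ := exists_map (f := ![o0, o1]) (g := ![a, b])
        (by rw [← List.nodup_ofFn]; simpa using h01) (by rw [← List.nodup_ofFn]; simpa using hab) (by omega)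
      exact ⟨⟨σ, hσ⟩, hmap 0, hmap 1⟩
    let vv : α → α → V := fun a b => if h : a ≠ b then ρ (hex a b h).choose v0 else 0
    have hvv : ∀ (g : alternatingGroup α) (a b : α), (g : Perm α) o0 = a → (g : Perm α) o1 = b →
        vv a b = ρ g v0 := by
      intro g a b ha hb
      have hab : a ≠ b := by rw [← ha, ← hb]; exact fun e => h01 ((g : Perm α).injective e)
      simp only [vv, dif_pos hab]
      obtain ⟨h0, h1⟩ := (hex a b hab).choose_spec
      set k := (hex a b hab).choose with hk
      have hm : g⁻¹ * k ∈ offSub [o0, o1] := fun x hx => by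
        simp only [List.mem_cons, List.not_mem_nil, or_false] at hx
        rcases hx with rfl | rfl
        · show (g : Perm α)⁻¹ ((k : Perm α) x) = x
          rw [h0, ← ha]; exact Equiv.symm_apply_apply _ _
        · show (g : Perm α)⁻¹ ((k : Perm α) x) = x
          rw [h1, ← hb]; exact Equiv.symm_apply_apply _ _
      conv_rhs => rw [← hstab _ hm v0 hv0]
      rw [← End.mul_apply, ← map_mul, mul_inv_cancel_left]
    have hact : ∀ (g : alternatingGroup α) (a b : α), a ≠ b →
        ρ g (vv a b) = vv ((g : Perm α) a) ((g : Perm α) b) := by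
      intro g a b hab
      obtain ⟨k, hka, hkb⟩ := hex a b hab
      rw [hvv k a b hka hkb, hvv (g * k) _ _ (by rw [Subgroup.coe_mul, Perm.mul_apply, hka])
        (by rw [Subgroup.coe_mul, Perm.mul_apply, hkb]), map_mul, End.mul_apply]
    have hneg : ∀ a b c d, [a, b, c, d].Nodup → ρ (dtA a b c d) (vv a b) = -vv a b := by
      intro a b c d habcd
      obtain ⟨l2, hl2, hnd2⟩ := exists_extend [a, b, c, d] habcd 2 (by simp; omega)
      match l2, hl2 with
      | [e, f], _ =>
        obtain ⟨hab, -⟩ := nodup_six (show [a, b, c, d, e, f].Nodup from hnd2)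
        obtain ⟨k, hka, hkb⟩ := hex a b hab
        have h1 := hmap k v0 hv0
        have hd := hnd' k
        rw [hka, hkb] at h1 hd
        rw [lineM_eq ρ h2 h9 hn IH hd (show [a, b, c, d, e, f].Nodup from hnd2)] at h1
        rw [hvv k a b hka hkb]
        exact mem_negE.1 h1.1
    refine ⟨vv, fun a b hab => ?_, fun a b hab => ?_, hact, hneg⟩
    · obtain ⟨k, hka, hkb⟩ := hex a b hab
      rw [hvv k a b hka hkb]
      exact apply_ne_zero ρ k hv00
    · obtain ⟨l2, hl2, hnd2⟩ := exists_extend [a, b] (by simpa using hab) 2 (by simp; omega)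
      match l2, hl2 with
      | [c, d], _ =>
        obtain ⟨-, hac, had, hbc, hbd, hcd⟩ := nodup_four (show [a, b, c, d].Nodup from hnd2)
        have h1 := hact (dtA a b c d) a b hab
        rw [hneg a b c d hnd2, coe_dtA hab hcd] at h1
        simpa [dt, swap_apply_of_ne_of_ne, hac, had, hbc, hbd] using h1.symm

/-- The smallest nontrivial representation, odd characteristic. -/
theorem odd_big {k₀ : alternatingGroup α} (hk₀ : ρ k₀ ≠ 1) : Big K (Fintype.card α) (finrank K V) := by
  obtain ⟨v, hne, hanti, hact, hneg⟩ := exists_pair_vectors ρ h2 h9 hn IH hk₀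
  refine big_of_cocycle ρ (by omega) v hne hanti hact ?_
  have hzero : ∀ {x : V}, x = -x → x = 0 := fun {x} hx =>
    (smul_eq_zero.1 (show (2 : K) • x = 0 by rw [two_smul]; nth_rewrite 2 [hx]; exact add_neg_cancel x)).resolve_left h2
  -- lines of disjoint pairs differ
  have hR2 : ∀ a b c d, [a, b, c, d].Nodup → ∀ s : K, v c d ≠ s • v a b := by
    intro a b c d h s hs
    obtain ⟨l2, hl2, hnd2⟩ := exists_extend [a, b, c, d] h 2 (by simp; omega)
    match l2, hl2 with
    | [e, f], _ =>
      obtain ⟨hab, hac, had, hae, haf, hbc, hbd, hbe, hbf, hcd, hce, hcf, hde, hdf, hef⟩ :=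
        nodup_six (show [a, b, c, d, e, f].Nodup from hnd2)
      have h1 : ρ (dtA a b e f) (v c d) = v c d := by
        rw [hact _ c d hcd, coe_dtA hab hef]
        simp [dt, swap_apply_of_ne_of_ne, hac.symm, hbc.symm, hce, hcf, had.symm, hbd.symm, hde, hdf]
      have h3 := h1
      rw [hs, map_smul, hneg a b e f (by simp [*]), smul_neg] at h3
      exact hne c d hcd (hs.trans (hzero h3.symm))
  -- the plane of a double transposition
  have hplane : ∀ a b c d, [a, b, c, d].Nodup →
      ∃ A B : K, v b d - v a c = A • v a b + B • v c d := by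
    intro a b c d h
    obtain ⟨hab, hac, had, hbc, hbd, hcd⟩ := nodup_four h
    have h' : [c, d, a, b].Nodup := by simp [hcd, hac.symm, hbc.symm, had.symm, hbd.symm, hab]
    have hcd' : ρ (dtA a b c d) (v c d) = -v c d := by
      rw [← dtA_comm hac had hbc hbd]
      exact hneg c d a b h'
    let u : Fin 2 → negE ρ (dtA a b c d) :=
      ![⟨v a b, mem_negE.2 (hneg a b c d h)⟩, ⟨v c d, mem_negE.2 hcd'⟩]
    have hu : LinearIndependent K u := by
      rw [LinearIndependent.pair_iff' (by simpa [Subtype.ext_iff] using hne a b hab)]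
      intro s hs
      exact hR2 a b c d h s (congrArg Subtype.val hs).symm
    have hspan := hu.span_eq_top_of_card_eq_finrank (by
      rw [negE_dim ρ h2 h9 hn IH hk₀ h, Fintype.card_fin])
    have hmem : v b d - v a c ∈ negE ρ (dtA a b c d) := by
      rw [mem_negE, map_sub, hact _ b d hbd, hact _ a c hac, coe_dtA hab hcd, neg_sub]
      simp [dt, swap_apply_of_ne_of_ne, hac, had, hbc, hbd, hac.symm, had.symm, hbc.symm, hbd.symm]
    have hx := hspan.ge (Submodule.mem_top (x := (⟨_, hmem⟩ : negE ρ (dtA a b c d))))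
    rw [Submodule.mem_span_range_iff_exists_fun] at hx
    obtain ⟨c', hc'⟩ := hx
    exact ⟨c' 0, c' 1, by simpa [u, Fin.sum_univ_two] using (congrArg Subtype.val hc').symm⟩
  obtain ⟨l, hl, hnd⟩ := exists_extend ([] : List α) List.nodup_nil 4 (by simp; omega)
  obtain ⟨A, hA⟩ : ∃ A : K, ∀ a b c d, [a, b, c, d].Nodup → v b d - v a c = A • (v a b - v c d) := by
    match l, hl with
    | [p, q, s, t], _ =>
      rw [List.nil_append] at hnd
      obtain ⟨A, B, hAB⟩ := hplane p q s t hnd
      obtain ⟨hpq, hps, hpt, hqs, hqt, hst⟩ := nodup_four hnd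
      have hQ := congrArg (ρ (dtA p s q t)) hAB
      rw [map_sub, map_add, map_smul, map_smul, hact _ q t hqt, hact _ p s hps, hact _ p q hpq,
        hact _ s t hst, coe_dtA hps hqt] at hQ
      simp only [dt, Perm.mul_apply, swap_apply_left, swap_apply_right, swap_apply_of_ne_of_ne hpq hpt,
        swap_apply_of_ne_of_ne hqs.symm hst, swap_apply_of_ne_of_ne hpt.symm hst.symm,
        swap_apply_of_ne_of_ne hpq.symm hqs] at hQ
      rw [hanti q t hqt, hanti p s hps] at hQ
      have hsum : (A + B) • v p q + (A + B) • v s t = 0 := by linear_combination (norm := module) -hQ - hAB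
      have hB : A + B = 0 := by
        by_contra hne'
        refine hR2 p q s t hnd (-1) ?_
        rw [neg_one_smul, eq_neg_iff_add_eq_zero, add_comm]
        rw [← smul_add, smul_eq_zero] at hsum
        exact hsum.resolve_left hne'
      refine ⟨A, fun a b c d habcd => ?_⟩
      obtain ⟨σ, hσ, hmap⟩ := exists_map (f := ![p, q, s, t]) (g := ![a, b, c, d])
        (by rw [← List.nodup_ofFn]; simpa using hnd) (by rw [← List.nodup_ofFn]; simpa using habcd) (by omega)
      have hm := congrArg (ρ ⟨σ, hσ⟩) hAB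
      rw [map_sub, map_add, map_smul, map_smul, hact _ q t hqt, hact _ p s hps, hact _ p q hpq,
        hact _ s t hst, show σ p = a from hmap 0, show σ q = b from hmap 1, show σ s = c from hmap 2,
        show σ t = d from hmap 3] at hm
      rw [hm, eq_neg_of_add_eq_zero_right hB, neg_smul, smul_sub, sub_eq_add_neg]
  have hA2 : A * A = 1 := by
    match l, hl with
    | [p, q, s, t], _ =>
      rw [List.nil_append] at hnd
      obtain ⟨hpq, hps, hpt, hqs, hqt, hst⟩ := nodup_four hnd
      have e1 := hA s q p t (by simp [hqs.symm, hps.symm, hst, hpq.symm, hqt, hpt])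
      have e2 := hA p s t q (by simp [hps, hpt, hpq, hst, hqs.symm, hqt.symm])
      rw [hanti p s hps, hanti q s hqs] at e1
      rw [hanti q t hqt, hanti q s hqs] at e2
      have e3 : (A * A - 1) • (v q t + v p s) = 0 := by
        linear_combination (norm := module) -e1 - A • e2
      rcases smul_eq_zero.1 e3 with h | h
      · exact sub_eq_zero.1 h
      · refine absurd ?_ (hR2 p s q t (by simp [hps, hpq, hpt, hqs.symm, hst, hqt]) (-1))
        rw [neg_one_smul]
        exact eq_neg_of_add_eq_zero_left h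
  have hD : ∀ b c d e, [b, c, d, e].Nodup → v b d - v b e = -A • (v c d - v c e) := by
    intro b c d e h
    obtain ⟨a, ha⟩ := exists_fresh [b, c, d, e] (by simp; omega)
    simp only [List.mem_cons, List.not_mem_nil, or_false, not_or, ← ne_eq] at ha
    obtain ⟨hbc, hbd, hbe, hcd, hce, hde⟩ := nodup_four h
    have e1 := hA a b c d (by simp [ha.1, ha.2.1, ha.2.2.1, hbc, hbd, hcd])
    have e2 := hA a b c e (by simp [ha.1, ha.2.1, ha.2.2.2, hbc, hbe, hce])
    linear_combination (norm := module) e1 - e2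
  have hA1 : A = -1 := by
    match l, hl with
    | [p, q, s, t], _ =>
      rw [List.nil_append] at hnd
      obtain ⟨hpq, hps, hpt, hqs, hqt, hst⟩ := nodup_four hnd
      obtain ⟨u, hu⟩ := exists_fresh [p, q, s, t] (by simp; omega)
      simp only [List.mem_cons, List.not_mem_nil, or_false, not_or, ← ne_eq] at hu
      obtain ⟨hup, huq, hus, hut⟩ := hu
      have e1 := hD p q s t hnd
      have e2 := hD q u s t (by simp [huq.symm, hqs, hqt, hus, hut, hst])
      have e3 := hD p u s t (by simp [hup.symm, hps, hpt, hus, hut, hst])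
      have e4 : (A + A * A) • (v u s - v u t) = 0 := by
        linear_combination (norm := module) e3 - e1 + A • e2
      rcases smul_eq_zero.1 e4 with h | h
      · rw [hA2] at h; exact eq_neg_of_add_eq_zero_left h
      · exfalso
        rw [sub_eq_zero] at h
        have hall : ∀ x y z, x ≠ y → x ≠ z → y ≠ z → v x y = v x z := by
          intro x y z hxy hxz hyz
          obtain ⟨σ, hσ, hmap⟩ := exists_map (f := ![u, s, t]) (g := ![x, y, z])
            (by rw [← List.nodup_ofFn]; simp [hus, hut, hst]) (by rw [← List.nodup_ofFn]; simp [hxy, hxz, hyz])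
            (by omega)
          have hm := congrArg (ρ ⟨σ, hσ⟩) h
          rw [hact _ u s hus, hact _ u t hut, show σ u = x from hmap 0, show σ s = y from hmap 1,
            show σ t = z from hmap 2] at hm
          exact hm
        refine hR2 p q s t hnd 1 ?_
        rw [one_smul, hall p q t hpq hpt hqt, ← neg_inj, ← hanti s t hst, ← hanti p t hpt]
        exact hall t s p hst.symm hpt.symm hps.symm
  subst hA1
  have hx : ∀ a b c t, [t, a, b, c].Nodup → v a b + v b c + v c a = v t b + v b c + v c t := by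
    intro a b c t h
    obtain ⟨hta, htb, htc, hab, hac, hbc⟩ := nodup_four h
    have e1 := hD a t b c (by simp [hta.symm, hab, hac, htb, htc, hbc])
    rw [hanti a c hac, hanti t c htc]
    linear_combination (norm := module) e1
  intro a b c hab hbc hca
  obtain ⟨t, ht⟩ := exists_fresh [a, b, c] (by simp; omega)
  simp only [List.mem_cons, List.not_mem_nil, or_false, not_or, ← ne_eq] at ht
  obtain ⟨hta, htb, htc⟩ := ht
  have x1 := hx a b c t (by simp [hta, htb, htc, hab, hbc, hca.symm])
  have x2 := hx b c t a (by simp [hab, hca.symm, hta.symm, hbc, htb.symm, htc.symm])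
  have x3 := hx t a c b (by simp [htb.symm, hab.symm, hbc, hta, htc, hca.symm])
  apply hzero
  have x4 : v b a + v a c + v c b = -(v a b + v b c + v c a) := by
    rw [hanti a b hab, hanti c a hca, hanti b c hbc]; abel
  rw [← x4]
  linear_combination (norm := module) x1 + x2 + x3

end

end Cfsg.Agent.Lib.AltDegree52
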