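/-
The deleted permutation module is the smallest one, characteristic two.
-/
import Mathlib
import Cfsg.Agent.Lib.AltDegree52.Even
import Cfsg.Agent.Lib.AltDegree52.OddMain

set_option autoImplicit false
set_option linter.unusedSectionVars false

namespace Cfsg.Agent.Lib.AltDegree52

open Equiv Equiv.Perm Module
open Cfsg.Agent.Lib.Alternating (tri tri_apply_left tri_apply_mid tri_apply_right tri_apply_of_ne)

universe v

variable {K : Type*} [Field K] [IsAlgClosed K]
variable {α : Type} [Fintype α] [DecidableEq α]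
variable {V : Type v} [AddCommGroup V] [Module K V] [FiniteDimensional K V]

theorem exists_root_three : ∃ w : K, w ^ 2 + w + 1 = 0 := by
  obtain ⟨w, hw⟩ := IsAlgClosed.exists_root
    (Polynomial.X ^ 2 + Polynomial.X + 1 : Polynomial K) (by
      rw [show (Polynomial.X ^ 2 + Polynomial.X + 1 : Polynomial K).degree = 2 by compute_degree!]
      decide)
  exact ⟨w, by simpa using hw⟩

theorem exists_map_list {n : ℕ} (f g : Fin n → α) (hf : (List.ofFn f).Nodup) (hg : (List.ofFn g).Nodup)
    (h : n + 2 ≤ Fintype.card α) : ∃ σ : alternatingGroup α, ∀ i, (σ : Perm α) (f i) = g i := by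
  obtain ⟨σ, hσ, hm⟩ := exists_map (List.nodup_ofFn.1 hf) (List.nodup_ofFn.1 hg) h
  exact ⟨⟨σ, hσ⟩, hm⟩

section
variable (ρ : alternatingGroup α →* End K V) (h2 : (2 : K) = 0) (h9 : 9 ≤ Fintype.card α)
    (hB : ¬ Big K (Fintype.card α) (finrank K V)) (IH : TrivBelow.{v} K (Fintype.card α))
    {k₀ : alternatingGroup α} (hk₀ : ρ k₀ ≠ 1)
include h2 h9 hB IH hk₀

omit h9 IH hk₀ in
theorem even_bounds : finrank K V + 2 ≤ Fintype.card α ∧
    (2 ∣ Fintype.card α → finrank K V + 3 ≤ Fintype.card α) := by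
  constructor
  · by_contra hc
    exact hB ⟨by omega, fun _ => by omega⟩
  · rintro ⟨k, hk⟩
    by_contra hc
    refine hB ⟨by omega, fun hne => absurd ?_ hne⟩
    rw [hk, Nat.cast_mul, Nat.cast_ofNat, h2, zero_mul]

theorem triE_fixed {w : K} (hw : w ^ 2 + w + 1 = 0) {a b c : α} (h : [a, b, c].Nodup) :
    ∀ g ∈ offSub [a, b, c], ∀ v ∈ triE ρ a b c w, ρ g v = v := by
  refine fix_of_off ρ _ _ (fun g hg v hv => off_inv_triE ρ hg w hv) ?_
  intro σ
  obtain ⟨hn, hev⟩ := even_bounds h2 hB
  have hoff : Fintype.card {x // x ∉ [a, b, c]} = Fintype.card α - 3 := card_off h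
  have hm := (triE_finrank ρ h9 hw h2 h).2.2.1
  by_cases h12 : 12 ≤ Fintype.card α
  · exact IH _ _ σ (by omega) (by omega) (by omega)
  by_cases hsmall : finrank K (triE ρ a b c w) ≤ 3
  · exact trivial_of_dim_le_three_char_two σ h2 (by omega) hsmall
  · exfalso
    rcases (show Fintype.card α = 9 ∨ Fintype.card α = 10 ∨ Fintype.card α = 11 by omega) with hr | hr | hr
    · omega
    · have := hev ⟨5, hr⟩; omega
    · exact no_four_eleven ρ h2 hr (by omega) hk₀ hw h (by omega)

theorem triW_fixed {a b c : α} (h : [a, b, c].Nodup) :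
    ∀ g ∈ offSub [a, b, c], ∀ v ∈ triW ρ a b c, ρ g v = v := by
  intro g hg v hv
  obtain ⟨w, hw⟩ := exists_root_three (K := K)
  rw [(triE_finrank ρ h9 hw h2 h).2.2.2.1, Submodule.mem_sup] at hv
  obtain ⟨x, hx, y, hy, rfl⟩ := hv
  rw [map_add, triE_fixed ρ h2 h9 hB IH hk₀ hw h g hg x hx,
    triE_fixed ρ h2 h9 hB IH hk₀ (w := w ^ 2) (by linear_combination (w ^ 2 - w + 1) * hw) h g hg y hy]

theorem triW_dim {a b c : α} (h : [a, b, c].Nodup) : finrank K (triW ρ a b c) = 2 := by
  obtain ⟨w, hw⟩ := exists_root_three (K := K)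
  obtain ⟨hn, -⟩ := even_bounds h2 hB
  obtain ⟨-, hW, hV, hsup, hWP⟩ := triE_finrank ρ h9 hw h2 h
  set m := finrank K (triE ρ a b c w) with hm
  have hm0 : m ≠ 0 := by
    intro e
    rw [e, mul_zero, Submodule.finrank_eq_zero, LinearMap.range_eq_bot] at hW
    exact hk₀ (eq_one_of_ker ρ (by omega) (triA_ne_one h) (sub_eq_zero.1 hW) k₀)
  suffices m ≤ 1 by omega
  set r := Fintype.card α with hr
  let e : Fin r ≃ α := (Fintype.equivFin α).symm
  let pt : Fin (r / 3) → Fin 3 → α := fun i t => e ⟨3 * (i : ℕ) + (t : ℕ), by omega⟩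
  have hpt : ∀ i j t s, pt i t = pt j s → i = j ∧ t = s := fun i j t s hh => by
    have := congrArg Fin.val (e.injective hh)
    simp only at this
    refine ⟨Fin.ext ?_, Fin.ext ?_⟩ <;> omega
  have hnd : ∀ i, [pt i 0, pt i 1, pt i 2].Nodup := fun i => by
    have ne : ∀ t s, t ≠ s → pt i t ≠ pt i s := fun t s hts hh => hts (hpt i i t s hh).2
    simp [ne]
  have hY : ∀ i, finrank K (triW ρ (pt i 0) (pt i 1) (pt i 2)) = 2 * m := by
    intro i
    obtain ⟨σ, hσ⟩ := exists_map_list ![a, b, c] ![pt i 0, pt i 1, pt i 2] (by simpa using h)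
      (by simpa using hnd i) (by omega)
    have h1 := finrank_map_apply ρ σ (triW ρ a b c)
    rw [map_triW, show (σ : Perm α) a = pt i 0 from hσ 0, show (σ : Perm α) b = pt i 1 from hσ 1,
      show (σ : Perm α) c = pt i 2 from hσ 2] at h1
    omega
  have htot := sum_finrank_le_of_fixed (fun i => triW ρ (pt i 0) (pt i 1) (pt i 2))
    (fun i => posE ρ (triA (pt i 0) (pt i 1) (pt i 2))) Finset.univ
    (fun i _ => (triE_finrank ρ h9 hw h2 (hnd i)).2.2.2.2)
    (fun i _ j _ hji v hv => mem_posE.2 (triW_fixed ρ h2 h9 hB IH hk₀ (hnd j) _ (by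
      obtain ⟨h01, h02, h12⟩ := nodup_three (hnd i)
      have ne : ∀ s t, pt j s ≠ pt i t := fun s t hh => hji (hpt _ _ _ _ hh).1
      refine mem_offSub_three ?_ ?_ ?_ <;> rw [coe_triA h01 h02 h12] <;>
        exact tri_apply_of_ne (ne _ _) (ne _ _) (ne _ _)) v hv))
  simp only [hY, Finset.sum_const, Finset.card_univ, Fintype.card_fin, smul_eq_mul] at htot
  by_contra hm1
  have : r / 3 * 4 ≤ r / 3 * (2 * m) := Nat.mul_le_mul_left _ (by omega)
  omega

omit h9 hB IH hk₀ in
theorem triW_swap {a b c : α} (h : [a, b, c].Nodup) : triW ρ b a c = triW ρ a b c := by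
  rw [triW, triA_swap h, range_sub_one_inv]

theorem triW_pos_zero {a b c : α} (h : [a, b, c].Nodup) {v : V} (hv : v ∈ triW ρ a b c)
    (hc : ρ (triA a b c) v = v) : v = 0 := by
  obtain ⟨w, hw⟩ := exists_root_three (K := K)
  have := (triE_finrank ρ h9 hw h2 h).2.2.2.2
  exact (Submodule.mem_bot K).1 (this ▸ ⟨hv, mem_posE.2 hc⟩)

/-- The fixed vectors of `(a b)(x y)` on the moved space of `(a b c)` form a line. -/
theorem swap_fixed_line {a b c x y : α} (h : [a, b, c, x, y].Nodup) :
    finrank K ↥(triW ρ a b c ⊓ posE ρ (dtA a b x y)) = 1 := by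
  have h3 : [a, b, c].Nodup := h.sublist (by simp)
  simp only [List.nodup_cons, List.mem_cons, List.not_mem_nil, or_false, not_or, ← ne_eq] at h
  obtain ⟨⟨hab, hac, hax, hay⟩, ⟨hbc, hbx, hby⟩, ⟨hcx, hcy⟩, hxy, -⟩ := h
  set s := dtA a b x y with hs
  have hss : s * s = 1 := dtA_mul_self hab hax hay hbx hby hxy
  have hinv : s * triA a b c * s⁻¹ = (triA a b c)⁻¹ := by
    rw [conj_triA, hs, coe_dtA hab hxy, ← triA_swap h3]
    simp [dt, swap_apply_of_ne_of_ne, hax, hay, hbx, hby, hac.symm, hbc.symm, hcx, hcy]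
  set W := triW ρ a b c with hW
  have hWs : ∀ v ∈ W, ρ s v ∈ W := fun v hv => by
    have : ρ s v ∈ W.map (ρ s) := ⟨v, hv, rfl⟩
    rwa [hW, triW, map_range_sub_one, hinv, range_sub_one_inv] at this
  have hW2 : finrank K W = 2 := triW_dim ρ h2 h9 hB IH hk₀ h3
  -- the restriction of `s - 1`
  set N : End K W := (ρ s).restrict hWs - 1 with hN
  have hneg : ∀ v : V, -v = v := fun v => by
    rw [neg_eq_iff_add_eq_zero, ← two_smul K, h2, zero_smul]
  have hker : finrank K (LinearMap.ker N) = finrank K ↥(W ⊓ posE ρ s) := by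
    have : (LinearMap.ker N).map W.subtype = W ⊓ posE ρ s := by
      ext v
      simp only [Submodule.mem_map, LinearMap.mem_ker, Submodule.mem_inf, mem_posE]
      constructor
      · rintro ⟨u, hu, rfl⟩
        refine ⟨u.2, ?_⟩
        have := congrArg Subtype.val hu
        simpa [hN, sub_eq_zero] using this
      · rintro ⟨hvW, hv⟩
        exact ⟨⟨v, hvW⟩, Subtype.ext (by simp [hN, hv]), rfl⟩
    rw [← this]
    exact (Submodule.equivMapOfInjective _ Subtype.val_injective _).finrank_eq
  have hNN : LinearMap.range N ≤ LinearMap.ker N := by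
    rintro _ ⟨u, rfl⟩
    rw [LinearMap.mem_ker]
    refine Subtype.ext ?_
    have e : ρ s (ρ s u) = (u : V) := by rw [← End.mul_apply, ← map_mul, hss, map_one, End.one_apply]
    simp only [hN, LinearMap.sub_apply, End.one_apply, Submodule.coe_sub, LinearMap.restrict_coe_apply,
      map_sub, e, ZeroMemClass.coe_zero]
    rw [sub_sub_sub_comm]
    have := hneg ((u : V) - ρ s u)
    rw [neg_sub] at this
    rw [this, sub_self]
  have hrn := LinearMap.finrank_range_add_finrank_ker N
  have hle := Submodule.finrank_mono hNN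
  have hlt : finrank K (LinearMap.ker N) ≠ 2 := by
    intro e
    have htop : LinearMap.ker N = ⊤ := Submodule.eq_top_of_finrank_eq (by rw [e, hW2])
    have hfix : ∀ v ∈ W, ρ s v = v := fun v hv => by
      have : N ⟨v, hv⟩ = 0 := LinearMap.mem_ker.1 (htop ▸ Submodule.mem_top)
      simpa [hN, sub_eq_zero] using congrArg Subtype.val this
    have hbot : W = ⊥ := by
      refine eq_bot_iff.2 fun v hv => (Submodule.mem_bot _).2 (triW_pos_zero ρ h2 h9 hB IH hk₀ h3 hv ?_)
      have hcv : ρ (triA a b c) v ∈ W := by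
        have : ρ (triA a b c) v ∈ W.map (ρ (triA a b c)) := ⟨v, hv, rfl⟩
        rwa [hW, triW, map_range_sub_one, mul_inv_cancel_right] at this
      have hc' : ρ (triA a b c)⁻¹ v = ρ (triA a b c) v := by
        rw [← hinv, map_mul, map_mul, End.mul_apply, End.mul_apply,
          show s⁻¹ = s from (eq_inv_of_mul_eq_one_left hss).symm, hfix v hv, hfix _ hcv]
      have h2' : ρ (triA a b c) (ρ (triA a b c) v) = v := by rw [← hc', apply_inv]
      have h3' : ρ (triA a b c) (ρ (triA a b c) (ρ (triA a b c) v)) = v := by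
        rw [← End.mul_apply, ← End.mul_apply, ← map_mul, ← map_mul, mul_assoc, ← pow_two, ← pow_succ',
          triA_pow_three h3, map_one, End.one_apply]
      rwa [h2'] at h3'
    rw [hbot, finrank_bot] at hW2
    omega
  omega

/-- Vectors indexed by triples of points. -/
theorem exists_triple_vectors : ∃ v : α → α → α → V,
    (∀ a b k, [a, b, k].Nodup → v a b k ≠ 0 ∧ v a b k ∈ triW ρ a b k ∧ v b a k = v a b k) ∧
      ∀ (g : alternatingGroup α) (a b k : α), [a, b, k].Nodup →
        ρ g (v a b k) = v ((g : Perm α) a) ((g : Perm α) b) ((g : Perm α) k) := by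
  classical
  obtain ⟨l, hl, hnd⟩ := exists_extend ([] : List α) List.nodup_nil 5 (by simp; omega)
  match l, hl with
  | [o0, o1, o2, ox, oy], _ =>
    rw [List.nil_append] at hnd
    have ho : [o0, o1, o2].Nodup := hnd.sublist (by simp)
    obtain ⟨h01, h02, h12⟩ := nodup_three ho
    set L := triW ρ o0 o1 o2 ⊓ posE ρ (dtA o0 o1 ox oy) with hL
    have hL1 := swap_fixed_line ρ h2 h9 hB IH hk₀ hnd
    rw [← hL] at hL1
    obtain ⟨v0, hv0, hv00⟩ := Submodule.exists_mem_ne_zero_of_ne_bot (p := L)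
      (fun hb => by rw [hb, finrank_bot] at hL1; exact one_ne_zero hL1.symm)
    have hstab : ∀ g ∈ offSub [o0, o1, o2], ρ g v0 = v0 := fun g hg =>
      triW_fixed ρ h2 h9 hB IH hk₀ ho g hg v0 hv0.1
    have hex : ∀ a b k : α, [a, b, k].Nodup →
        ∃ g : alternatingGroup α, (g : Perm α) o0 = a ∧ (g : Perm α) o1 = b ∧ (g : Perm α) o2 = k := by
      intro a b k habk
      obtain ⟨σ, hσ⟩ := exists_map_list ![o0, o1, o2] ![a, b, k] (by simpa using ho) (by simpa using habk)
        (by omega)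
      exact ⟨σ, hσ 0, hσ 1, hσ 2⟩
    let vv : α → α → α → V := fun a b k => if h : [a, b, k].Nodup then ρ (hex a b k h).choose v0 else 0
    have hvv : ∀ (g : alternatingGroup α) (a b k : α), (g : Perm α) o0 = a → (g : Perm α) o1 = b →
        (g : Perm α) o2 = k → vv a b k = ρ g v0 := by
      intro g a b k ha hb hk
      have habk : [a, b, k].Nodup := by
        have := ho.map (g : Perm α).injective
        simpa [ha, hb, hk] using this
      simp only [vv, dif_pos habk]
      obtain ⟨h0, h1, h2'⟩ := (hex a b k habk).choose_spec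
      set u := (hex a b k habk).choose with hu
      have hm : g⁻¹ * u ∈ offSub [o0, o1, o2] := by
        refine mem_offSub_three ?_ ?_ ?_
        · show (g : Perm α)⁻¹ ((u : Perm α) o0) = o0
          rw [h0, ← ha]; exact Equiv.symm_apply_apply _ _
        · show (g : Perm α)⁻¹ ((u : Perm α) o1) = o1
          rw [h1, ← hb]; exact Equiv.symm_apply_apply _ _
        · show (g : Perm α)⁻¹ ((u : Perm α) o2) = o2
          rw [h2', ← hk]; exact Equiv.symm_apply_apply _ _
      conv_rhs => rw [← hstab _ hm]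
      rw [← End.mul_apply, ← map_mul, mul_inv_cancel_left]
    refine ⟨vv, fun a b k habk => ?_, fun g a b k habk => ?_⟩
    · obtain ⟨g, ha, hb, hk⟩ := hex a b k habk
      refine ⟨?_, ?_, ?_⟩
      · rw [hvv g a b k ha hb hk]; exact apply_ne_zero ρ g hv00
      · rw [hvv g a b k ha hb hk, ← ha, ← hb, ← hk, ← map_triW]
        exact ⟨v0, hv0.1, rfl⟩
      · simp only [List.nodup_cons, List.mem_cons, List.not_mem_nil, or_false, not_or, ← ne_eq] at hnd
        obtain ⟨⟨-, -, h0x, h0y⟩, ⟨-, h1x, h1y⟩, ⟨h2x, h2y⟩, hxy, -⟩ := hnd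
        rw [hvv g a b k ha hb hk, hvv (g * dtA o0 o1 ox oy) b a k, map_mul, End.mul_apply,
          mem_posE.1 hv0.2]
        all_goals rw [Subgroup.coe_mul, Perm.mul_apply, coe_dtA h01 hxy]
        · simpa [dt, swap_apply_of_ne_of_ne, h0x, h0y] using hb
        · simpa [dt, swap_apply_of_ne_of_ne, h1x, h1y] using ha
        · simpa [dt, swap_apply_of_ne_of_ne, h2x, h2y, h02.symm, h12.symm] using hk
    · obtain ⟨u, ha, hb, hk⟩ := hex a b k habk
      rw [hvv u a b k ha hb hk, hvv (g * u) _ _ _ (by rw [Subgroup.coe_mul, Perm.mul_apply, ha])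
        (by rw [Subgroup.coe_mul, Perm.mul_apply, hb]) (by rw [Subgroup.coe_mul, Perm.mul_apply, hk]),
        map_mul, End.mul_apply]

/-- The vector of a triple depends only on the first two points. -/
theorem triple_indep (v : α → α → α → V)
    (hv : ∀ a b k, [a, b, k].Nodup → v a b k ≠ 0 ∧ v a b k ∈ triW ρ a b k ∧ v b a k = v a b k)
    (hact : ∀ (g : alternatingGroup α) (a b k : α), [a, b, k].Nodup →
      ρ g (v a b k) = v ((g : Perm α) a) ((g : Perm α) b) ((g : Perm α) k))
    {a b c d : α} (h : [a, b, c, d].Nodup) : v a b c = v a b d := by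
  obtain ⟨hab, hac, had, hbc, hbd, hcd⟩ := nodup_four h
  obtain ⟨l, hl, hnd⟩ := exists_extend [a, b, c, d] h 4 (by simp; omega)
  match l, hl with
  | [e, f, x, y], _ =>
    simp only [List.cons_append, List.nil_append, List.nodup_cons, List.mem_cons, List.not_mem_nil, or_false,
      not_or, ← ne_eq] at hnd
    obtain ⟨⟨-, -, -, hae, haf, hax, hay⟩, ⟨-, -, hbe, hbf, hbx, hby⟩, ⟨-, hce, hcf, hcx, hcy⟩,
      ⟨hde, hdf, hdx, hdy⟩, ⟨hef, hex, hey⟩, ⟨hfx, hfy⟩, hxy, -⟩ := hnd
    have nabc : [a, b, c].Nodup := by simp [*]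
    have nabd : [a, b, d].Nodup := by simp [*]
    set s := dtA a b x y with hs
    have scoe := coe_dtA (a := a) (b := b) hab hxy
    have s_a : (s : Perm α) a = b := by rw [hs, scoe]; simp [dt, swap_apply_of_ne_of_ne, hax, hay]
    have s_b : (s : Perm α) b = a := by rw [hs, scoe]; simp [dt, swap_apply_of_ne_of_ne, hbx, hby]
    have s_o : ∀ {z : α}, z ≠ a → z ≠ b → z ≠ x → z ≠ y → (s : Perm α) z = z := fun h1 h1' h1'' h1''' => by
      rw [hs, scoe]; simp [dt, swap_apply_of_ne_of_ne, h1, h1', h1'', h1''']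
    set W3 := triW ρ a b c with hW3
    set W4 := triW ρ a b d with hW4
    have hd3 : finrank K W3 = 2 := triW_dim ρ h2 h9 hB IH hk₀ nabc
    have hd4 : finrank K W4 = 2 := triW_dim ρ h2 h9 hB IH hk₀ nabd
    have hs3 : ρ s (v a b c) = v a b c := by
      rw [hact _ a b c nabc, s_a, s_b, s_o hac.symm hbc.symm hcx hcy, (hv a b c nabc).2.2]
    have hs4 : ρ s (v a b d) = v a b d := by
      rw [hact _ a b d nabd, s_a, s_b, s_o had.symm hbd.symm hdx hdy, (hv a b d nabd).2.2]
    -- the involution exchanging `c` and `d`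
    set τ := dtA c d x y with hτ
    have τ_o : ∀ {z : α}, z ≠ c → z ≠ d → z ≠ x → z ≠ y → (τ : Perm α) z = z := fun h1 h1' h1'' h1''' => by
      rw [hτ, coe_dtA hcd hxy]; simp [dt, swap_apply_of_ne_of_ne, h1, h1', h1'', h1''']
    have τ_c : (τ : Perm α) c = d := by
      rw [hτ, coe_dtA hcd hxy]; simp [dt, swap_apply_of_ne_of_ne, hcx, hcy]
    have τ_d : (τ : Perm α) d = c := by
      rw [hτ, coe_dtA hcd hxy]; simp [dt, swap_apply_of_ne_of_ne, hdx, hdy]
    have ht3 : ρ τ (v a b c) = v a b d := by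
      rw [hact _ a b c nabc, τ_o hac had hax hay, τ_o hbc hbd hbx hby, τ_c]
    have ht4 : ρ τ (v a b d) = v a b c := by
      rw [hact _ a b d nabd, τ_o hac had hax hay, τ_o hbc hbd hbx hby, τ_d]
    have hone : ∀ {u : α} (hu : [a, b, u, x, y].Nodup) (z : V), z ∈ triW ρ a b u → ρ s z = z →
        ∃ t : K, z = t • v a b u := by
      intro u hu z hz hzs
      have nu : [a, b, u].Nodup := hu.sublist (by simp)
      have hvu : ρ s (v a b u) = v a b u := by
        simp only [List.nodup_cons, List.mem_cons, List.not_mem_nil, or_false, not_or, ← ne_eq] at hu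
        rw [hact _ a b u nu, s_a, s_b, s_o hu.1.2.1.symm hu.2.1.1.symm hu.2.2.1.1 hu.2.2.1.2,
          (hv a b u nu).2.2]
      obtain ⟨t, ht⟩ := (finrank_eq_one_iff_of_nonzero'
        (⟨v a b u, (hv a b u nu).2.1, mem_posE.2 hvu⟩ : ↥(triW ρ a b u ⊓ posE ρ s))
        (fun e => (hv a b u nu).1 (congrArg Subtype.val e))).1
        (swap_fixed_line ρ h2 h9 hB IH hk₀ hu) ⟨z, hz, mem_posE.2 hzs⟩
      exact ⟨t, (congrArg Subtype.val ht).symm⟩
    have nxc : [a, b, c, x, y].Nodup := by simp [*]
    have nxd : [a, b, d, x, y].Nodup := by simp [*]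
    have hsW : ∀ {u : α}, [a, b, u].Nodup → u ≠ x → u ≠ y → ∀ z ∈ triW ρ a b u, ρ s z ∈ triW ρ a b u := by
      intro u nu hux huy z hz
      obtain ⟨-, hau, hbu⟩ := nodup_three nu
      rw [← triW_swap ρ h2 nu]
      have := map_triW ρ s a b u
      rw [s_a, s_b, s_o hau.symm hbu.symm hux huy] at this
      rw [← this]
      exact ⟨z, hz, rfl⟩
    have sq_one : ∀ t : K, t * t = 1 → t = 1 := fun t ht => by
      have : (t - 1) * (t - 1) = 0 := by linear_combination ht - (t - 1) * h2
      exact sub_eq_zero.1 (mul_self_eq_zero.1 this)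
    by_cases hI : W3 ⊓ W4 = ⊥
    swap
    · obtain ⟨z, hz, hz0⟩ := Submodule.exists_mem_ne_zero_of_ne_bot hI
      -- a fixed vector in the intersection
      obtain ⟨z', hz', hz'0, hz's⟩ : ∃ z', z' ∈ W3 ⊓ W4 ∧ z' ≠ 0 ∧ ρ s z' = z' := by
        by_cases e : ρ s z = z
        · exact ⟨z, hz, hz0, e⟩
        · refine ⟨z + ρ s z, Submodule.add_mem _ hz
            ⟨hsW nabc hcx hcy z hz.1, hsW nabd hdx hdy z hz.2⟩, fun e' => e ?_, ?_⟩
          · rw [eq_neg_of_add_eq_zero_right e', neg_eq_iff_add_eq_zero, ← two_smul K, h2, zero_smul]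
          · have ss : ρ s (ρ s z) = z := by
              rw [← End.mul_apply, ← map_mul, hs, dtA_mul_self hab hax hay hbx hby hxy, map_one, End.one_apply]
            rw [map_add, ss, add_comm]
      obtain ⟨t, ht⟩ := hone nxc z' hz'.1 hz's
      obtain ⟨t', ht'⟩ := hone nxd z' hz'.2 hz's
      have ht0 : t ≠ 0 := fun e => hz'0 (by rw [ht, e, zero_smul])
      have hlam : v a b c = (t⁻¹ * t') • v a b d := by
        rw [← smul_smul, ← ht', ht, smul_smul, inv_mul_cancel₀ ht0, one_smul]
      set q := t⁻¹ * t'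
      have h1 := congrArg (ρ τ) hlam
      rw [map_smul, ht3, ht4, hlam, smul_smul] at h1
      have hq : q * q = 1 := smul_left_injective K (hv a b d nabd).1 (by simpa using h1.symm)
      rw [hlam, sq_one q hq, one_smul]
    -- the intersection cannot be trivial
    exfalso
    have hc_in : ∀ z : V, ∀ u : α, triW ρ a b u ≤ W3 ⊔ W4 → ρ (triA a b u) z - z ∈ W3 ⊔ W4 := fun z u hu =>
      hu ⟨z, by rw [LinearMap.sub_apply, End.one_apply]⟩
    have hthird : ∀ {u : α}, [a, b, c, d, u].Nodup → u ≠ x → u ≠ y → v a b u = v a b c + v a b d := by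
      intro u hu hux huy
      simp only [List.nodup_cons, List.mem_cons, List.not_mem_nil, or_false, not_or, ← ne_eq] at hu
      obtain ⟨⟨-, -, -, hau⟩, ⟨-, -, hbu⟩, ⟨-, hcu⟩, hdu, -⟩ := hu
      have nabu : [a, b, u].Nodup := by simp [*]
      have ncdu : [c, d, u].Nodup := by simp [*]
      set W := triW ρ c d u with hW
      set r := triA c d u with hr
      have rc : (r : Perm α) c = d := by rw [hr, coe_triA hcd hcu hdu, tri_apply_left hcd hdu]
      have rd : (r : Perm α) d = u := by rw [hr, coe_triA hcd hcu hdu, tri_apply_mid]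
      have ru : (r : Perm α) u = c := by rw [hr, coe_triA hcd hcu hdu, tri_apply_right hcu hdu]
      have ro : ∀ {z : α}, z ≠ c → z ≠ d → z ≠ u → (r : Perm α) z = z := fun h1 h1' h1'' => by
        rw [hr, coe_triA hcd hcu hdu, tri_apply_of_ne h1 h1' h1'']
      set U5 := W3 ⊔ W with hU5
      have hrU : ∀ z ∈ U5, ρ r z ∈ U5 := fun z hz => by
        have : ρ r z - z ∈ U5 := (le_sup_right : W ≤ U5) ⟨z, by rw [LinearMap.sub_apply, End.one_apply]⟩
        simpa using U5.add_mem this hz
      have m4 : W4 ≤ U5 := by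
        have := map_triW ρ r a b c
        rw [ro hac had hau, ro hbc hbd hbu, rc] at this
        rw [hW4, ← this]
        rintro _ ⟨z, hz, rfl⟩
        exact hrU z ((le_sup_left : W3 ≤ U5) hz)
      have mu : triW ρ a b u ≤ U5 := by
        have := map_triW ρ r a b d
        rw [ro hac had hau, ro hbc hbd hbu, rd] at this
        rw [← this]
        rintro _ ⟨z, hz, rfl⟩
        exact hrU z (m4 hz)
      have hdim34 : finrank K ↥(W3 ⊔ W4) = 4 := by
        have := Submodule.finrank_sup_add_finrank_inf_eq W3 W4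
        rw [hI, finrank_bot] at this
        omega
      have hdim5 : finrank K U5 ≤ 4 := by
        have := Submodule.finrank_sup_add_finrank_inf_eq W3 W
        have h' : finrank K W = 2 := triW_dim ρ h2 h9 hB IH hk₀ ncdu
        rw [hU5]
        omega
      have heq : W3 ⊔ W4 = U5 := Submodule.eq_of_le_of_finrank_le (sup_le le_sup_left m4) (by omega)
      obtain ⟨z3, hz3, z4, hz4, hz⟩ := Submodule.mem_sup.1 (heq.ge (mu (hv a b u nabu).2.1))
      have hsu : ρ s (v a b u) = v a b u := by
        rw [hact _ a b u nabu, s_a, s_b, s_o hau.symm hbu.symm hux huy, (hv a b u nabu).2.2]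
      have huniq : ∀ p ∈ W3, ∀ q ∈ W4, p + q = 0 → p = 0 ∧ q = 0 := by
        intro p hp q hq hpq
        have hp' : p ∈ W3 ⊓ W4 := ⟨hp, by rw [eq_neg_of_add_eq_zero_left hpq]; exact W4.neg_mem hq⟩
        rw [hI, Submodule.mem_bot] at hp'
        exact ⟨hp', by simpa [hp'] using hpq⟩
      have hfx := huniq (ρ s z3 - z3) (W3.sub_mem (hsW nabc hcx hcy z3 hz3) hz3) (ρ s z4 - z4)
        (W4.sub_mem (hsW nabd hdx hdy z4 hz4) hz4) (by
          rw [← sub_eq_zero] at hsu
          rw [← hz, map_add] at hsu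
          rw [← hsu]; abel)
      obtain ⟨p, rfl⟩ := hone nxc z3 hz3 (sub_eq_zero.1 hfx.1)
      obtain ⟨q, rfl⟩ := hone nxd z4 hz4 (sub_eq_zero.1 hfx.2)
      have hτu : ρ τ (v a b u) = v a b u := by
        rw [hact _ a b u nabu, τ_o hac had hax hay, τ_o hbc hbd hbx hby, τ_o hcu.symm hdu.symm hux huy]
      have hpq : q = p := by
        have h1 := congrArg (ρ τ) hz
        rw [map_add, map_smul, map_smul, ht3, ht4, hτu, ← hz] at h1
        have := huniq ((q - p) • v a b c) (W3.smul_mem _ (hv a b c nabc).2.1)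
          ((p - q) • v a b d) (W4.smul_mem _ (hv a b d nabd).2.1)
          (by linear_combination (norm := module) h1)
        exact sub_eq_zero.1 ((smul_eq_zero.1 this.1).resolve_right (hv a b c nabc).1)
      subst hpq
      -- rotate
      have r3 : ρ r (v a b c) = v a b d := by rw [hact _ a b c nabc, ro hac had hau, ro hbc hbd hbu, rc]
      have r4 : ρ r (v a b d) = v a b u := by rw [hact _ a b d nabd, ro hac had hau, ro hbc hbd hbu, rd]
      have r5 : ρ r (v a b u) = v a b c := by rw [hact _ a b u nabu, ro hac had hau, ro hbc hbd hbu, ru]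
      have h1 := congrArg (ρ r) hz
      rw [map_add, map_smul, map_smul, r3, r4, r5, ← hz] at h1
      have := huniq ((q * q - 1) • v a b c) (W3.smul_mem _ (hv a b c nabc).2.1)
        ((q * q + q) • v a b d) (W4.smul_mem _ (hv a b d nabd).2.1)
        (by linear_combination (norm := module) h1)
      have hq1 := sq_one q (sub_eq_zero.1 ((smul_eq_zero.1 this.1).resolve_right (hv a b c nabc).1))
      rw [← hz, hq1, one_smul, one_smul]
    have he := hthird (u := e) (by simp [*]) hex hey
    have hf := hthird (u := f) (by simp [*]) hfx hfy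
    obtain ⟨σ, hσ⟩ := exists_map_list ![a, b, e, f] ![a, b, c, d] (by simp [*]) (by simp [*]) (by omega)
    have h1 := congrArg (ρ σ) (he.trans hf.symm)
    rw [hact _ a b e (by simp [*]), hact _ a b f (by simp [*]), show (σ : Perm α) a = a from hσ 0,
      show (σ : Perm α) b = b from hσ 1, show (σ : Perm α) e = c from hσ 2,
      show (σ : Perm α) f = d from hσ 3] at h1
    have : v a b c ∈ W3 ⊓ W4 := ⟨(hv a b c nabc).2.1, by rw [h1]; exact (hv a b d nabd).2.1⟩
    rw [hI, Submodule.mem_bot] at this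
    exact (hv a b c nabc).1 this

/-- The smallest nontrivial representation, characteristic two. -/
theorem even_false : False := by
  classical
  obtain ⟨v, hv, hact⟩ := exists_triple_vectors ρ h2 h9 hB IH hk₀
  have hpick : ∀ a b : α, ∃ k, k ∉ [a, b] := fun a b => exists_fresh [a, b] (by simp; omega)
  let vv : α → α → V := fun a b => v a b (hpick a b).choose
  have hk : ∀ a b k, [a, b, k].Nodup → vv a b = v a b k := by
    intro a b k h
    obtain ⟨hab, hak, hbk⟩ := nodup_three h
    have hs := (hpick a b).choose_spec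
    show v a b (hpick a b).choose = _
    generalize (hpick a b).choose = l at hs
    simp only [List.mem_cons, List.not_mem_nil, or_false, not_or, ← ne_eq] at hs
    rcases eq_or_ne l k with rfl | hlk
    · rfl
    · exact triple_indep ρ h2 h9 hB IH hk₀ v hv hact (by simp [*, hs.1.symm, hs.2.symm])
  have hneg : ∀ x : V, -x = x := fun x => by
    rw [neg_eq_iff_add_eq_zero, ← two_smul K, h2, zero_smul]
  have hthree : ∀ a b : α, a ≠ b → ∃ k, [a, b, k].Nodup := fun a b hab => by
    obtain ⟨k, hk⟩ := hpick a b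
    simp only [List.mem_cons, List.not_mem_nil, or_false, not_or, ← ne_eq] at hk
    exact ⟨k, by simp [hab, hk.1.symm, hk.2.symm]⟩
  refine hB (big_of_cocycle ρ (by omega) vv (fun a b hab => ?_) (fun a b hab => ?_)
    (fun g a b hab => ?_) (fun a b c hab hbc hca => ?_))
  · obtain ⟨k, h⟩ := hthree a b hab
    rw [hk a b k h]; exact (hv a b k h).1
  · obtain ⟨k, h⟩ := hthree a b hab
    obtain ⟨-, hak, hbk⟩ := nodup_three h
    rw [hneg, hk a b k h, hk b a k (by simp [hab.symm, hak, hbk])]
    exact (hv a b k h).2.2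
  · obtain ⟨k, h⟩ := hthree a b hab
    rw [hk a b k h, hk ((g : Perm α) a) ((g : Perm α) b) ((g : Perm α) k)
      (by have := h.map (g : Perm α).injective; simpa using this), hact g a b k h]
  · have h1 : [a, b, c].Nodup := by simp [hab, hbc, hca.symm]
    have h2' : [b, c, a].Nodup := by simp [hbc, hca, hab.symm]
    have h3' : [c, a, b].Nodup := by simp [hca, hab, hbc.symm]
    rw [hk a b c h1, hk b c a h2', hk c a b h3']
    refine triW_pos_zero ρ h2 h9 hB IH hk₀ h1 (Submodule.add_mem _ (Submodule.add_mem _ (hv a b c h1).2.1 ?_) ?_) ?_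
    · have := (hv b c a h2').2.1
      rwa [triW, triA_rot h1] at this
    · have := (hv c a b h3').2.1
      rwa [triW, triA_rot h2', triA_rot h1] at this
    · rw [map_add, map_add, hact _ a b c h1, hact _ b c a h2', hact _ c a b h3',
        coe_triA hab hca.symm hbc, tri_apply_left hab hbc, tri_apply_mid, tri_apply_right hca.symm hbc]
      abel

end

end Cfsg.Agent.Lib.AltDegree52
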