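/-
The smallest nontrivial representations of alternating groups.
-/
import Mathlib
import Cfsg.Agent.Lib.AltDegree52.OddMain
import Cfsg.Agent.Lib.AltDegree52.EvenMain

set_option autoImplicit false

namespace Cfsg.Agent.Lib.AltDegree52

open Module

universe v

variable {K : Type*} [Field K] [IsAlgClosed K]

theorem trivBelow (r : ℕ) : TrivBelow.{v} K r := by
  induction r using Nat.strong_induction_on with
  | _ r ih =>
    intro β _ _ W _ _ _ σ h9 hlt hd g
    by_contra hg
    have IH : TrivBelow.{v} K (Fintype.card β) := ih _ hlt
    by_cases h2 : (2 : K) = 0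
    · have hB : ¬ Big K (Fintype.card β) (finrank K W) := fun h => by have := h.1; omega
      exact even_false σ h2 h9 hB IH hg
    · have h := odd_big σ h2 h9 hd.le IH hg
      have := h.1
      omega

/-- A nontrivial representation of `A_r`, `r ≥ 9`, has degree at least `r - 2`, and at least `r - 1`
when the characteristic does not divide `r`. -/
theorem ordinary_big {α : Type} [Fintype α] [DecidableEq α] {V : Type v} [AddCommGroup V] [Module K V]
    [FiniteDimensional K V] (ρ : alternatingGroup α →* End K V) (h9 : 9 ≤ Fintype.card α)
    {k₀ : alternatingGroup α} (hk₀ : ρ k₀ ≠ 1) : Big K (Fintype.card α) (finrank K V) := by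
  by_contra hB
  by_cases h2 : (2 : K) = 0
  · exact even_false ρ h2 h9 hB (trivBelow _) hk₀
  · refine hB (odd_big ρ h2 h9 ?_ (trivBelow _) hk₀)
    by_contra hn
    exact hB ⟨by omega, fun _ => by omega⟩

end Cfsg.Agent.Lib.AltDegree52
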