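/-
Faithful representations of double covers of alternating groups: general tools.
-/
import Mathlib
import Cfsg.Agent.Lib.AltDegree52.Small2
import Cfsg.Agent.Lib.RepBounds.Eigen

set_option autoImplicit false
set_option linter.unusedSectionVars false

namespace Cfsg.Agent.Lib.AltDegree52

open Equiv Equiv.Perm Module
open Cfsg.Agent.Lib.Alternating (tri tri_apply_left tri_apply_mid tri_apply_right tri_apply_of_ne)

section General

variable {K V : Type*} [Field K] [AddCommGroup V] [Module K V] [FiniteDimensional K V]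

/-- Anticommuting pairs of square roots of `-1`, commuting with each other. -/
theorem two_pow_dvd [IsAlgClosed K] (h2 : (2 : K) ≠ 0) : ∀ (k : ℕ) (X Y : Fin k → End K V) (W : Submodule K V),
    (∀ i, X i * X i = -1) → (∀ i, Y i * Y i = -1) → (∀ i, Y i * X i = -(X i * Y i)) →
    (∀ i j, i ≠ j → Commute (X i) (X j) ∧ Commute (X i) (Y j) ∧ Commute (Y i) (Y j)) →
    (∀ i, ∀ v ∈ W, X i v ∈ W ∧ Y i v ∈ W) → 2 ^ k ∣ finrank K W := by
  intro k
  induction k with
  | zero => intro X Y W _ _ _ _ _; simp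
  | succ k ih =>
    intro X Y W hX hY hXY hc hW
    obtain ⟨e, he⟩ := IsAlgClosed.exists_pow_nat_eq (-1 : K) (n := 2) two_pos
    set T : End K V := e • X 0 with hT
    have hTT : T * T = 1 := by
      rw [hT, smul_mul_assoc, mul_smul_comm, smul_smul, hX, ← pow_two, he]
      simp
    have hsplit := finrank_involution_split T hTT h2 W (fun v hv => W.smul_mem e (hW 0 v hv).1)
    have hYT : ∀ (t : K), ∀ v ∈ W ⊓ End.eigenspace T t, Y 0 v ∈ W ⊓ End.eigenspace T (-t) := by
      rintro t v ⟨hv, hvt⟩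
      refine ⟨(hW 0 v hv).2, ?_⟩
      rw [SetLike.mem_coe, End.mem_eigenspace_iff] at hvt ⊢
      have hh : T * Y 0 = -(Y 0 * T) := by
        rw [hT, smul_mul_assoc, mul_smul_comm, hXY 0, smul_neg, neg_neg]
      rw [← End.mul_apply, hh, LinearMap.neg_apply, End.mul_apply, hvt, map_smul, neg_smul]
    have hinj : Function.Injective (Y 0) := Function.LeftInverse.injective (g := -Y 0) fun v => by
      rw [LinearMap.neg_apply, ← End.mul_apply, hY]; simp
    have hle : ∀ t : K, finrank K ↥(W ⊓ End.eigenspace T t) ≤ finrank K ↥(W ⊓ End.eigenspace T (-t)) := by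
      intro t
      rw [← (Submodule.equivMapOfInjective (Y 0) hinj (W ⊓ End.eigenspace T t)).symm.finrank_eq]
      exact Submodule.finrank_mono (Submodule.map_le_iff_le_comap.2 (hYT t))
    have heq : finrank K ↥(W ⊓ End.eigenspace T (-1)) = finrank K ↥(W ⊓ End.eigenspace T 1) :=
      le_antisymm (by have := hle (-1); rwa [neg_neg] at this) (hle 1)
    have hd := ih (fun i => X i.succ) (fun i => Y i.succ) (W ⊓ End.eigenspace T 1) (fun i => hX _)
      (fun i => hY _) (fun i => hXY _) (fun i j hij => hc _ _ fun h => hij (Fin.succ_injective _ h))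
      (fun i v hv => ?_)
    · rw [hsplit, heq, pow_succ, ← two_mul, mul_comm]
      exact mul_dvd_mul dvd_rfl hd
    · have c1 : Commute T (X i.succ) := ((hc 0 i.succ (Fin.succ_ne_zero i).symm).1).smul_left e
      have c2 : Commute T (Y i.succ) := ((hc 0 i.succ (Fin.succ_ne_zero i).symm).2.1).smul_left e
      have hv2 := hv.2
      rw [SetLike.mem_coe, End.mem_eigenspace_iff, one_smul] at hv2
      refine ⟨⟨(hW _ v hv.1).1, ?_⟩, ⟨(hW _ v hv.1).2, ?_⟩⟩
      · rw [SetLike.mem_coe, End.mem_eigenspace_iff, one_smul, ← End.mul_apply, c1.eq, End.mul_apply, hv2]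
      · rw [SetLike.mem_coe, End.mem_eigenspace_iff, one_smul, ← End.mul_apply, c2.eq, End.mul_apply, hv2]

/-- Two commuting elements of order three interchanged as `c1 ↦ c2² , c2 ↦ c1`. -/
theorem four_chars [IsAlgClosed K] (h3 : (3 : K) ≠ 0) (hn : finrank K V ≤ 3) (T1 T2 S : End K V)
    (hp1 : T1 ^ 3 = 1) (hp2 : T2 ^ 3 = 1) (hcomm : Commute T1 T2) (hS : Function.Injective S)
    (hS1 : T1 * S = S * T2) (hS2 : T2 * S = S * T1 ^ 2) : T1 = 1 := by
  classical
  by_contra hne
  obtain ⟨x, hx, hx1⟩ := RepBounds.exists_eigenvalue_pow_ne_one T1 (N := 3) (m := 1)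
    (by exact_mod_cast h3) hp1 (by rwa [pow_one])
  rw [pow_one] at hx1
  let T : Fin 2 → End K V := ![T1, T2]
  have hT : ∀ i j, Commute (T i) (T j) := by
    intro i j
    fin_cases i <;> fin_cases j <;> simp [T, hcomm, hcomm.symm]
  obtain ⟨v, hv, hv0, χ, hχ⟩ := RepBounds.exists_common_eigenvector T hT _ hx (fun i w hw => by
    rw [End.mem_eigenspace_iff] at hw ⊢
    rw [← End.mul_apply, show T1 * T i = T i * T1 from (hT 0 i).eq, End.mul_apply, hw, map_smul])
  have hA : T1 v = x • v := End.mem_eigenspace_iff.1 hv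
  obtain ⟨y, hB⟩ : ∃ y : K, T2 v = y • v := ⟨χ 1, hχ 1⟩
  have hx3 : x ^ 3 = 1 := by
    have := End.HasEigenvector.pow_apply ⟨hv, hv0⟩ 3
    rw [hp1, End.one_apply] at this
    exact smul_left_injective K hv0 (by simpa using this.symm)
  have step : ∀ {w : V} {s t : K}, w ≠ 0 → T1 w = s • w → T2 w = t • w →
      S w ≠ 0 ∧ T1 (S w) = t • S w ∧ T2 (S w) = s ^ 2 • S w := by
    intro w s t hw hs ht
    refine ⟨fun e => hw (hS (e.trans (map_zero S).symm)), ?_, ?_⟩
    · rw [← End.mul_apply, hS1, End.mul_apply, ht, map_smul]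
    · rw [← End.mul_apply, hS2, End.mul_apply,
        End.HasEigenvector.pow_apply ⟨End.mem_eigenspace_iff.2 hs, hw⟩ 2, map_smul]
  obtain ⟨h1n, h1a, h1b⟩ := step hv0 hA hB
  obtain ⟨h2n, h2a, h2b⟩ := step h1n h1a h1b
  obtain ⟨h3n, h3a, h3b⟩ := step h2n h2a h2b
  have hxne : x ≠ 0 := fun h => by rw [h] at hx3; simp at hx3
  have hfin : x * (x - 1) = 0 → False := fun h =>
    hx1 (sub_eq_zero.1 ((mul_eq_zero.1 h).resolve_left hxne))
  have e4 : (x ^ 2) ^ 2 = x := by linear_combination x * hx3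
  let J : Finset (Fin 2 → K) := {![x, y], ![y, x ^ 2], ![x ^ 2, y ^ 2], ![y ^ 2, (x ^ 2) ^ 2]}
  have hJ : J.card = 4 := by
    refine Finset.card_eq_four.2 ⟨_, _, _, _, fun h => hfin ?_, fun h => hfin ?_, fun h => hfin ?_,
      fun h => hfin ?_, fun h => hfin ?_, fun h => hfin ?_, rfl⟩
    · have a1 : x = y := congrFun h 0
      have a2 : y = x ^ 2 := congrFun h 1
      linear_combination -(a1 + a2)
    · have a1 : x = x ^ 2 := congrFun h 0
      linear_combination -a1
    · have a1 : x = y ^ 2 := congrFun h 0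
      have a2 : y = (x ^ 2) ^ 2 := congrFun h 1
      rw [a2, e4] at a1
      linear_combination -a1
    · have a1 : y = x ^ 2 := congrFun h 0
      have a2 : x ^ 2 = y ^ 2 := congrFun h 1
      rw [a1, e4] at a2
      linear_combination a2
    · have a2 : x ^ 2 = (x ^ 2) ^ 2 := congrFun h 1
      rw [e4] at a2
      linear_combination a2
    · have a1 : x ^ 2 = y ^ 2 := congrFun h 0
      have a2 : y ^ 2 = (x ^ 2) ^ 2 := congrFun h 1
      rw [e4, ← a1] at a2
      linear_combination a2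
  have hle : J.card ≤ finrank K V := by
    refine RepBounds.card_le_finrank_of_eigenchar T J fun χ hχ => ?_
    simp only [J, Finset.mem_insert, Finset.mem_singleton] at hχ
    rcases hχ with rfl | rfl | rfl | rfl
    · exact ⟨v, hv0, fun i => by fin_cases i <;> simp [T, hA, hB]⟩
    · exact ⟨_, h1n, fun i => by fin_cases i <;> simp [T, h1a, h1b]⟩
    · exact ⟨_, h2n, fun i => by fin_cases i <;> simp [T, h2a, h2b]⟩
    · exact ⟨_, h3n, fun i => by fin_cases i <;> simp [T, h3a, h3b]⟩
  omega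

end General

variable {α : Type*} [Fintype α] [DecidableEq α]
variable {K V : Type*} [Field K] [IsAlgClosed K] [AddCommGroup V] [Module K V] [FiniteDimensional K V]
variable {G : Type*} [Group G]

/-- A representation of a double cover of the alternating group in which the central involution is `-1`. -/
structure SpinData (π : G →* alternatingGroup α) (ρ : G →* End K V) : Prop where
  two : (2 : K) ≠ 0
  card : 9 ≤ Fintype.card α
  pos : 0 < finrank K V
  surj : Function.Surjective π
  ker : ∀ g, π g = 1 → ρ g = 1 ∨ ρ g = -1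
  sq : ∀ g a b c d, [a, b, c, d].Nodup → π g = dtA a b c d → ρ g * ρ g = -1

variable {π : G →* alternatingGroup α} {ρ : G →* End K V}

theorem neg_eq_self_iff (h2 : (2 : K) ≠ 0) {v : V} : -v = v ↔ v = 0 := by
  refine ⟨fun h => ?_, fun h => by simp [h]⟩
  exact (smul_eq_zero.1 (show (2 : K) • v = 0 by rw [two_smul]; nth_rewrite 1 [← h]; exact neg_add_cancel v)).resolve_left h2

theorem SpinData.neg_one_ne_one (H : SpinData π ρ) : (-1 : End K V) ≠ 1 := by
  intro h
  haveI : Nontrivial V := Module.finrank_pos_iff.1 H.pos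
  obtain ⟨v, hv⟩ := exists_ne (0 : V)
  exact hv ((neg_eq_self_iff H.two).1 (by simpa using LinearMap.congr_fun h v))

theorem SpinData.sign (H : SpinData π ρ) {g h : G} (e : π g = π h) : ρ g = ρ h ∨ ρ g = -ρ h := by
  rcases H.ker (g * h⁻¹) (by rw [map_mul, map_inv, e, mul_inv_cancel]) with h1 | h1
  · left
    rw [← one_mul (ρ h), ← h1, ← map_mul, inv_mul_cancel_right]
  · right
    rw [← neg_one_mul (ρ h), ← h1, ← map_mul, inv_mul_cancel_right]

theorem SpinData.exists_neg_one (H : SpinData π ρ) : ∃ z, π z = 1 ∧ ρ z = -1 := by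
  obtain ⟨l, hl, hnd⟩ := exists_extend ([] : List α) List.nodup_nil 4 (by simp; have := H.card; omega)
  match l, hl with
  | [a, b, c, d], _ =>
    rw [List.nil_append] at hnd
    obtain ⟨x, hx⟩ := H.surj (dtA a b c d)
    refine ⟨x * x, by rw [map_mul, hx, (dtA_klein' hnd).2.2.1], by rw [map_mul]; exact H.sq x a b c d hnd hx⟩

/-- Lifts of nontrivial elements do not act trivially. -/
theorem SpinData.ne_one (H : SpinData π ρ) {g : G} (hg : π g ≠ 1) : ρ g ≠ 1 := by
  intro h
  haveI : IsSimpleGroup (alternatingGroup α) :=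
    alternatingGroup.isSimpleGroup (by rw [Nat.card_eq_fintype_card]; have := H.card; omega)
  have hN : (ρ.ker.map π).Normal := (MonoidHom.normal_ker ρ).map π H.surj
  have htop : ρ.ker.map π = ⊤ := by
    rcases hN.eq_bot_or_eq_top with h1 | h1
    · refine absurd ?_ hg
      rw [← Subgroup.mem_bot, ← h1]
      exact Subgroup.mem_map_of_mem π h
    · exact h1
  obtain ⟨l, hl, hnd⟩ := exists_extend ([] : List α) List.nodup_nil 4 (by simp; have := H.card; omega)
  match l, hl with
  | [a, b, c, d], _ =>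
    rw [List.nil_append] at hnd
    obtain ⟨k, hk, hkπ⟩ := (htop ▸ Subgroup.mem_top (dtA a b c d) : dtA a b c d ∈ ρ.ker.map π)
    have := H.sq k a b c d hnd hkπ
    rw [MonoidHom.mem_ker.1 hk, mul_one] at this
    exact H.neg_one_ne_one this.symm

theorem SpinData.exists_oddLift (H : SpinData π ρ) {w : alternatingGroup α} {l : ℕ} (hl : Odd l)
    (hw : w ^ l = 1) : ∃ g, π g = w ∧ ρ g ^ l = 1 := by
  obtain ⟨g, rfl⟩ := H.surj w
  obtain ⟨z, hz1, hz⟩ := H.exists_neg_one
  rcases H.ker (g ^ l) (by rw [map_pow, hw]) with h | h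
  · exact ⟨g, rfl, by rw [← map_pow, h]⟩
  · refine ⟨g * z, by rw [map_mul, hz1, mul_one], ?_⟩
    rw [map_mul, hz, mul_neg, mul_one, neg_pow, hl.neg_one_pow, ← map_pow, h]
    simp

theorem SpinData.oddLift_unique (H : SpinData π ρ) {g h : G} {l : ℕ} (hl : Odd l) (e : π g = π h)
    (hg : ρ g ^ l = 1) (hh : ρ h ^ l = 1) : ρ g = ρ h := by
  rcases H.sign e with h1 | h1
  · exact h1
  · exfalso
    rw [h1, neg_pow, hl.neg_one_pow, hh, mul_one] at hg
    exact H.neg_one_ne_one hg

theorem apply_conj_pow (ρ : G →* End K V) (s g : G) (l : ℕ) (hg : ρ g ^ l = 1) :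
    ρ (s * g * s⁻¹) ^ l = 1 := by
  rw [← map_pow, conj_pow, map_mul, map_mul, map_pow, hg, mul_one, ← map_mul, mul_inv_cancel, map_one]

/-- Conjugation of lifts of elements of odd order is exact. -/
theorem SpinData.conj_odd (H : SpinData π ρ) {s g g' : G} {l : ℕ} (hl : Odd l) (hg : ρ g ^ l = 1)
    (hg' : ρ g' ^ l = 1) (e : π s * π g * (π s)⁻¹ = π g') : ρ s * ρ g = ρ g' * ρ s := by
  rw [H.oddLift_unique hl (g := g') (h := s * g * s⁻¹) (by rw [map_mul, map_mul, map_inv, e]) hg'
    (apply_conj_pow ρ s g l hg), ← map_mul, ← map_mul, inv_mul_cancel_right]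

theorem SpinData.conj_dim (H : SpinData π ρ) {s g g' : G} {l : ℕ} (hl : Odd l) (hg : ρ g ^ l = 1)
    (hg' : ρ g' ^ l = 1) (e : π s * π g * (π s)⁻¹ = π g') (u : K) :
    finrank K (End.eigenspace (ρ g') u) = finrank K (End.eigenspace (ρ g) u) := by
  rw [H.oddLift_unique hl (g := g') (h := s * g * s⁻¹) (by rw [map_mul, map_mul, map_inv, e]) hg'
    (apply_conj_pow ρ s g l hg), finrank_eigenspace_conj]

theorem SpinData.commute_odd (H : SpinData π ρ) {s g : G} {l : ℕ} (hl : Odd l) (hg : ρ g ^ l = 1)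
    (e : π s * π g = π g * π s) : Commute (ρ s) (ρ g) :=
  H.conj_odd hl hg hg (by rw [e, mul_inv_cancel_right])

theorem SpinData.commute_tri (H : SpinData π ρ) {x y : G} {a b c : α} (h : [a, b, c].Nodup)
    (ha : (π x : Perm α) a = a) (hb : (π x : Perm α) b = b) (hc : (π x : Perm α) c = c)
    (hy : π y = triA a b c) : Commute (ρ x) (ρ y) := by
  have h3 : triA a b c ^ 3 = 1 := by
    simp only [List.nodup_cons, List.mem_cons, List.not_mem_nil, or_false, not_or, ← ne_eq] at h
    refine Subtype.ext ?_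
    rw [SubgroupClass.coe_pow, coe_triA h.1.1 h.1.2 h.2.1]
    exact tri_pow_three h.1.1 h.1.2 h.2.1
  obtain ⟨g, hg, hg3⟩ := H.exists_oddLift (show Odd 3 by decide) h3
  have h1 := H.commute_odd (show Odd 3 by decide) hg3 (s := x)
    (by rw [hg]; exact commute_triA_of_fix ha hb hc)
  rcases H.sign (hy.trans hg.symm) with e | e <;> rw [e]
  · exact h1
  · exact h1.neg_right

theorem dt_eq_tri_mul {a b c d : α} (h : [a, b, c, d].Nodup) :
    dtA a b c d = triA a b c * triA b c d := by
  obtain ⟨hab, hac, had, hbc, hbd, hcd⟩ := nodup_four h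
  refine Subtype.ext ?_
  rw [Subgroup.coe_mul, coe_dtA hab hcd, coe_triA hab hac hbc, coe_triA hbc hbd hcd]
  refine Equiv.ext fun x => ?_
  simp only [dt, tri, Perm.mul_apply, Equiv.swap_apply_def]
  split_ifs <;> simp_all

theorem SpinData.commute_dt (H : SpinData π ρ) {x y : G} {a b c d : α} (h : [a, b, c, d].Nodup)
    (ha : (π x : Perm α) a = a) (hb : (π x : Perm α) b = b) (hc : (π x : Perm α) c = c)
    (hd : (π x : Perm α) d = d) (hy : π y = dtA a b c d) : Commute (ρ x) (ρ y) := by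
  obtain ⟨y1, hy1⟩ := H.surj (triA a b c)
  obtain ⟨y2, hy2⟩ := H.surj (triA b c d)
  have h1 := H.commute_tri (h.sublist (by simp)) ha hb hc hy1
  have h2 := H.commute_tri (h.sublist (by simp)) hb hc hd hy2
  have hyy : π y = π (y1 * y2) := by rw [map_mul, hy1, hy2, hy, dt_eq_tri_mul h]
  rcases H.sign hyy with e | e <;> rw [e, map_mul]
  · exact h1.mul_right h2
  · exact (h1.mul_right h2).neg_right

theorem SpinData.anticommute (H : SpinData π ρ) {x y : G} {a b c d : α} (h : [a, b, c, d].Nodup)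
    (hx : π x = dtA a b c d) (hy : π y = dtA a c b d) : ρ y * ρ x = -(ρ x * ρ y) := by
  obtain ⟨hab, hac, had, hbc, hbd, hcd⟩ := nodup_four h
  have hX := H.sq x a b c d h hx
  have hY := H.sq y a c b d (by simp [*, hbc.symm]) hy
  have hXY := H.sq (x * y) a d b c (by simp [*, hbd.symm, hcd.symm])
    (by rw [map_mul, hx, hy, dtA_klein hab hac had hbc hbd hcd])
  rw [map_mul] at hXY
  set X := ρ x
  set Y := ρ y
  calc Y * X = (-1 : End K V) * (-1) * (Y * X) := by simp
    _ = X * X * (Y * X) * (Y * Y) := by rw [hX, hY]; simp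
    _ = X * (X * Y * (X * Y)) * Y := by simp only [mul_assoc]
    _ = -(X * Y) := by rw [hXY, mul_neg_one, neg_mul]

/-- A subspace invariant under the lifts of the permutations fixing `s` has dimension divisible by a power of two. -/
theorem SpinData.two_pow_dvd_finrank (H : SpinData π ρ) (s : List α) (hs : s.Nodup) (k : ℕ)
    (hk : s.length + 4 * k ≤ Fintype.card α) (W : Submodule K V)
    (hW : ∀ g, π g ∈ offSub s → ∀ v ∈ W, ρ g v ∈ W) : 2 ^ k ∣ finrank K W := by
  obtain ⟨l, hl, hnd⟩ := exists_extend s hs (4 * k) hk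
  obtain ⟨-, hl2, hdisj⟩ := List.nodup_append.1 hnd
  let pt : Fin k → Fin 4 → α := fun i t => l.get ⟨4 * (i : ℕ) + (t : ℕ), by omega⟩
  have hpt : ∀ i j t u, pt i t = pt j u → i = j ∧ t = u := fun i j t u hh => by
    have := congrArg Fin.val (hl2.injective_get hh)
    simp only at this
    refine ⟨Fin.ext ?_, Fin.ext ?_⟩ <;> omega
  have hout : ∀ i t x, x ∈ s → x ≠ pt i t := fun i t x hx => hdisj x hx _ (List.get_mem _ _)
  have ne : ∀ i t u, t ≠ u → pt i t ≠ pt i u := fun i t u htu hh => htu (hpt i i t u hh).2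
  have hnd4 : ∀ i, [pt i 0, pt i 1, pt i 2, pt i 3].Nodup := fun i => by simp [ne]
  have hnd4' : ∀ i, [pt i 0, pt i 2, pt i 1, pt i 3].Nodup := fun i => by simp [ne]
  choose x hx using fun i => H.surj (dtA (pt i 0) (pt i 1) (pt i 2) (pt i 3))
  choose y hy using fun i => H.surj (dtA (pt i 0) (pt i 2) (pt i 1) (pt i 3))
  have hfix : ∀ i (z : α), (∀ t, z ≠ pt i t) →
      (π (x i) : Perm α) z = z ∧ (π (y i) : Perm α) z = z := fun i z hz => by
    rw [hx, hy, coe_dtA (ne i 0 1 (by decide)) (ne i 2 3 (by decide)),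
      coe_dtA (ne i 0 2 (by decide)) (ne i 1 3 (by decide))]
    simp [dt, swap_apply_of_ne_of_ne, hz]
  have hother : ∀ i j, i ≠ j → ∀ t u, pt j u ≠ pt i t := fun i j hij t u hh => hij (hpt _ _ _ _ hh).1.symm
  refine two_pow_dvd H.two k (fun i => ρ (x i)) (fun i => ρ (y i)) W
    (fun i => H.sq _ _ _ _ _ (hnd4 i) (hx i)) (fun i => H.sq _ _ _ _ _ (hnd4' i) (hy i))
    (fun i => H.anticommute (hnd4 i) (hx i) (hy i)) (fun i j hij => ?_) (fun i v hv => ?_)
  · exact ⟨H.commute_dt (hnd4 j) (hfix i _ (fun t => hother i j hij t 0)).1 (hfix i _ (fun t => hother i j hij t 1)).1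
      (hfix i _ (fun t => hother i j hij t 2)).1 (hfix i _ (fun t => hother i j hij t 3)).1 (hx j),
      H.commute_dt (hnd4' j) (hfix i _ (fun t => hother i j hij t 0)).1 (hfix i _ (fun t => hother i j hij t 2)).1
      (hfix i _ (fun t => hother i j hij t 1)).1 (hfix i _ (fun t => hother i j hij t 3)).1 (hy j),
      H.commute_dt (hnd4' j) (hfix i _ (fun t => hother i j hij t 0)).2 (hfix i _ (fun t => hother i j hij t 2)).2
      (hfix i _ (fun t => hother i j hij t 1)).2 (hfix i _ (fun t => hother i j hij t 3)).2 (hy j)⟩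
  · exact ⟨hW _ (fun z hz => (hfix i z (fun t => hout i t z hz)).1) v hv,
      hW _ (fun z hz => (hfix i z (fun t => hout i t z hz)).2) v hv⟩

/-- No subspace of dimension at most three is invariant under the lifts of the even permutations of six points. -/
theorem SpinData.six_points (H : SpinData π ρ) (h3 : (3 : K) ≠ 0) (s : List α) (hs : s.Nodup)
    (hk : s.length + 6 ≤ Fintype.card α) (W : Submodule K V) (hn : finrank K W ≤ 3)
    (hW : ∀ g, π g ∈ offSub s → ∀ v ∈ W, ρ g v ∈ W) : W = ⊥ := by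
  by_contra hne
  obtain ⟨l, hl, hnd⟩ := exists_extend s hs 6 hk
  match l, hl with
  | [a, b, c, d, e, f], _ =>
    obtain ⟨-, hnd6, hdisj⟩ := List.nodup_append.1 hnd
    have hout : ∀ x ∈ s, x ≠ a ∧ x ≠ b ∧ x ≠ c ∧ x ≠ d ∧ x ≠ e ∧ x ≠ f := fun x hx =>
      ⟨hdisj x hx a (by simp), hdisj x hx b (by simp), hdisj x hx c (by simp), hdisj x hx d (by simp),
        hdisj x hx e (by simp), hdisj x hx f (by simp)⟩
    simp only [List.nodup_cons, List.mem_cons, List.not_mem_nil, or_false, not_or, ← ne_eq] at hnd6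
    obtain ⟨⟨hab, hac, had, hae, haf⟩, ⟨hbc, hbd, hbe, hbf⟩, ⟨hcd, hce, hcf⟩, ⟨hde, hdf⟩, hef, -⟩ := hnd6
    set G' := (offSub s).comap π with hG'
    set σ := resHom (ρ.comp G'.subtype) W (fun g v hv => hW g.1 g.2 v hv) with hσ
    have hoff : ∀ {u v w : α}, [u, v, w].Nodup → (∀ x ∈ s, x ≠ u ∧ x ≠ v ∧ x ≠ w) →
        triA u v w ∈ offSub s := fun {u v w} hu hx x hxs => by
      simp only [List.nodup_cons, List.mem_cons, List.not_mem_nil, or_false, not_or, ← ne_eq] at hu
      rw [coe_triA hu.1.1 hu.1.2 hu.2.1]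
      exact tri_apply_of_ne (hx x hxs).1 (hx x hxs).2.1 (hx x hxs).2.2
    -- all three-cycles on the six points act trivially
    have key : ∀ {a b c d e f : α}, [a, b, c, d, e, f].Nodup →
        (∀ x ∈ s, x ≠ a ∧ x ≠ b ∧ x ≠ c ∧ x ≠ d ∧ x ≠ e ∧ x ≠ f) →
        ∀ g, π g = triA a b c → ρ g ^ 3 = 1 → ∀ v ∈ W, ρ g v = v := by
      intro a b c d e f h6 hout g hg hg3
      simp only [List.nodup_cons, List.mem_cons, List.not_mem_nil, or_false, not_or, ← ne_eq] at h6
      obtain ⟨⟨hab, hac, had, hae, haf⟩, ⟨hbc, hbd, hbe, hbf⟩, ⟨hcd, hce, hcf⟩, ⟨hde, hdf⟩, hef, -⟩ := h6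
      set c1 := triA a b c with hc1
      set c2 := triA d e f with hc2
      have hp2 : c2 ^ 3 = 1 := Subtype.ext (by
        rw [SubgroupClass.coe_pow, hc2, coe_triA hde hdf hef]; exact tri_pow_three hde hdf hef)
      obtain ⟨g2, hg2, hg23⟩ := H.exists_oddLift (show Odd 3 by decide) hp2
      have hcomm : c1 * c2 = c2 * c1 := commute_triA_of_fix
        (by rw [hc1, coe_triA hab hac hbc, tri_apply_of_ne had.symm hbd.symm hcd.symm])
        (by rw [hc1, coe_triA hab hac hbc, tri_apply_of_ne hae.symm hbe.symm hce.symm])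
        (by rw [hc1, coe_triA hab hac hbc, tri_apply_of_ne haf.symm hbf.symm hcf.symm])
      set τp : Perm α := swap a d * (swap b f * swap f c * swap c e) with hτp
      let τ : alternatingGroup α := ⟨τp, by
        rw [mem_alternatingGroup, hτp, map_mul, map_mul, map_mul, sign_swap had, sign_swap hbf,
          sign_swap hcf.symm, sign_swap hce]
        norm_num⟩
      have ta : τp a = d := by simp [hτp, swap_apply_of_ne_of_ne, hab, hac, haf, hae]
      have tb : τp b = f := by simp [hτp, swap_apply_of_ne_of_ne, hbc, hbe, hbf, haf.symm, hdf.symm]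
      have tc : τp c = e := by simp [hτp, swap_apply_of_ne_of_ne, hbe.symm, hef, hce.symm, hae.symm, hde.symm]
      have td : τp d = a := by simp [hτp, swap_apply_of_ne_of_ne, hcd.symm, hde, hdf, hbd.symm]
      have te : τp e = b := by simp [hτp, swap_apply_of_ne_of_ne, hab.symm, hbd, hcf, hce, hbc.symm]
      have tf : τp f = c := by
        simp [hτp, swap_apply_of_ne_of_ne, hcf.symm, hcf, hef.symm, hac.symm, hcd, hbc.symm]
      obtain ⟨t, ht⟩ := H.surj τ
      have hτ1 : τ * c1 * τ⁻¹ = c2 ^ 2 := by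
        have hinv : c2 ^ 2 = c2⁻¹ := eq_inv_of_mul_eq_one_left (by rw [← pow_succ, hp2])
        rw [hinv, hc1, conj_triA]
        show triA (τp a) (τp b) (τp c) = _
        rw [ta, tb, tc]
        refine Subtype.ext ?_
        rw [Subgroup.coe_inv, hc2, coe_triA hde hdf hef, coe_triA hdf hde hef.symm, tri_inv hde hdf hef]
      have hτ2 : τ * c2 * τ⁻¹ = c1 := by
        rw [hc2, conj_triA]
        show triA (τp d) (τp e) (τp f) = _
        rw [td, te, tf]
      have hτmem : τ ∈ offSub s := fun x hx => by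
        show τp x = x
        simp [hτp, swap_apply_of_ne_of_ne, (hout x hx).1, (hout x hx).2.1, (hout x hx).2.2.1, (hout x hx).2.2.2.1,
          (hout x hx).2.2.2.2.1, (hout x hx).2.2.2.2.2]
      have m1 : g ∈ G' := by
        show π g ∈ offSub s
        rw [hg, hc1]
        exact hoff (by simp [*]) fun x hx => ⟨(hout x hx).1, (hout x hx).2.1, (hout x hx).2.2.1⟩
      have m2 : g2 ∈ G' := by
        show π g2 ∈ offSub s
        rw [hg2, hc2]
        exact hoff (by simp [*]) fun x hx => ⟨(hout x hx).2.2.2.1, (hout x hx).2.2.2.2.1, (hout x hx).2.2.2.2.2⟩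
      have mt : t ∈ G' := by show π t ∈ offSub s; rw [ht]; exact hτmem
      have lift : ∀ {u u' : G} (hu : u ∈ G') (hu' : u' ∈ G'), ρ u = ρ u' → σ ⟨u, hu⟩ = σ ⟨u', hu'⟩ :=
        fun _ _ e => LinearMap.ext fun v => Subtype.ext (LinearMap.congr_fun e v.1)
      have hg2' : ρ (g2 ^ 2) ^ 3 = 1 := by rw [map_pow, ← pow_mul, mul_comm, pow_mul, hg23, one_pow]
      have e2 : ρ t * ρ g2 = ρ g * ρ t := H.conj_odd (show Odd 3 by decide) hg23 hg3 (by rw [ht, hg2, hτ2, hg])
      have e1 : ρ t * ρ g = ρ (g2 ^ 2) * ρ t :=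
        H.conj_odd (show Odd 3 by decide) hg3 hg2' (by rw [ht, hg, hτ1, map_pow, hg2])
      have e1' : ρ g2 * ρ t = ρ t * ρ g ^ 2 := by
        have hh : ρ t * ρ g ^ 2 = ρ (g2 ^ 2) ^ 2 * ρ t := by
          rw [pow_two, ← mul_assoc, e1, mul_assoc, e1, ← mul_assoc, ← pow_two]
        rw [hh, map_pow, ← pow_mul, show 2 * 2 = 3 + 1 from rfl, pow_succ, hg23, one_mul]
      have hc12 : Commute (ρ g) (ρ g2) :=
        H.commute_odd (show Odd 3 by decide) hg23 (by rw [hg, hg2, hcomm])
      intro v hv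
      have h1 : σ ⟨g, m1⟩ = 1 := by
        refine four_chars h3 hn (σ ⟨g, m1⟩) (σ ⟨g2, m2⟩) (σ ⟨t, mt⟩) ?_ ?_ ?_ (apply_injective σ _) ?_ ?_
        · rw [← map_pow, ← map_one σ]
          exact lift _ _ (by simp [hg3])
        · rw [← map_pow, ← map_one σ]
          exact lift _ _ (by simp [hg23])
        · show σ _ * σ _ = σ _ * σ _
          rw [← map_mul, ← map_mul]
          exact lift _ _ (by simp [hc12.eq])
        · rw [← map_mul, ← map_mul]
          exact lift _ _ (by simp [e2])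
        · rw [← map_pow, ← map_mul, ← map_mul]
          exact lift _ _ (by simp [e1'])
      exact congrArg Subtype.val (LinearMap.congr_fun h1 ⟨v, hv⟩)
    -- a double transposition then acts as a sign
    obtain ⟨g1, hg1, hg13⟩ := H.exists_oddLift (show Odd 3 by decide)
      (show triA a b c ^ 3 = 1 from Subtype.ext (by
        rw [SubgroupClass.coe_pow, coe_triA hab hac hbc]; exact tri_pow_three hab hac hbc))
    obtain ⟨g2, hg2, hg23⟩ := H.exists_oddLift (show Odd 3 by decide)
      (show triA b c d ^ 3 = 1 from Subtype.ext (by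
        rw [SubgroupClass.coe_pow, coe_triA hbc hbd hcd]; exact tri_pow_three hbc hbd hcd))
    have f1 := key (by simp [*]) hout g1 hg1 hg13
    have f2 := key (a := b) (b := c) (c := d) (d := a) (e := e) (f := f)
      (by simp [*, hab.symm, hac.symm, had.symm])
      (fun x hx => ⟨(hout x hx).2.1, (hout x hx).2.2.1, (hout x hx).2.2.2.1, (hout x hx).1, (hout x hx).2.2.2.2.1,
        (hout x hx).2.2.2.2.2⟩) g2 hg2 hg23
    have hsq := H.sq (g1 * g2) a b c d (by simp [*]) (by rw [map_mul, hg1, hg2, dt_eq_tri_mul (by simp [*])])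
    obtain ⟨v, hv, hv0⟩ := Submodule.exists_mem_ne_zero_of_ne_bot hne
    have h := LinearMap.congr_fun hsq v
    simp only [map_mul, End.mul_apply, f1 v hv, f2 v hv, LinearMap.neg_apply, End.one_apply] at h
    exact hv0 ((neg_eq_self_iff H.two).1 h.symm)

end Cfsg.Agent.Lib.AltDegree52
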