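/-
Cycles and eigenvalues in double covers of alternating groups.
-/
import Mathlib
import Cfsg.Agent.Lib.AltDegree52.Spin
import Cfsg.Agent.Lib.AltDegree52.Even

set_option autoImplicit false
set_option linter.unusedSectionVars false

namespace Cfsg.Agent.Lib.AltDegree52

open Equiv Equiv.Perm Module
open Cfsg.Agent.Lib.Alternating (tri tri_apply_left tri_apply_mid tri_apply_right tri_apply_of_ne)

variable {α : Type} [Fintype α] [DecidableEq α]

theorem conj_cyc5 (σ : alternatingGroup α) (a b c d e : α) :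
    σ * cyc5 a b c d e * σ⁻¹ = cyc5 ((σ : Perm α) a) ((σ : Perm α) b) ((σ : Perm α) c) ((σ : Perm α) d)
      ((σ : Perm α) e) := by
  rw [cyc5, cyc5, ← conj_mul, conj_triA, conj_triA]

theorem cyc5_sq {a b c d e : α} (h : [a, b, c, d, e].Nodup) :
    cyc5 a c e b d = cyc5 a b c d e ^ 2 := by
  obtain ⟨ga, gb, gc, gd, ge, go⟩ := coe_cyc5 h
  simp only [List.nodup_cons, List.mem_cons, List.not_mem_nil, or_false, not_or, ← ne_eq] at h
  obtain ⟨⟨hab, hac, had, hae⟩, ⟨hbc, hbd, hbe⟩, ⟨hcd, hce⟩, hde, -⟩ := h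
  obtain ⟨pa, pc, pe, pb, pd, po⟩ := coe_cyc5 (a := a) (b := c) (c := e) (d := b) (e := d)
    (by simp [hac, hae, hab, had, hce, hbc.symm, hcd, hbe.symm, hde.symm, hbd])
  refine Subtype.ext (Equiv.ext fun z => ?_)
  rw [SubgroupClass.coe_pow, pow_two, Perm.mul_apply]
  by_cases hza : z = a; · simp [hza, pa, ga, gb]
  by_cases hzb : z = b; · simp [hzb, pb, gb, gc]
  by_cases hzc : z = c; · simp [hzc, pc, gc, gd]
  by_cases hzd : z = d; · simp [hzd, pd, gd, ge]
  by_cases hze : z = e; · simp [hze, pe, ge, ga]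
  simp [go z hza hzb hzc hzd hze, po z hza hzc hze hzb hzd]

theorem cyc5_ne_one {a b c d e : α} (h : [a, b, c, d, e].Nodup) : cyc5 a b c d e ≠ 1 := fun hh => by
  obtain ⟨ga, -⟩ := coe_cyc5 h
  rw [hh] at ga
  simp only [List.nodup_cons, List.mem_cons, not_or] at h
  exact h.1.1 (by simpa using ga)

/-- The four-cycle `b → c → e → d → b`. -/
def four (b c e d : α) : Perm α := swap b c * (swap c e * swap e d)

theorem four_apply {b c e d : α} (h : [b, c, e, d].Nodup) :
    four b c e d b = c ∧ four b c e d c = e ∧ four b c e d e = d ∧ four b c e d d = b ∧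
      (∀ x, x ∉ [b, c, e, d] → four b c e d x = x) ∧ Perm.sign (four b c e d) = -1 := by
  obtain ⟨hbc, hbe, hbd, hce, hcd, hed⟩ := nodup_four h
  refine ⟨?_, ?_, ?_, ?_, fun x hx => ?_, ?_⟩
  · simp [four, swap_apply_of_ne_of_ne, hbc, hbe, hbd]
  · simp [four, swap_apply_of_ne_of_ne, hce, hcd, hbe.symm, hce.symm]
  · simp [four, swap_apply_of_ne_of_ne, hbd.symm, hcd.symm, hed.symm]
  · simp [four]
  · simp only [List.mem_cons, List.not_mem_nil, or_false, not_or] at hx
    simp [four, swap_apply_of_ne_of_ne, hx]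
  · rw [four, map_mul, map_mul, sign_swap hbc, sign_swap hce, sign_swap hed]
    norm_num

/-- Permutations with disjoint supports commute. -/
theorem commute_of_disjoint {w g : alternatingGroup α} {s : List α}
    (hw : ∀ x, x ∉ s → (w : Perm α) x = x) (hg : g ∈ offSub s) : g * w = w * g := by
  refine Subtype.ext (Equiv.ext fun x => ?_)
  show (g : Perm α) ((w : Perm α) x) = (w : Perm α) ((g : Perm α) x)
  by_cases hx : x ∈ s
  · rw [hg x hx]
    refine hg _ ?_
    by_contra hc
    have := (w : Perm α).injective (hw _ hc)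
    rw [this] at hc
    exact hc hx
  · rw [hw x hx, hw]
    intro hc
    have := (g : Perm α).injective (hg _ hc)
    rw [this] at hc
    exact hx hc

variable {K V : Type*} [Field K] [IsAlgClosed K] [AddCommGroup V] [Module K V] [FiniteDimensional K V]
variable {G : Type*} [Group G] {π : G →* alternatingGroup α} {ρ : G →* End K V}

theorem pow_eq_mod_of {M : Type*} [Monoid M] {u : M} {l : ℕ} (h : u ^ l = 1) (k : ℕ) : u ^ k = u ^ (k % l) := by
  conv_lhs => rw [← Nat.mod_add_div k l, pow_add, pow_mul, h, one_pow, mul_one]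

/-- A lift of a nontrivial element of odd prime order has an eigenvalue of that order. -/
theorem SpinData.exists_eigen (H : SpinData π ρ) {g : G} {l : ℕ} (hlK : (l : K) ≠ 0) (hg : ρ g ^ l = 1)
    (hne : π g ≠ 1) : ∃ u : K, u ^ l = 1 ∧ u ≠ 1 ∧ End.eigenspace (ρ g) u ≠ ⊥ := by
  obtain ⟨u, hu, hu1⟩ := RepBounds.exists_eigenvalue_pow_ne_one (ρ g) (N := l) (m := 1) hlK hg
    (by rw [pow_one]; exact H.ne_one hne)
  rw [pow_one] at hu1
  obtain ⟨v, hv, hv0⟩ := Submodule.exists_mem_ne_zero_of_ne_bot hu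
  refine ⟨u, ?_, hu1, hu⟩
  have h1 := End.HasEigenvector.pow_apply ⟨hv, hv0⟩ l
  rw [hg, End.one_apply] at h1
  exact smul_left_injective K hv0 (by simpa using h1.symm)

/-- Conjugacy of an element to a power of itself moves the eigenvalues. -/
theorem SpinData.eig_step (H : SpinData π ρ) {g : G} {l : ℕ} (hl : Odd l) (hg : ρ g ^ l = 1)
    {σ : alternatingGroup α} {k j : ℕ} (hσ : σ * π g * σ⁻¹ = π g ^ k) (hkj : k * j % l = 1) (u : K) :
    finrank K (End.eigenspace (ρ g) u) ≤ finrank K (End.eigenspace (ρ g) (u ^ j)) := by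
  obtain ⟨s, hs⟩ := H.surj σ
  have hgk : ρ (g ^ k) ^ l = 1 := by rw [map_pow, ← pow_mul, mul_comm, pow_mul, hg, one_pow]
  rw [← H.conj_dim hl hg hgk (s := s) (by rw [hs, hσ, map_pow]) u]
  refine Submodule.finrank_mono fun x hx => ?_
  rcases eq_or_ne x 0 with rfl | hx0
  · exact Submodule.zero_mem _
  rw [End.mem_eigenspace_iff]
  have h1 := End.HasEigenvector.pow_apply ⟨hx, hx0⟩ j
  rwa [map_pow, ← pow_mul, pow_eq_mod_of hg, hkj, pow_one] at h1

/-- Lifts of disjoint permutations preserve eigenspaces. -/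
theorem SpinData.off_inv (H : SpinData π ρ) {g : G} {l : ℕ} (hl : Odd l) (hg : ρ g ^ l = 1) {s : List α}
    (hw : ∀ x, x ∉ s → (π g : Perm α) x = x) (u : K) :
    ∀ h, π h ∈ offSub s → ∀ v ∈ End.eigenspace (ρ g) u, ρ h v ∈ End.eigenspace (ρ g) u := by
  intro h hh v hv
  rw [End.mem_eigenspace_iff] at hv ⊢
  rw [← End.mul_apply, ← (H.commute_odd hl hg (commute_of_disjoint hw hh)).eq, End.mul_apply, hv, map_smul]

/-- The lifts of the permutations of five points act faithfully. -/
theorem SpinData.faithful_off (H : SpinData π ρ) {s : List α} (hs : s.Nodup)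
    (hk : s.length + 5 ≤ Fintype.card α) {W : Submodule K V} (hne : W ≠ ⊥)
    (hW : ∀ g, π g ∈ offSub s → ∀ v ∈ W, ρ g v ∈ W) {g : G} (hg : π g ∈ offSub s) (hg1 : π g ≠ 1) :
    ¬ ∀ v ∈ W, ρ g v = v := by
  intro hfix
  haveI : IsSimpleGroup (alternatingGroup {x // x ∉ s}) :=
    alternatingGroup.isSimpleGroup (by rw [Nat.card_eq_fintype_card, card_off hs]; omega)
  set G' := (offSub s).comap π with hG'
  set σ := resHom (ρ.comp G'.subtype) W (fun k v hv => hW k.1 k.2 v hv) with hσ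
  set M := (σ.ker.map (π.comp G'.subtype)).comap (offHom s) with hM
  have hN : M.Normal := ⟨fun m hm k => by
    obtain ⟨n, hn, hnm⟩ := hm
    obtain ⟨K', hK⟩ := H.surj (offHom s k)
    have hK' : K' ∈ G' := by
      show π K' ∈ offSub s
      rw [hK, ← offHom_range]; exact ⟨k, rfl⟩
    refine ⟨⟨K', hK'⟩ * n * ⟨K', hK'⟩⁻¹, (MonoidHom.normal_ker σ).conj_mem n hn _, ?_⟩
    rw [map_mul, map_mul, map_inv, hnm, MonoidHom.comp_apply, Subgroup.coe_subtype, hK, map_mul, map_mul, map_inv]⟩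
  have htop : M = ⊤ := by
    rcases hN.eq_bot_or_eq_top with h1 | h1
    · exfalso
      obtain ⟨k, hk'⟩ : π g ∈ (offHom s).range := by rw [offHom_range]; exact hg
      have : k ∈ M := ⟨⟨g, hg⟩, LinearMap.ext fun v => Subtype.ext (hfix v.1 v.2), hk'.symm⟩
      rw [h1, Subgroup.mem_bot] at this
      exact hg1 (by rw [← hk', this, map_one])
    · exact h1
  obtain ⟨l, hl, hnd⟩ := exists_extend s hs 4 (by omega)
  match l, hl with
  | [a, b, c, d], _ =>
    obtain ⟨-, h4, hdisj⟩ := List.nodup_append.1 hnd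
    obtain ⟨hab, hac, had, hbc, hbd, hcd⟩ := nodup_four h4
    obtain ⟨k, hk'⟩ : dtA a b c d ∈ (offHom s).range := by
      rw [offHom_range]
      intro x hx
      rw [coe_dtA hab hcd]
      simp [dt, swap_apply_of_ne_of_ne, hdisj x hx a (by simp), hdisj x hx b (by simp), hdisj x hx c (by simp),
        hdisj x hx d (by simp)]
    obtain ⟨n, hn, hnk⟩ := (htop ▸ Subgroup.mem_top k : k ∈ M)
    obtain ⟨v, hv, hv0⟩ := Submodule.exists_mem_ne_zero_of_ne_bot hne
    have hnv : ρ n.1 v = v := congrArg Subtype.val (LinearMap.congr_fun hn ⟨v, hv⟩)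
    have := LinearMap.congr_fun (H.sq n.1 a b c d h4 (hnk.trans hk')) v
    rw [End.mul_apply, hnv, hnv] at this
    exact hv0 ((neg_eq_self_iff H.two).1 (by simpa using this.symm))

end Cfsg.Agent.Lib.AltDegree52
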