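/-
Spin representations in characteristic different from five.
-/
import Mathlib
import Cfsg.Agent.Lib.AltDegree52.SpinTools

set_option autoImplicit false
set_option linter.unusedSectionVars false

namespace Cfsg.Agent.Lib.AltDegree52

open Equiv Equiv.Perm Module

variable {α : Type} [Fintype α] [DecidableEq α]
variable {K V : Type*} [Field K] [IsAlgClosed K] [AddCommGroup V] [Module K V] [FiniteDimensional K V]
variable {G : Type*} [Group G] {π : G →* alternatingGroup α} {ρ : G →* End K V}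

theorem four_mul_two_pow (b : ℕ) (hb : 2 ≤ b) : 4 * b + 7 ≤ 4 * 2 ^ b := by
  induction b, hb using Nat.le_induction with
  | base => norm_num
  | succ n hn ih => rw [pow_succ]; omega

/-- The four eigenspaces of a five-cycle. -/
theorem SpinData.five_dims (H : SpinData π ρ) {a b c d e x y : α} (h : [a, b, c, d, e, x, y].Nodup)
    {g : G} (hg : π g = cyc5 a b c d e) (hg5 : ρ g ^ 5 = 1) {u : K} (hu : u ^ 5 = 1) (hu1 : u ≠ 1) :
    4 * finrank K (End.eigenspace (ρ g) u) ≤ finrank K V ∧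
      finrank K (End.eigenspace (ρ g) (u ^ 3)) = finrank K (End.eigenspace (ρ g) u) := by
  classical
  obtain ⟨σ, hσ⟩ := cyc5_conj_sq h
  rw [← hg] at hσ
  have step : ∀ t : K, finrank K (End.eigenspace (ρ g) t) ≤ finrank K (End.eigenspace (ρ g) (t ^ 3)) :=
    fun t => H.eig_step (by decide) hg5 hσ (by norm_num) t
  have e1 := step u
  have e2 := step (u ^ 3)
  have e3 := step (u ^ 4)
  have e4 := step (u ^ 2)
  rw [← pow_mul, pow_eq_mod_of hu (3 * 3)] at e2
  rw [← pow_mul, pow_eq_mod_of hu (4 * 3)] at e3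
  rw [← pow_mul, pow_eq_mod_of hu (2 * 3), show 2 * 3 % 5 = 1 from rfl, pow_one] at e4
  rw [show 3 * 3 % 5 = 4 from rfl] at e2
  rw [show 4 * 3 % 5 = 2 from rfl] at e3
  have hp : IsPrimitiveRoot u 5 := by
    haveI : Fact (Nat.Prime 5) := ⟨by norm_num⟩
    exact (orderOf_eq_prime hu hu1) ▸ IsPrimitiveRoot.orderOf u
  have hne : ∀ i j : ℕ, i < 5 → j < 5 → i ≠ j → u ^ i ≠ u ^ j := fun i j hi hj hij e =>
    hij (hp.pow_inj hi hj e)
  have hsum := sum_eigenspace_le (ρ g) {u ^ 1, u ^ 2, u ^ 3, u ^ 4}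
  rw [Finset.sum_insert (by
      simp only [Finset.mem_insert, Finset.mem_singleton, not_or]
      exact ⟨hne 1 2 (by norm_num) (by norm_num) (by norm_num), hne 1 3 (by norm_num) (by norm_num) (by norm_num),
        hne 1 4 (by norm_num) (by norm_num) (by norm_num)⟩),
    Finset.sum_insert (by
      simp only [Finset.mem_insert, Finset.mem_singleton, not_or]
      exact ⟨hne 2 3 (by norm_num) (by norm_num) (by norm_num), hne 2 4 (by norm_num) (by norm_num) (by norm_num)⟩),
    Finset.sum_insert (by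
      simp only [Finset.mem_singleton]
      exact hne 3 4 (by norm_num) (by norm_num) (by norm_num)),
    Finset.sum_singleton, pow_one] at hsum
  omega

/-- The case of two five-cycles with two-dimensional eigenspaces. -/
theorem SpinData.no_two (H : SpinData π ρ) (h5 : (5 : K) ≠ 0) {a b c d e a' b' c' d' e' : α}
    (hnd : [a, b, c, d, e, a', b', c', d', e'].Nodup) {g : G} (hg : π g = cyc5 a b c d e)
    (hg5 : ρ g ^ 5 = 1)
    (hdim : ∀ u : K, u ^ 5 = 1 → u ≠ 1 → finrank K (End.eigenspace (ρ g) u) = 2) : False := by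
  classical
  have hA : [a, b, c, d, e].Nodup := hnd.sublist (by simp)
  have hB : [a', b', c', d', e'].Nodup := List.Nodup.of_append_right (l₁ := [a, b, c, d, e]) hnd
  have hN := hnd
  simp only [List.nodup_cons, List.mem_cons, List.not_mem_nil, or_false, not_or, ← ne_eq] at hN
  obtain ⟨⟨hab, hac, had, hae, haa, hab', hac', had', hae'⟩, ⟨hbc, hbd, hbe, hba', hbb', hbc', hbd', hbe'⟩,
    ⟨hcd, hce, hca', hcb', hcc', hcd', hce'⟩, ⟨hde, hda', hdb', hdc', hdd', hde'⟩,
    ⟨hea', heb', hec', hed', hee'⟩, ⟨h12, h13, h14, h15⟩, ⟨h23, h24, h25⟩, ⟨h34, h35⟩, h45, -⟩ := hN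
  set w1 := cyc5 a b c d e with hw1
  set w2 := cyc5 a' b' c' d' e' with hw2
  obtain ⟨-, -, -, -, -, o1⟩ := coe_cyc5 hA
  obtain ⟨-, -, -, -, -, o2⟩ := coe_cyc5 hB
  have hodd : Odd 5 := by decide
  have hw1out : ∀ x, x ∉ [a, b, c, d, e] → (π g : Perm α) x = x := fun x hx => by
    simp only [List.mem_cons, List.not_mem_nil, or_false, not_or] at hx
    rw [hg]; exact o1 x hx.1 hx.2.1 hx.2.2.1 hx.2.2.2.1 hx.2.2.2.2
  have hw2off : w2 ∈ offSub [a, b, c, d, e] := fun x hx => by
    simp only [List.mem_cons, List.not_mem_nil, or_false] at hx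
    rcases hx with rfl | rfl | rfl | rfl | rfl
    · exact o2 _ haa hab' hac' had' hae'
    · exact o2 _ hba' hbb' hbc' hbd' hbe'
    · exact o2 _ hca' hcb' hcc' hcd' hce'
    · exact o2 _ hda' hdb' hdc' hdd' hde'
    · exact o2 _ hea' heb' hec' hed' hee'
  obtain ⟨h, hh, hh5⟩ := H.exists_oddLift hodd (show w2 ^ 5 = 1 from cyc5_pow_five hB)
  have hinv := fun u => H.off_inv hodd hg5 hw1out u
  have hcomm : Commute (ρ h) (ρ g) := H.commute_odd hodd hg5 (by
    rw [hh]; exact commute_of_disjoint hw1out hw2off)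
  obtain ⟨u, hu, hu1, hune⟩ := H.exists_eigen (by exact_mod_cast h5 : ((5 : ℕ) : K) ≠ 0) hg5
    (by rw [hg]; exact cyc5_ne_one hA)
  -- an eigenvalue of the second cycle
  set W := End.eigenspace (ρ g) u with hW
  have hhW : ∀ v ∈ W, ρ h v ∈ W := hinv u h (by rw [hh]; exact hw2off)
  set T := (ρ h).restrict hhW with hT
  have hTne : T ^ 1 ≠ 1 := by
    rw [pow_one]
    intro e
    refine H.faithful_off hA ?_ hune (hinv u) (g := h) (by rw [hh]; exact hw2off)
      (by rw [hh]; exact cyc5_ne_one hB) (fun v hv => congrArg Subtype.val (LinearMap.congr_fun e ⟨v, hv⟩))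
    have := hnd.length_le_card
    simp only [List.length_cons, List.length_nil] at this ⊢
    omega
  have hT5 : T ^ 5 = 1 := by
    refine LinearMap.ext fun v => Subtype.ext ?_
    have h1 := LinearMap.congr_fun hh5 (v : V)
    simp only [pow_succ, pow_zero, one_mul, End.mul_apply, End.one_apply] at h1 ⊢
    exact h1
  obtain ⟨η, hη, hη1⟩ := RepBounds.exists_eigenvalue_pow_ne_one T (N := 5) (m := 1)
    (by exact_mod_cast h5) hT5 hTne
  rw [pow_one] at hη1
  obtain ⟨v0, hv0, hv00⟩ := Submodule.exists_mem_ne_zero_of_ne_bot hη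
  rw [End.mem_eigenspace_iff] at hv0
  have hv0h : ρ h v0 = η • (v0 : V) := congrArg Subtype.val hv0
  have hη5 : η ^ 5 = 1 := by
    have h1 := End.HasEigenvector.pow_apply
      (f := ρ h) (μ := η) (v := (v0 : V)) ⟨End.mem_eigenspace_iff.2 hv0h, fun e => hv00 (Subtype.ext e)⟩ 5
    rw [hh5, End.one_apply] at h1
    exact smul_left_injective K (fun e => hv00 (Subtype.ext e) : (v0 : V) ≠ 0) (by simpa using h1.symm)
  -- the characters
  let C : K → K → Prop := fun s t => ∃ v : V, v ≠ 0 ∧ ρ g v = s • v ∧ ρ h v = t • v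
  have hC0 : C u η := ⟨v0, fun e => hv00 (Subtype.ext e), End.mem_eigenspace_iff.1 v0.2, hv0h⟩
  have move : ∀ {σ : alternatingGroup α} {k j k' j' : ℕ} {G1 H1 : G} {s t : K},
      ρ G1 ^ 5 = 1 → ρ H1 ^ 5 = 1 → σ * π g * σ⁻¹ = π G1 ^ k → σ * π h * σ⁻¹ = π H1 ^ k' →
      k * j % 5 = 1 → k' * j' % 5 = 1 → C s t →
      ∃ v : V, v ≠ 0 ∧ ρ G1 v = s ^ j • v ∧ ρ H1 v = t ^ j' • v := by
    intro σ k j k' j' G1 H1 s t hG hH hσg hσh hj hj' hC
    obtain ⟨v, hv, hvg, hvh⟩ := hC
    obtain ⟨z, hz⟩ := H.surj σ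
    have main : ∀ {X X' : G} {m i : ℕ} {r : K}, ρ X ^ 5 = 1 → ρ X' ^ 5 = 1 → σ * π X * σ⁻¹ = π X' ^ m →
        m * i % 5 = 1 → ρ X v = r • v → ρ X' (ρ z v) = r ^ i • ρ z v := by
      intro X X' m i r hX hX' hσX hmi hr
      have hXm : ρ (X' ^ m) ^ 5 = 1 := by rw [map_pow, ← pow_mul, mul_comm, pow_mul, hX', one_pow]
      have he : ρ (X' ^ m) (ρ z v) = r • ρ z v := by
        rw [← End.mul_apply, ← H.conj_odd hodd hX hXm (by rw [hz, hσX, map_pow]), End.mul_apply, hr, map_smul]
      have h1 := End.HasEigenvector.pow_apply ⟨End.mem_eigenspace_iff.2 he, apply_ne_zero ρ z hv⟩ i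
      rwa [map_pow, ← pow_mul, pow_eq_mod_of hX', hmi, pow_one] at h1
    exact ⟨ρ z v, apply_ne_zero ρ z hv, main hg5 hG hσg hj hvg, main hh5 hH hσh hj' hvh⟩
  -- inverting the second cycle
  set R := dtA b' e' c' d' with hR
  have hB' : [a', e', d', c', b'].Nodup := by
    simp [h15, h14, h13, h12, h45.symm, h35.symm, h25.symm, h34.symm, h24.symm, h23.symm]
  have hRco : (R : Perm α) = dt b' e' c' d' := coe_dtA h25 h34
  have hRout : R ∈ offSub [a, b, c, d, e] := fun x hx => by
    simp only [List.mem_cons, List.not_mem_nil, or_false] at hx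
    rw [hRco]
    rcases hx with rfl | rfl | rfl | rfl | rfl <;>
      simp [dt, swap_apply_of_ne_of_ne, *]
  have hR2 : R * π h * R⁻¹ = π h ^ 4 := by
    rw [hh, hw2, conj_cyc5, hRco]
    simp only [dt, Perm.mul_apply]
    rw [show (swap b' e') ((swap c' d') a') = a' by simp [swap_apply_of_ne_of_ne, h12, h13, h14, h15],
      show (swap b' e') ((swap c' d') b') = e' by simp [swap_apply_of_ne_of_ne, h23, h24],
      show (swap b' e') ((swap c' d') c') = d' by simp [swap_apply_of_ne_of_ne, h24.symm, h45],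
      show (swap b' e') ((swap c' d') d') = c' by simp [swap_apply_of_ne_of_ne, h23.symm, h35],
      show (swap b' e') ((swap c' d') e') = b' by simp [swap_apply_of_ne_of_ne, h35.symm, h45.symm]]
    have q1 := cyc5_sq hB
    have q2 := cyc5_sq (a := a') (b := c') (c := e') (d := b') (e := d')
      (by simp [h13, h15, h12, h14, h35, h23.symm, h34, h25.symm, h45.symm, h24])
    rw [q2, q1, ← pow_mul]
  have inv4 : ∀ {s t : K}, C s t → C s (t ^ 4) := by
    intro s t hC
    obtain ⟨v, hv, hvg, hvh⟩ := move (σ := R) (k := 1) (j := 1) (k' := 4) (j' := 4) hg5 hh5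
      (by rw [pow_one, commute_of_disjoint hw1out hRout, mul_inv_cancel_right]) hR2 rfl rfl hC
    exact ⟨v, hv, by simpa using hvg, hvh⟩
  -- squaring both
  set f1 := four b c e d with hf1
  set f2 := four b' c' e' d' with hf2
  obtain ⟨p1, p2, p3, p4, p5, p6⟩ := four_apply (b := b) (c := c) (e := e) (d := d)
    (by simp [hbc, hbe, hbd, hce, hcd, hde.symm])
  obtain ⟨q1, q2, q3, q4, q5, q6⟩ := four_apply (b := b') (c := c') (e := e') (d := d')
    (by simp [h23, h25, h24, h35, h34, h45.symm])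
  let S : alternatingGroup α := ⟨f1 * f2, by rw [mem_alternatingGroup, map_mul, p6, q6, Int.units_mul_self]⟩
  have sval : ∀ x, (S : Perm α) x = f1 (f2 x) := fun _ => rfl
  have hS1 : S * π g * S⁻¹ = π g ^ 2 := by
    rw [hg, hw1, conj_cyc5, sval, sval, sval, sval, sval, q5 a (by simp [hab', hac', hae', had']),
      q5 b (by simp [hbb', hbc', hbe', hbd']), q5 c (by simp [hcb', hcc', hce', hcd']),
      q5 d (by simp [hdb', hdc', hde', hdd']), q5 e (by simp [heb', hec', hee', hed']),
      p5 a (by simp [hab, hac, hae, had]), p1, p2, p3, p4, cyc5_sq hA]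
  have hS2 : S * π h * S⁻¹ = π h ^ 2 := by
    rw [hh, hw2, conj_cyc5, sval, sval, sval, sval, sval, q5 a' (by simp [h12, h13, h14, h15]), q1, q2, q3,
      q4, p5 a' (by simp [hba'.symm, hca'.symm, hea'.symm, hda'.symm]),
      p5 b' (by simp [hbb'.symm, hcb'.symm, heb'.symm, hdb'.symm]),
      p5 c' (by simp [hbc'.symm, hcc'.symm, hec'.symm, hdc'.symm]),
      p5 d' (by simp [hbd'.symm, hcd'.symm, hed'.symm, hdd'.symm]),
      p5 e' (by simp [hbe'.symm, hce'.symm, hee'.symm, hde'.symm]), cyc5_sq hB]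
  have cube : ∀ {s t : K}, C s t → C (s ^ 3) (t ^ 3) := fun {s t} hC =>
    move (σ := S) (k := 2) (j := 3) (k' := 2) (j' := 3) hg5 hh5 hS1 hS2 rfl rfl hC
  -- exchanging
  set tp : Perm α := swap a a' * (swap b b' * (swap c c' * (swap d d' * swap e e'))) with htp
  have t1 : tp a = a' := by simp [htp, swap_apply_of_ne_of_ne, hab, hac, had, hae, hab', hac', had', hae']
  have t2 : tp b = b' := by
    simp [htp, swap_apply_of_ne_of_ne, hbc, hbd, hbe, hbc', hbd', hbe', hab'.symm, h12.symm]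
  have t3 : tp c = c' := by
    simp [htp, swap_apply_of_ne_of_ne, hcd, hce, hcd', hce', hbc'.symm, h23.symm, hac'.symm, h13.symm]
  have t4 : tp d = d' := by
    simp [htp, swap_apply_of_ne_of_ne, hde, hde', hcd'.symm, h34.symm, hbd'.symm, h24.symm, had'.symm, h14.symm]
  have t5 : tp e = e' := by
    simp [htp, swap_apply_of_ne_of_ne, hde'.symm, h45.symm, hce'.symm, h35.symm, hbe'.symm, h25.symm, hae'.symm,
      h15.symm]
  have t1' : tp a' = a := by
    simp [htp, swap_apply_of_ne_of_ne, hba'.symm, hca'.symm, hda'.symm, hea'.symm, h12, h13, h14, h15]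
  have t2' : tp b' = b := by
    simp [htp, swap_apply_of_ne_of_ne, hcb'.symm, hdb'.symm, heb'.symm, h23, h24, h25, hab.symm, hba']
  have t3' : tp c' = c := by
    simp [htp, swap_apply_of_ne_of_ne, hdc'.symm, hec'.symm, h34, h35, hbc.symm, hcb', hac.symm, hca']
  have t4' : tp d' = d := by
    simp [htp, swap_apply_of_ne_of_ne, hed'.symm, h45, hcd.symm, hdc', hbd.symm, hdb', had.symm, hda']
  have t5' : tp e' = e := by
    simp [htp, swap_apply_of_ne_of_ne, hde.symm, hed', hce.symm, hec', hbe.symm, heb', hae.symm, hea']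
  let P : alternatingGroup α := ⟨f1 * tp, by
    rw [mem_alternatingGroup, map_mul, p6, htp, map_mul, map_mul, map_mul, map_mul, sign_swap haa, sign_swap hbb',
      sign_swap hcc', sign_swap hdd', sign_swap hee']
    norm_num⟩
  have pval : ∀ x, (P : Perm α) x = f1 (tp x) := fun _ => rfl
  have hP1 : P * π g * P⁻¹ = π h ^ 1 := by
    rw [pow_one, hg, hh, hw1, hw2, conj_cyc5, pval, pval, pval, pval, pval, t1, t2, t3, t4, t5,
      p5 a' (by simp [hba'.symm, hca'.symm, hea'.symm, hda'.symm]),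
      p5 b' (by simp [hbb'.symm, hcb'.symm, heb'.symm, hdb'.symm]),
      p5 c' (by simp [hbc'.symm, hcc'.symm, hec'.symm, hdc'.symm]),
      p5 d' (by simp [hbd'.symm, hcd'.symm, hed'.symm, hdd'.symm]),
      p5 e' (by simp [hbe'.symm, hce'.symm, hee'.symm, hde'.symm])]
  have hP2 : P * π h * P⁻¹ = π g ^ 2 := by
    rw [hh, hg, hw1, hw2, conj_cyc5, pval, pval, pval, pval, pval, t1', t2', t3', t4', t5',
      p5 a (by simp [hab, hac, hae, had]), p1, p2, p3, p4, cyc5_sq hA]
  have swapC : ∀ {s t : K}, C s t → C (t ^ 3) s := fun {s t} hC => by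
    obtain ⟨v, hv, hvh, hvg⟩ := move (σ := P) (k := 1) (j := 1) (k' := 2) (j' := 3) hh5 hg5 hP1 hP2 rfl rfl hC
    exact ⟨v, hv, hvg, by simpa using hvh⟩
  -- two lines in each plane
  have hp : IsPrimitiveRoot u 5 := by
    haveI : Fact (Nat.Prime 5) := ⟨by norm_num⟩
    exact (orderOf_eq_prime hu hu1) ▸ IsPrimitiveRoot.orderOf u
  have pair : ∀ {s t t' : K}, s ^ 5 = 1 → s ≠ 1 → C s t → t ^ 5 = 1 → t ≠ 1 → C s t' →
      t' = t ∨ t' = t ^ 4 := by
    intro s t t' hs hs1 hC ht ht1 hC'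
    by_contra hcon
    rw [not_or] at hcon
    have ht4 : t ≠ t ^ 4 := by
      intro e
      haveI : Fact (Nat.Prime 5) := ⟨by norm_num⟩
      have hpt : IsPrimitiveRoot t 5 := (orderOf_eq_prime ht ht1) ▸ IsPrimitiveRoot.orderOf t
      have := hpt.pow_inj (i := 1) (j := 4) (by norm_num) (by norm_num) (by rw [pow_one]; exact e)
      omega
    have hhs : ∀ v ∈ End.eigenspace (ρ g) s, ρ h v ∈ End.eigenspace (ρ g) s :=
      hinv s h (by rw [hh]; exact hw2off)
    let Ts : Unit → End K (End.eigenspace (ρ g) s) := fun _ => (ρ h).restrict hhs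
    have hJ := RepBounds.card_le_finrank_of_eigenchar Ts ({fun _ => t, fun _ => t ^ 4, fun _ => t'} : Finset (Unit → K))
      (fun χ hχ => by
        have hmk : ∀ r : K, C s r → ∃ v : End.eigenspace (ρ g) s, v ≠ 0 ∧ ∀ i, Ts i v = r • v :=
          fun r ⟨v, hv, hvg, hvh⟩ => ⟨⟨v, End.mem_eigenspace_iff.2 hvg⟩,
            fun e => hv (congrArg Subtype.val e), fun _ => Subtype.ext hvh⟩
        simp only [Finset.mem_insert, Finset.mem_singleton] at hχ
        rcases hχ with rfl | rfl | rfl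
        · exact hmk t hC
        · exact hmk _ (inv4 hC)
        · exact hmk t' hC')
    rw [hdim s hs hs1, Finset.card_eq_three.2 ⟨_, _, _, fun e => ht4 (congrFun e ()),
      fun e => hcon.1 (congrFun e ()).symm, fun e => hcon.2 (congrFun e ()).symm, rfl⟩] at hJ
    omega
  obtain ⟨i, hi, rfl⟩ := hp.eq_pow_of_pow_eq_one hη5
  have hC1 := swapC hC0
  have hC3 : ∀ k, C (u ^ (3 ^ k)) (u ^ (i * 3 ^ k)) := by
    intro k
    induction k with
    | zero => simpa using hC0
    | succ k ih =>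
      have := cube ih
      rwa [← pow_mul, ← pow_mul, mul_assoc, ← pow_succ] at this
  have hi0 : i ≠ 0 := fun e => hη1 (by rw [e, pow_zero])
  have fin : ∀ k, 3 ^ k % 5 = i * 3 % 5 → i * 3 ^ k % 5 ≠ 1 → i * 3 ^ k % 5 ≠ 4 → i * 3 ^ k % 5 ≠ 0 →
      i * 3 % 5 ≠ 0 → False := by
    intro k hk h1 h4 h0 h0'
    have hD := hC3 k
    rw [← pow_mul, pow_eq_mod_of hu (i * 3)] at hC1
    rw [pow_eq_mod_of hu (3 ^ k), hk] at hD
    have hs1 : u ^ (i * 3 % 5) ≠ 1 := hp.pow_ne_one_of_pos_of_lt h0' (Nat.mod_lt _ (by norm_num))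
    have hs5 : (u ^ (i * 3 % 5)) ^ 5 = 1 := by rw [← pow_mul, mul_comm, pow_mul, hu, one_pow]
    have ht1 : u ^ (i * 3 ^ k) ≠ 1 := by
      rw [pow_eq_mod_of hu]
      exact hp.pow_ne_one_of_pos_of_lt h0 (Nat.mod_lt _ (by norm_num))
    have ht5 : (u ^ (i * 3 ^ k)) ^ 5 = 1 := by rw [← pow_mul, mul_comm, pow_mul, hu, one_pow]
    rcases pair hs5 hs1 hD ht5 ht1 hC1 with e | e
    · rw [pow_eq_mod_of hu] at e
      exact h1 (hp.pow_inj (i := 1) (by norm_num) (Nat.mod_lt _ (by norm_num)) (by rw [pow_one]; exact e)).symm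
    · rw [← pow_mul, pow_eq_mod_of hu] at e
      have := (hp.pow_inj (i := 1) (by norm_num) (Nat.mod_lt _ (by norm_num)) (by rw [pow_one]; exact e)).symm
      omega
  interval_cases i
  · exact hi0 rfl
  · exact fin 1 (by norm_num) (by norm_num) (by norm_num) (by norm_num) (by norm_num)
  · exact fin 0 (by norm_num) (by norm_num) (by norm_num) (by norm_num) (by norm_num)
  · exact fin 2 (by norm_num) (by norm_num) (by norm_num) (by norm_num) (by norm_num)
  · exact fin 3 (by norm_num) (by norm_num) (by norm_num) (by norm_num) (by norm_num)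

/-- Spin representations are large, characteristic different from five. -/
theorem SpinData.false_five (H : SpinData π ρ) (h5 : (5 : K) ≠ 0)
    (hn : finrank K V + 2 ≤ Fintype.card α) : False := by
  have h9 := H.card
  obtain ⟨l, hl, hnd⟩ := exists_extend ([] : List α) List.nodup_nil 9 (by simp; omega)
  match l, hl with
  | [a, b, c, d, e, x, y, z, t], _ =>
    rw [List.nil_append] at hnd
    have hA : [a, b, c, d, e].Nodup := hnd.sublist (by simp)
    obtain ⟨g, hg, hg5⟩ := H.exists_oddLift (show Odd 5 by decide) (cyc5_pow_five hA)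
    obtain ⟨-, -, -, -, -, o1⟩ := coe_cyc5 hA
    have hout : ∀ w, w ∉ [a, b, c, d, e] → (π g : Perm α) w = w := fun w hw => by
      simp only [List.mem_cons, List.not_mem_nil, or_false, not_or] at hw
      rw [hg]; exact o1 w hw.1 hw.2.1 hw.2.2.1 hw.2.2.2.1 hw.2.2.2.2
    obtain ⟨u, hu, hu1, hune⟩ := H.exists_eigen (by exact_mod_cast h5 : ((5 : ℕ) : K) ≠ 0) hg5
      (by rw [hg]; exact cyc5_ne_one hA)
    have h7 : [a, b, c, d, e, x, y].Nodup := hnd.sublist (by simp)
    obtain ⟨hsum, -⟩ := H.five_dims h7 hg hg5 hu hu1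
    have hpos : 0 < finrank K (End.eigenspace (ρ g) u) :=
      Nat.pos_of_ne_zero fun e' => hune (Submodule.finrank_eq_zero.1 e')
    set k := (Fintype.card α - 5) / 4 with hk
    have hdvd : ∀ v : K, 2 ^ k ∣ finrank K (End.eigenspace (ρ g) v) := fun v =>
      H.two_pow_dvd_finrank [a, b, c, d, e] hA k (by simp only [List.length_cons, List.length_nil]; omega) _
        (H.off_inv (by decide) hg5 hout v)
    have hle := Nat.le_of_dvd hpos (hdvd u)
    by_cases h13 : 13 ≤ Fintype.card α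
    · have := four_mul_two_pow k (by omega)
      omega
    have hk1 : k = 1 := by omega
    rw [hk1, pow_one] at hle
    have heven : ∀ v : K, 2 ∣ finrank K (End.eigenspace (ρ g) v) := fun v => by
      have := hdvd v
      rwa [hk1, pow_one] at this
    have h10 : 10 ≤ Fintype.card α := by omega
    obtain ⟨l', hl', hnd'⟩ := exists_extend [a, b, c, d, e] hA 5 (by simp; omega)
    match l', hl' with
    | [a', b', c', d', e'], _ =>
      refine H.no_two h5 hnd' hg hg5 fun v hv hv1 => ?_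
      have hpv : finrank K (End.eigenspace (ρ g) v) ≠ 0 := by
        have hp : IsPrimitiveRoot u 5 := by
          haveI : Fact (Nat.Prime 5) := ⟨by norm_num⟩
          exact (orderOf_eq_prime hu hu1) ▸ IsPrimitiveRoot.orderOf u
        obtain ⟨i, hi, rfl⟩ := hp.eq_pow_of_pow_eq_one hv
        have e1 := (H.five_dims h7 hg hg5 hu hu1).2
        have e2 := (H.five_dims h7 hg hg5 (u := u ^ 3) (by rw [← pow_mul, mul_comm, pow_mul, hu, one_pow])
          (hp.pow_ne_one_of_pos_of_lt (by norm_num) (by norm_num))).2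
        have e3 := (H.five_dims h7 hg hg5 (u := u ^ 4) (by rw [← pow_mul, mul_comm, pow_mul, hu, one_pow])
          (hp.pow_ne_one_of_pos_of_lt (by norm_num) (by norm_num))).2
        rw [← pow_mul, pow_eq_mod_of hu (3 * 3)] at e2
        rw [← pow_mul, pow_eq_mod_of hu (4 * 3)] at e3
        rw [show 3 * 3 % 5 = 4 from rfl] at e2
        rw [show 4 * 3 % 5 = 2 from rfl] at e3
        interval_cases i
        · exact absurd (pow_zero u) hv1
        all_goals first
          | omega
          | (rw [pow_one]; omega)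
      have := (H.five_dims h7 hg hg5 hv hv1).1
      obtain ⟨q, hq⟩ := heven v
      omega

end Cfsg.Agent.Lib.AltDegree52
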