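/-
Spin representations in characteristic five.
-/
import Mathlib
import Cfsg.Agent.Lib.AltDegree52.SpinFive
import Cfsg.Agent.Lib.AltDegree52.Finish

set_option autoImplicit false
set_option linter.unusedSectionVars false

namespace Cfsg.Agent.Lib.AltDegree52

open Equiv Equiv.Perm Module
open Cfsg.Agent.Lib.Alternating (tri tri_apply_left tri_apply_mid tri_apply_right tri_apply_of_ne)

variable {α : Type} [Fintype α] [DecidableEq α]

/-- A seven-cycle. -/
def cyc7 (a b c d e f g : α) : alternatingGroup α := cyc5 a b c d e * triA e f g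

theorem coe_cyc7 {a b c d e f g : α} (h : [a, b, c, d, e, f, g].Nodup) :
    (cyc7 a b c d e f g : Perm α) a = b ∧ (cyc7 a b c d e f g : Perm α) b = c ∧
      (cyc7 a b c d e f g : Perm α) c = d ∧ (cyc7 a b c d e f g : Perm α) d = e ∧
      (cyc7 a b c d e f g : Perm α) e = f ∧ (cyc7 a b c d e f g : Perm α) f = g ∧
      (cyc7 a b c d e f g : Perm α) g = a ∧
      ∀ x, x ∉ [a, b, c, d, e, f, g] → (cyc7 a b c d e f g : Perm α) x = x := by
  obtain ⟨ga, gb, gc, gd, ge, go⟩ :=
    coe_cyc5 (show [a, b, c, d, e].Nodup from h.sublist (by simp))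
  simp only [List.nodup_cons, List.mem_cons, List.not_mem_nil, or_false, not_or, ← ne_eq] at h
  obtain ⟨⟨hab, hac, had, hae, haf, hag⟩, ⟨hbc, hbd, hbe, hbf, hbg⟩, ⟨hcd, hce, hcf, hcg⟩,
    ⟨hde, hdf, hdg⟩, ⟨hef, heg⟩, hfg, -⟩ := h
  simp only [cyc7, Subgroup.coe_mul, Perm.mul_apply, coe_triA hef heg hfg]
  refine ⟨?_, ?_, ?_, ?_, ?_, ?_, ?_, fun x hx => ?_⟩
  · rw [tri_apply_of_ne hae haf hag, ga]
  · rw [tri_apply_of_ne hbe hbf hbg, gb]
  · rw [tri_apply_of_ne hce hcf hcg, gc]
  · rw [tri_apply_of_ne hde hdf hdg, gd]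
  · rw [tri_apply_left hef hfg, go f haf.symm hbf.symm hcf.symm hdf.symm hef.symm]
  · rw [tri_apply_mid, go g hag.symm hbg.symm hcg.symm hdg.symm heg.symm]
  · rw [tri_apply_right heg hfg, ge]
  · simp only [List.mem_cons, List.not_mem_nil, or_false, not_or] at hx
    rw [tri_apply_of_ne hx.2.2.2.2.1 hx.2.2.2.2.2.1 hx.2.2.2.2.2.2,
      go x hx.1 hx.2.1 hx.2.2.1 hx.2.2.2.1 hx.2.2.2.2.1]

theorem cyc7_ne_one {a b c d e f g : α} (h : [a, b, c, d, e, f, g].Nodup) : cyc7 a b c d e f g ≠ 1 :=
  fun hh => by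
  obtain ⟨ga, -⟩ := coe_cyc7 h
  rw [hh] at ga
  simp only [List.nodup_cons, List.mem_cons, not_or] at h
  exact h.1.1 (by simpa using ga)

theorem cyc7_pow_seven {a b c d e f g : α} (h : [a, b, c, d, e, f, g].Nodup) :
    cyc7 a b c d e f g ^ 7 = 1 := by
  obtain ⟨ha, hb, hc, hd, he, hf, hg, ho⟩ := coe_cyc7 h
  refine Subtype.ext (Equiv.ext fun x => ?_)
  rw [SubgroupClass.coe_pow]
  simp only [pow_succ, pow_zero, one_mul, Perm.mul_apply, OneMemClass.coe_one, Perm.one_apply]
  by_cases hxa : x = a; · simp [hxa, ha, hb, hc, hd, he, hf, hg]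
  by_cases hxb : x = b; · simp [hxb, ha, hb, hc, hd, he, hf, hg]
  by_cases hxc : x = c; · simp [hxc, ha, hb, hc, hd, he, hf, hg]
  by_cases hxd : x = d; · simp [hxd, ha, hb, hc, hd, he, hf, hg]
  by_cases hxe : x = e; · simp [hxe, ha, hb, hc, hd, he, hf, hg]
  by_cases hxf : x = f; · simp [hxf, ha, hb, hc, hd, he, hf, hg]
  by_cases hxg : x = g; · simp [hxg, ha, hb, hc, hd, he, hf, hg]
  simp [ho x (by simp [*])]

/-- The normaliser of a seven-cycle cubes it. -/
theorem cyc7_conj_cube {a b c d e f g x y : α} (h : [a, b, c, d, e, f, g, x, y].Nodup) :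
    ∃ σ : alternatingGroup α, σ * cyc7 a b c d e f g * σ⁻¹ = cyc7 a b c d e f g ^ 3 := by
  have h7 : [a, b, c, d, e, f, g].Nodup := h.sublist (by simp)
  obtain ⟨wa, wb, wc, wd, we, wf, wg, wo⟩ := coe_cyc7 h7
  simp only [List.nodup_cons, List.mem_cons, List.not_mem_nil, or_false, not_or, ← ne_eq] at h
  obtain ⟨⟨hab, hac, had, hae, haf, hag, hax, hay⟩, ⟨hbc, hbd, hbe, hbf, hbg, hbx, hby⟩,
    ⟨hcd, hce, hcf, hcg, hcx, hcy⟩, ⟨hde, hdf, hdg, hdx, hdy⟩, ⟨hef, heg, hex, hey⟩, ⟨hfg, hfx, hfy⟩,
    ⟨hgx, hgy⟩, hxy, -⟩ := h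
  set s : Perm α := swap b d * (swap d c * (swap c g * (swap g e * swap e f))) * swap x y with hs
  let σ : alternatingGroup α := ⟨s, by
    rw [mem_alternatingGroup, hs, map_mul, map_mul, map_mul, map_mul, map_mul, sign_swap hbd, sign_swap hcd.symm,
      sign_swap hcg, sign_swap heg.symm, sign_swap hef, sign_swap hxy]
    norm_num⟩
  have sa : s a = a := by simp [hs, swap_apply_of_ne_of_ne, hab, hac, had, hae, haf, hag, hax, hay]
  have sb : s b = d := by simp [hs, swap_apply_of_ne_of_ne, hbc, hbd, hbe, hbf, hbg, hbx, hby]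
  have sd : s d = c := by
    simp [hs, swap_apply_of_ne_of_ne, hcd, hde, hdf, hdg, hdx, hdy, hcd.symm, hbc.symm]
  have sc : s c = g := by
    simp [hs, swap_apply_of_ne_of_ne, hce, hcf, hcg, hcx, hcy, hbg.symm, hdg.symm, hcg.symm]
  have sg : s g = e := by
    simp [hs, swap_apply_of_ne_of_ne, hfg.symm, heg.symm, hgx, hgy, hce.symm, hde.symm, hbe.symm, heg]
  have se : s e = f := by
    simp [hs, swap_apply_of_ne_of_ne, hef, hex, hey, hfg, hcf.symm, hdf.symm, hbf.symm, hef.symm]
  have sf : s f = b := by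
    simp [hs, swap_apply_of_ne_of_ne, hfx, hfy]
  refine ⟨σ, ?_⟩
  conv_lhs => rw [cyc7, ← conj_mul, conj_cyc5, conj_triA]
  show cyc5 (s a) (s b) (s c) (s d) (s e) * triA (s e) (s f) (s g) = _
  rw [sa, sb, sc, sd, se, sf, sg, ← cyc7]
  obtain ⟨pa, pd, pg, pc, pf, pb, pe, po⟩ := coe_cyc7 (a := a) (b := d) (c := g) (d := c) (e := f) (f := b)
    (g := e) (by simp [*, hab, hac, had, hae, haf, hag, hbe, hbd.symm, hcd.symm, hdf, hde, hdg, hcg.symm,
      hbg.symm, heg.symm, hfg.symm, hcf, hce, hbc.symm, hbf.symm, hef.symm])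
  refine Subtype.ext (Equiv.ext fun z => ?_)
  rw [SubgroupClass.coe_pow]
  simp only [pow_succ, pow_zero, one_mul, Perm.mul_apply]
  by_cases hza : z = a; · simp [hza, pa, wa, wb, wc]
  by_cases hzb : z = b; · simp [hzb, pb, wb, wc, wd]
  by_cases hzc : z = c; · simp [hzc, pc, wc, wd, we]
  by_cases hzd : z = d; · simp [hzd, pd, wd, we, wf]
  by_cases hze : z = e; · simp [hze, pe, we, wf, wg]
  by_cases hzf : z = f; · simp [hzf, pf, wf, wg, wa]
  by_cases hzg : z = g; · simp [hzg, pg, wg, wa, wb]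
  simp [wo z (by simp [*]), po z (by simp [*])]

variable {K V : Type*} [Field K] [IsAlgClosed K] [AddCommGroup V] [Module K V] [FiniteDimensional K V]
variable {G : Type*} [Group G] {π : G →* alternatingGroup α} {ρ : G →* End K V}

theorem six_mul_two_pow (b : ℕ) (hb : 3 ≤ b) : 4 * b + 9 ≤ 6 * 2 ^ b := by
  induction b, hb using Nat.le_induction with
  | base => norm_num
  | succ n hn ih => rw [pow_succ]; omega

/-- Spin representations are large, characteristic five. -/
theorem SpinData.false_seven (H : SpinData π ρ) (h5 : (5 : K) = 0)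
    (hn : finrank K V + 2 ≤ Fintype.card α) (hn10 : Fintype.card α = 10 → finrank K V ≤ 7) : False := by
  classical
  have h9 := H.card
  have h2 := H.two
  have h3 : (3 : K) ≠ 0 := fun e => h2 (by linear_combination h5 - e)
  have h7K : ((7 : ℕ) : K) ≠ 0 := fun e => h2 (by push_cast at e; linear_combination e - h5)
  by_cases h11 : 11 ≤ Fintype.card α
  · obtain ⟨l, hl, hnd⟩ := exists_extend ([] : List α) List.nodup_nil 9 (by simp; omega)
    match l, hl with
    | [a, b, c, d, e, f, k, x, y], _ =>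
      rw [List.nil_append] at hnd
      have hA : [a, b, c, d, e, f, k].Nodup := hnd.sublist (by simp)
      have hodd : Odd 7 := by decide
      obtain ⟨g, hg, hg7⟩ := H.exists_oddLift hodd (cyc7_pow_seven hA)
      obtain ⟨-, -, -, -, -, -, -, o1⟩ := coe_cyc7 hA
      have hout : ∀ w, w ∉ [a, b, c, d, e, f, k] → (π g : Perm α) w = w := fun w hw => by
        rw [hg]; exact o1 w hw
      obtain ⟨u, hu, hu1, hune⟩ := H.exists_eigen h7K hg7 (by rw [hg]; exact cyc7_ne_one hA)
      obtain ⟨σ, hσ⟩ := cyc7_conj_cube hnd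
      rw [← hg] at hσ
      have step : ∀ i, finrank K (End.eigenspace (ρ g) (u ^ i)) ≤
          finrank K (End.eigenspace (ρ g) (u ^ (i * 5 % 7))) := fun i => by
        have := H.eig_step hodd hg7 hσ (j := 5) (by norm_num) (u ^ i)
        rwa [← pow_mul, pow_eq_mod_of hu (i * 5)] at this
      have s1 := step 1
      have s5 := step 5
      have s4 := step 4
      have s6 := step 6
      have s2 := step 2
      rw [show 1 * 5 % 7 = 5 from rfl] at s1
      rw [show 5 * 5 % 7 = 4 from rfl] at s5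
      rw [show 4 * 5 % 7 = 6 from rfl] at s4
      rw [show 6 * 5 % 7 = 2 from rfl] at s6
      rw [show 2 * 5 % 7 = 3 from rfl] at s2
      have hp : IsPrimitiveRoot u 7 := by
        haveI : Fact (Nat.Prime 7) := ⟨by norm_num⟩
        exact (orderOf_eq_prime hu hu1) ▸ IsPrimitiveRoot.orderOf u
      have hsum := sum_eigenspace_le (ρ g) ((Finset.Icc 1 6).image (fun i => u ^ i))
      rw [Finset.sum_image (fun i hi j hj e => hp.pow_inj
          (by simp only [Finset.coe_Icc, Set.mem_Icc] at hi; omega)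
          (by simp only [Finset.coe_Icc, Set.mem_Icc] at hj; omega) e),
        show Finset.Icc 1 6 = ({1, 2, 3, 4, 5, 6} : Finset ℕ) from by decide] at hsum
      simp only [Finset.sum_insert, Finset.mem_insert, Finset.mem_singleton, Finset.sum_singleton,
        show ¬ (1 = 2 ∨ 1 = 3 ∨ 1 = 4 ∨ 1 = 5 ∨ 1 = 6) by decide, show ¬ (2 = 3 ∨ 2 = 4 ∨ 2 = 5 ∨ 2 = 6) by decide,
        show ¬ (3 = 4 ∨ 3 = 5 ∨ 3 = 6) by decide, show ¬ (4 = 5 ∨ 4 = 6) by decide, show ¬ (5 = 6) by decide,
        not_false_eq_true] at hsum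
      set m := finrank K (End.eigenspace (ρ g) (u ^ 1)) with hm
      have hpos : 0 < m := by
        rw [hm, pow_one]; exact Nat.pos_of_ne_zero fun e' => hune (Submodule.finrank_eq_zero.1 e')
      have hinv := H.off_inv hodd hg7 hout (u ^ 1)
      set k' := (Fintype.card α - 7) / 4 with hk
      have hdvd : 2 ^ k' ∣ m :=
        H.two_pow_dvd_finrank [a, b, c, d, e, f, k] hA k'
          (by simp only [List.length_cons, List.length_nil]; omega) _ hinv
      have hle := Nat.le_of_dvd hpos hdvd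
      have h4 : 13 ≤ Fintype.card α → 4 ≤ m := fun h13 => by
        by_contra hc
        have := H.six_points h3 [a, b, c, d, e, f, k] hA
          (by simp only [List.length_cons, List.length_nil]; omega) _ (show m ≤ 3 by omega) hinv
        rw [hm, this, finrank_bot] at hpos
        exact lt_irrefl 0 hpos
      have h2k : 2 ≤ 2 ^ k' := Nat.le_self_pow (by omega) 2
      by_cases hk3 : 3 ≤ k'
      · have := six_mul_two_pow k' hk3
        omega
      · omega
  · obtain ⟨l, hl, hnd⟩ := exists_extend ([] : List α) List.nodup_nil 5 (by simp; omega)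
    match l, hl with
    | [a, b, c, x, y], _ =>
      rw [List.nil_append] at hnd
      have hA : [a, b, c].Nodup := hnd.sublist (by simp)
      obtain ⟨hab, hac, hbc⟩ := nodup_three hA
      have hodd : Odd 3 := by decide
      obtain ⟨g, hg, hg3⟩ := H.exists_oddLift hodd (triA_pow_three hA)
      have hout : ∀ w, w ∉ [a, b, c] → (π g : Perm α) w = w := fun w hw => by
        simp only [List.mem_cons, List.not_mem_nil, or_false, not_or] at hw
        rw [hg, coe_triA hab hac hbc, tri_apply_of_ne hw.1 hw.2.1 hw.2.2]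
      obtain ⟨u, hu, hu1, hune⟩ := H.exists_eigen (by exact_mod_cast h3 : ((3 : ℕ) : K) ≠ 0) hg3
        (by rw [hg]; exact triA_ne_one hA)
      simp only [List.nodup_cons, List.mem_cons, List.not_mem_nil, or_false, not_or, ← ne_eq] at hnd
      obtain ⟨⟨-, -, hax, hay⟩, ⟨-, hbx, hby⟩, ⟨hcx, hcy⟩, hxy, -⟩ := hnd
      have hσ : dtA a b x y * π g * (dtA a b x y)⁻¹ = π g ^ 2 := by
        have hinv : (triA a b c)⁻¹ = triA a b c ^ 2 :=
          (eq_inv_of_mul_eq_one_left (by rw [← pow_succ, triA_pow_three hA])).symm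
        rw [hg, conj_triA, coe_dtA hab hxy, ← hinv, ← triA_swap hA]
        simp [dt, swap_apply_of_ne_of_ne, hax, hay, hbx, hby, hac.symm, hbc.symm, hcx, hcy]
      have step := H.eig_step hodd hg3 hσ (j := 2) (by norm_num) u
      have hne : u ≠ u ^ 2 := fun e => hu1 (by linear_combination hu - (u + 1) * (-e))
      have hsum := sum_eigenspace_le (ρ g) {u, u ^ 2}
      rw [Finset.sum_pair hne] at hsum
      set m := finrank K (End.eigenspace (ρ g) u) with hm
      have hpos : 0 < m := Nat.pos_of_ne_zero fun e' => hune (Submodule.finrank_eq_zero.1 e')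
      have hinv := H.off_inv hodd hg3 hout u
      obtain ⟨q, hq⟩ := H.two_pow_dvd_finrank [a, b, c] hA 1
        (by simp only [List.length_cons, List.length_nil]; omega) _ hinv
      rw [← hm, pow_one] at hq
      have h7 : finrank K V ≤ 7 := by
        rcases (show Fintype.card α = 9 ∨ Fintype.card α = 10 by omega) with hr | hr
        · omega
        · exact hn10 hr
      exact hune (H.six_points h3 [a, b, c] hA (by simp only [List.length_cons, List.length_nil]; omega) _
        (show m ≤ 3 by omega) hinv)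

/-- A faithful representation of a double cover of `A_r`. -/
theorem SpinData.big (H : SpinData π ρ) : Big K (Fintype.card α) (finrank K V) := by
  by_contra hB
  have hn : finrank K V + 2 ≤ Fintype.card α := by
    by_contra hc
    exact hB ⟨by omega, fun _ => by omega⟩
  by_cases h5 : (5 : K) = 0
  · refine H.false_seven h5 hn fun hr => ?_
    by_contra hc
    refine hB ⟨by omega, fun hne => absurd ?_ hne⟩
    rw [hr]; push_cast; linear_combination 2 * h5
  · exact H.false_five h5 hn

end Cfsg.Agent.Lib.AltDegree52
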