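/-
Tools for groups covering alternating groups minimally.
-/
import Mathlib
import Cfsg.Agent.Lib.RepBounds.Eigen

set_option autoImplicit false

namespace Cfsg.Agent.Lib.AltDegree52

open Module

section
variable {Γ A : Type*} [Group Γ] [Group A] {π : Γ →* A}

/-- Minimality: no proper subgroup covers the quotient. -/
def MinCover (π : Γ →* A) : Prop := Function.Surjective π ∧ ∀ M : Subgroup Γ, M.map π = ⊤ → M = ⊤

theorem MinCover.quotient (h : MinCover π) (N : Subgroup Γ) [N.Normal] (hN : N ≤ π.ker) :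
    MinCover (QuotientGroup.lift N π hN) := by
  refine ⟨fun a => ?_, fun M hM => ?_⟩
  · obtain ⟨g, rfl⟩ := h.1 a
    exact ⟨g, rfl⟩
  · have h1 : (M.comap (QuotientGroup.mk' N)).map π = ⊤ := by
      rw [eq_top_iff, ← hM]
      rintro _ ⟨m, hm, rfl⟩
      obtain ⟨g, rfl⟩ := QuotientGroup.mk'_surjective N m
      exact ⟨g, hm, rfl⟩
    have h2 := h.2 _ h1
    rw [eq_top_iff]
    intro m _
    obtain ⟨g, rfl⟩ := QuotientGroup.mk'_surjective N m
    exact (h2 ▸ Subgroup.mem_top g : g ∈ M.comap (QuotientGroup.mk' N))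

theorem MinCover.normal_le_ker [IsSimpleGroup A] (h : MinCover π) (N : Subgroup Γ) [hN : N.Normal]
    (hne : N ≠ ⊤) : N ≤ π.ker := by
  rcases (hN.map π h.1).eq_bot_or_eq_top with h1 | h1
  · exact (Subgroup.map_eq_bot_iff N).1 h1
  · exact absurd (h.2 N h1) hne

theorem MinCover.perfect (h : MinCover π) (hA : commutator A = ⊤) : commutator Γ = ⊤ := by
  refine h.2 _ ?_
  rw [commutator_def, Subgroup.map_commutator, ← MonoidHom.range_eq_map, MonoidHom.range_eq_top.2 h.1,
    ← commutator_def, hA]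

theorem MinCover.ker_le_frattini [Finite Γ] (h : MinCover π) : π.ker ≤ frattini Γ := by
  rw [frattini, Order.radical]
  refine le_iInf₂ fun M (hM : IsCoatom M) => ?_
  by_contra hle
  refine hM.1 (h.2 M ?_)
  have hsup : M ⊔ π.ker = ⊤ := hM.2 _ (lt_of_le_of_ne le_sup_left fun e => hle (e ▸ le_sup_right))
  have h1 := congrArg (Subgroup.map π) hsup
  rw [Subgroup.map_sup, (Subgroup.map_eq_bot_iff _).2 le_rfl, sup_bot_eq, ← MonoidHom.range_eq_map,
    MonoidHom.range_eq_top.2 h.1] at h1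
  exact h1

theorem hom_comm_trivial {M : Type*} [Monoid M] (hper : commutator Γ = ⊤) (f : Γ →* M)
    (hf : ∀ a b, Commute (f a) (f b)) (g : Γ) : f g = 1 := by
  have h1 : commutator Γ ≤ f.ker := by
    rw [commutator_def, Subgroup.commutator_le]
    intro a _ b _
    rw [MonoidHom.mem_ker, commutatorElement_def, map_mul, map_mul, map_mul, (hf a b).eq, mul_assoc (f b) (f a),
      ← map_mul f a a⁻¹, mul_inv_cancel, map_one, mul_one, ← map_mul, mul_inv_cancel, map_one]
  exact MonoidHom.mem_ker.1 (h1 (hper ▸ Subgroup.mem_top g))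

end

variable {Γ : Type*} [Group Γ]
variable {K V : Type*} [Field K] [AddCommGroup V] [Module K V] [FiniteDimensional K V]

/-- Schur's lemma. -/
theorem scalar_of_commute [IsAlgClosed K] [Nontrivial V] (ρ : Γ →* End K V)
    (hirr : ∀ W : Submodule K V, (∀ g, ∀ v ∈ W, ρ g v ∈ W) → W = ⊥ ∨ W = ⊤) (T : End K V)
    (hT : ∀ g, Commute T (ρ g)) : ∃ c : K, T = c • 1 := by
  obtain ⟨c, hc⟩ := End.exists_eigenvalue T
  rcases hirr (End.eigenspace T c) (fun g v hv => by
      rw [End.mem_eigenspace_iff] at hv ⊢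
      rw [← End.mul_apply, (hT g).eq, End.mul_apply, hv, map_smul]) with h | h
  · exact absurd h hc
  · refine ⟨c, LinearMap.ext fun v => ?_⟩
    have : v ∈ End.eigenspace T c := h ▸ Submodule.mem_top
    simpa [End.mem_eigenspace_iff] using this

/-- The weights of an abelian normal subgroup are permuted; if the permutation is trivial, they are scalar. -/
theorem abelian_normal_scalar [IsAlgClosed K] [Nontrivial V] (ρ : Γ →* End K V)
    (hirr : ∀ W : Submodule K V, (∀ g, ∀ v ∈ W, ρ g v ∈ W) → W = ⊥ ∨ W = ⊤) (A : Subgroup Γ) [A.Normal]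
    [Finite A] (hA : ∀ a ∈ A, ∀ b ∈ A, a * b = b * a)
    (htriv : ∀ (Ω : Type (max u_1 u_2)) [Finite Ω] (f : Γ →* Equiv.Perm Ω), Nat.card Ω ≤ finrank K V →
      ∀ g, f g = 1) :
    ∀ a ∈ A, ∃ c : K, ρ a = c • 1 := by
  classical
  let T : A → End K V := fun a => ρ a
  obtain ⟨v, -, hv, χ, hχ⟩ := RepBounds.exists_common_eigenvector T
    (fun a b => by show ρ a * ρ b = ρ b * ρ a; rw [← map_mul, ← map_mul, hA a a.2 b b.2]) ⊤ top_ne_bot
    (fun _ _ _ => trivial)
  let Ω := {ψ : A → K // ∃ v : V, v ≠ 0 ∧ ∀ a, T a v = ψ a • v}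
  have hfin : ∀ s : Finset Ω, s.card ≤ finrank K V := fun s => by
    rw [← Finset.card_map (Function.Embedding.subtype _)]
    refine RepBounds.card_le_finrank_of_eigenchar T _ fun ψ hψ => ?_
    obtain ⟨⟨ψ', hψ'⟩, -, rfl⟩ := Finset.mem_map.1 hψ
    exact hψ'
  haveI : Finite Ω := by
    by_contra hinf
    haveI : Infinite Ω := not_finite_iff_infinite.1 hinf
    obtain ⟨s, hs⟩ := Infinite.exists_subset_card_eq Ω (finrank K V + 1)
    have := hfin s
    omega
  have hcard : Nat.card Ω ≤ finrank K V := by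
    haveI := Fintype.ofFinite Ω
    rw [Nat.card_eq_fintype_card, ← Finset.card_univ]
    exact hfin _
  let cj : Γ → A → A := fun g a => ⟨g⁻¹ * a * g, by
    simpa using Subgroup.Normal.conj_mem (inferInstance : A.Normal) a a.2 g⁻¹⟩
  have hmove : ∀ (g : Γ) (ψ : A → K) (w : V), (∀ a, T a w = ψ a • w) →
      ∀ a, T a (ρ g w) = ψ (cj g a) • ρ g w := fun g ψ w hw a => by
    show ρ a (ρ g w) = _
    rw [← map_smul, ← hw (cj g a)]
    show ρ a (ρ g w) = ρ g (ρ (g⁻¹ * a * g) w)
    rw [← End.mul_apply, ← End.mul_apply, ← map_mul, ← map_mul]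
    congr 2
    group
  let act : Γ → Ω → Ω := fun g ψ => ⟨fun a => ψ.1 (cj g a), by
    obtain ⟨w, hw, hw'⟩ := ψ.2
    refine ⟨ρ g w, fun e => hw ?_, hmove g ψ.1 w hw'⟩
    have := congrArg (ρ g⁻¹) e
    rwa [← End.mul_apply, ← map_mul, inv_mul_cancel, map_one, End.one_apply, map_zero] at this⟩
  have act_mul : ∀ g h ψ, act (g * h) ψ = act g (act h ψ) := fun g h ψ => Subtype.ext (funext fun a => by
    show ψ.1 _ = ψ.1 _
    refine congrArg ψ.1 (Subtype.ext ?_)
    show (g * h)⁻¹ * a * (g * h) = h⁻¹ * (g⁻¹ * a * g) * h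
    group)
  have act_one : ∀ ψ, act 1 ψ = ψ := fun ψ => Subtype.ext (funext fun a => by
    show ψ.1 _ = ψ.1 _
    refine congrArg ψ.1 (Subtype.ext ?_)
    show (1 : Γ)⁻¹ * a * 1 = a
    simp)
  letI : MulAction Γ Ω :=
    { smul := act, one_smul := act_one, mul_smul := act_mul }
  have hfix := htriv Ω (MulAction.toPermHom Γ Ω) hcard
  let ψ0 : Ω := ⟨χ, v, hv, hχ⟩
  let W : Submodule K V := ⨅ a : A, End.eigenspace (T a) (χ a)
  have hmem : ∀ {w}, w ∈ W ↔ ∀ a, T a w = χ a • w := fun {w} => by simp [W, Submodule.mem_iInf]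
  rcases hirr W (fun g w hw => hmem.2 fun a => by
      have h1 := hmove g χ w (hmem.1 hw) a
      have h2 : act g ψ0 = ψ0 := Equiv.ext_iff.1 (hfix g) ψ0
      have h3 : χ (cj g a) = χ a := congrFun (congrArg Subtype.val h2) a
      rwa [h3] at h1) with h | h
  · exact absurd ((Submodule.mem_bot K).1 (h ▸ hmem.2 hχ)) hv
  · intro a ha
    refine ⟨χ ⟨a, ha⟩, LinearMap.ext fun w => ?_⟩
    have := hmem.1 (h ▸ Submodule.mem_top : w ∈ W) ⟨a, ha⟩
    simpa [T] using this

end Cfsg.Agent.Lib.AltDegree52
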