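/-
Linear groups having an alternating group as a section.
-/
import Mathlib
import Cfsg.Agent.Lib.AltDegree52.Ordinary
import Cfsg.Agent.Lib.AltDegree52.SpinSeven
import Cfsg.Agent.Lib.AltDegree52.Cover
import Cfsg.Agent.Lib.AltDegree52.Tools
import Cfsg.Agent.S0892

set_option autoImplicit false
set_option linter.unusedSectionVars false

namespace Cfsg.Agent.Lib.AltDegree52

open Module

universe u

theorem Big.mono {K : Type*} [Field K] {r m n : ℕ} (h : Big K r m) (hmn : m ≤ n) : Big K r n :=
  ⟨by have := h.1; omega, fun hr => by have := h.2 hr; omega⟩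

theorem alt_perfect {r : ℕ} (hr : 9 ≤ r) : commutator (alternatingGroup (Fin r)) = ⊤ :=
  commutator_alternatingGroup_eq_top (by rw [Nat.card_fin]; omega)

theorem alt_simple {r : ℕ} (hr : 9 ≤ r) : IsSimpleGroup (alternatingGroup (Fin r)) :=
  alternatingGroup.isSimpleGroup (by rw [Nat.card_fin]; omega)

theorem card_alt_fin {r : ℕ} (hr : 9 ≤ r) : 2 * Nat.card (alternatingGroup (Fin r)) = r.factorial := by
  haveI : Nontrivial (Fin r) := Fin.nontrivial_iff_two_le.2 (by omega)
  rw [two_mul_nat_card_alternatingGroup, Nat.card_perm, Nat.card_fin]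

theorem sq_lt_two_pow (n : ℕ) (h : 5 ≤ n) : n * n < 2 ^ n := by
  induction n, h using Nat.le_induction with
  | base => norm_num
  | succ n hn ih => rw [pow_succ]; nlinarith

theorem sq_lt_two_pow_sub (r : ℕ) (h : 9 ≤ r) : r * r < 2 ^ (r - 2) := by
  induction r, h using Nat.le_induction with
  | base => norm_num
  | succ n hn ih => rw [show n + 1 - 2 = (n - 2) + 1 by omega, pow_succ]; nlinarith

/-- The induction hypothesis. -/
def BigBelow (n : ℕ) : Prop :=
  ∀ m < n, ∀ (K : Type u) [Field K] [IsAlgClosed K] (V : Type u) [AddCommGroup V] [Module K V]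
    [FiniteDimensional K V] (r : ℕ) (Γ : Type u) [Group Γ] [Finite Γ] (π : Γ →* alternatingGroup (Fin r)),
    MinCover π → 9 ≤ r → ∀ ρ : Γ →* End K V, (∃ g, ρ g ≠ 1) → finrank K V = m → Big K r m

section
variable {K : Type u} [Field K] [IsAlgClosed K] {V : Type u} [AddCommGroup V] [Module K V]
  [FiniteDimensional K V] {r : ℕ} {Γ : Type u} [Group Γ] [Finite Γ] {π : Γ →* alternatingGroup (Fin r)}

/-- A reducible representation. -/
theorem big_of_reducible (hπ : MinCover π) (hr : 9 ≤ r) (ρ : Γ →* End K V) (hne : ∃ g, ρ g ≠ 1)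
    (IH : BigBelow.{u} (finrank K V)) (W : Submodule K V) (hW : ∀ g, ∀ v ∈ W, ρ g v ∈ W) (hbot : W ≠ ⊥)
    (htop : W ≠ ⊤) : Big K r (finrank K V) := by
  classical
  by_cases h1 : ∃ g, resHom ρ W hW g ≠ 1
  · have hlt : finrank K W < finrank K V := Submodule.finrank_lt htop
    exact (IH _ hlt K W r Γ π hπ hr _ h1 rfl).mono hlt.le
  push Not at h1
  let σ : Γ →* End K (V ⧸ W) :=
    { toFun := fun g => W.mapQ W (ρ g) (fun v hv => hW g v hv)
      map_one' := by
        refine LinearMap.ext fun x => ?_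
        induction x using Submodule.Quotient.induction_on with
        | _ x => simp
      map_mul' := fun g h => by
        refine LinearMap.ext fun x => ?_
        induction x using Submodule.Quotient.induction_on with
        | _ x => simp }
  have hadd := Submodule.finrank_quotient_add_finrank W
  have hpos : 0 < finrank K W := Nat.pos_of_ne_zero fun e => hbot (Submodule.finrank_eq_zero.1 e)
  by_cases h2 : ∃ g, σ g ≠ 1
  · have hlt : finrank K (V ⧸ W) < finrank K V := by omega
    exact (IH _ hlt K (V ⧸ W) r Γ π hπ hr σ h2 rfl).mono hlt.le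
  push Not at h2
  exfalso
  have hmem : ∀ g v, ρ g v - v ∈ W := fun g v => by
    rw [← Submodule.Quotient.eq]
    exact LinearMap.congr_fun (h2 g) (Submodule.Quotient.mk v)
  have hfix : ∀ g, ∀ w ∈ W, ρ g w = w := fun g w hw =>
    congrArg Subtype.val (LinearMap.congr_fun (h1 g) ⟨w, hw⟩)
  have hform : ∀ g h v, ρ g (ρ h v) = ρ g v + ρ h v - v := fun g h v => by
    have e := hfix g _ (hmem h v)
    rw [map_sub] at e
    rw [eq_add_of_sub_eq e]
    abel
  obtain ⟨g, hg⟩ := hne
  refine hg (hom_comm_trivial (hπ.perfect (alt_perfect hr)) ρ (fun a b => LinearMap.ext fun v => ?_) g)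
  rw [End.mul_apply, End.mul_apply, hform, hform, add_comm]

/-- The kernel is central for a faithful irreducible representation of small degree. -/
theorem ker_central (hπ : MinCover π) (hr : 9 ≤ r) (ρ : Γ →* End K V) (hinj : Function.Injective ρ)
    (hirr : ∀ W : Submodule K V, (∀ g, ∀ v ∈ W, ρ g v ∈ W) → W = ⊥ ∨ W = ⊤) [Nontrivial V]
    (hn : finrank K V + 2 ≤ r) (IH : BigBelow.{u} (finrank K V)) : π.ker ≤ Subgroup.center Γ := by
  classical
  haveI := alt_simple hr
  set n := finrank K V with hndef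
  have hper := hπ.perfect (alt_perfect hr)
  have hcard : Nat.card (Γ ⧸ π.ker) = Nat.card (alternatingGroup (Fin r)) :=
    Nat.card_congr (QuotientGroup.quotientKerEquivOfSurjective π hπ.1).toEquiv
  have hscalar : ∀ {g : Γ}, g ∈ Subgroup.center Γ → ∃ c : K, ρ g = c • 1 := fun {g} hg =>
    scalar_of_commute ρ hirr _ fun h => by
      show ρ g * ρ h = ρ h * ρ g
      rw [← map_mul, ← map_mul, Subgroup.mem_center_iff.1 hg h]
  have hcentral : ∀ {g : Γ}, (∃ c : K, ρ g = c • 1) → g ∈ Subgroup.center Γ := fun {g} ⟨c, hc⟩ => by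
    rw [Subgroup.mem_center_iff]
    intro h
    refine hinj ?_
    rw [map_mul, map_mul, hc, smul_mul_assoc, mul_smul_comm, one_mul, mul_one]
  -- the image of a nontrivial action is large
  have hbig : ∀ {M : Type u} [Group M] (f : Γ →* M), (∃ g, f g ≠ 1) → ∀ [Finite M],
      Nat.card (alternatingGroup (Fin r)) ∣ Nat.card M := by
    intro M _ f ⟨g, hg⟩ _
    have hker : f.ker ≤ π.ker :=
      hπ.normal_le_ker _ fun e => hg (MonoidHom.mem_ker.1 (e ▸ Subgroup.mem_top g))
    rw [← hcard]
    refine (Subgroup.index_dvd_of_le hker).trans ?_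
    rw [Subgroup.index_ker]
    exact Subgroup.card_subgroup_dvd_card _
  have habel : ∀ A : Subgroup Γ, A.Normal → A ≤ π.ker → (∀ a ∈ A, ∀ b ∈ A, a * b = b * a) →
      A ≤ Subgroup.center Γ := by
    intro A _ hA hcomm a ha
    refine hcentral (abelian_normal_scalar ρ hirr A hcomm (fun Ω _ f hΩ => ?_) a ha)
    by_contra! hne
    have h1 := hbig f hne
    rw [Nat.card_perm] at h1
    have h2 := Nat.le_of_dvd (Nat.factorial_pos _) h1
    have h3 : (Nat.card Ω).factorial ≤ (r - 2).factorial := Nat.factorial_le (by omega)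
    have h4 := card_alt_fin hr
    obtain ⟨s, rfl⟩ : ∃ s, r = s + 2 := ⟨r - 2, by omega⟩
    simp only [Nat.add_sub_cancel] at h3
    rw [Nat.factorial_succ, Nat.factorial_succ] at h4
    have h5 : 2 * 2 ≤ (s + 1 + 1) * (s + 1) := Nat.mul_le_mul (by omega) (by omega)
    have h6 : 2 * 2 * s.factorial ≤ (s + 1 + 1) * (s + 1) * s.factorial := Nat.mul_le_mul_right _ h5
    rw [mul_assoc (s + 1 + 1)] at h6
    have := Nat.factorial_pos s
    omega
  by_contra hnc
  -- a minimal noncentral normal subgroup inside the kernel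
  obtain ⟨N, ⟨hNn, hNk, hNnc⟩, hNmin⟩ := (Set.toFinite {N : Subgroup Γ | N.Normal ∧ N ≤ π.ker ∧
    ¬ N ≤ Subgroup.center Γ}).exists_minimal ⟨π.ker, inferInstance, le_rfl, hnc⟩
  haveI := hNn
  have hmin' : ∀ M : Subgroup Γ, M.Normal → M < N → M ≤ Subgroup.center Γ := fun M hM hlt => by
    by_contra hc
    exact hlt.not_ge (hNmin ⟨hM, hlt.le.trans hNk, hc⟩ hlt.le)
  haveI : Group.IsNilpotent (frattini Γ) := frattini_nilpotent
  haveI : Group.IsSolvable N :=
    solvable_of_solvable_injective (f := Subgroup.inclusion (hNk.trans hπ.ker_le_frattini))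
      (Subgroup.inclusion_injective _)
  have hNd : ⁅N, N⁆ ≤ Subgroup.center Γ := by
    haveI : Nontrivial N := (Subgroup.nontrivial_iff_ne_bot N).2 fun e => hNnc (e ▸ bot_le)
    refine hmin' _ inferInstance (lt_of_le_of_ne (Subgroup.commutator_le_self N) fun e => ?_)
    refine (Group.IsSolvable.commutator_lt_top_of_nontrivial (G := N)).ne ?_
    apply Subgroup.map_injective N.subtype_injective
    rw [Subgroup.map_subtype_commutator, e, ← MonoidHom.range_eq_map, Subgroup.range_subtype]
  set Z := N ⊓ Subgroup.center Γ with hZ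
  have hZin : ∀ x ∈ N, (∀ y ∈ N, y * x = x * y) → x ∈ Subgroup.center Γ := by
    intro x hx hxy
    let A : Subgroup Γ := N ⊓ Subgroup.centralizer (N : Set Γ)
    have hAn : A.Normal := ⟨fun a ha g => ⟨hNn.conj_mem a ha.1 g, fun y hy => by
      have := ha.2 (g⁻¹ * y * g) (by simpa using hNn.conj_mem y hy g⁻¹)
      calc y * (g * a * g⁻¹) = g * ((g⁻¹ * y * g) * a) * g⁻¹ := by group
        _ = g * (a * (g⁻¹ * y * g)) * g⁻¹ := by rw [this]
        _ = g * a * g⁻¹ * y := by group⟩⟩
    exact habel A hAn (inf_le_left.trans hNk) (fun a ha b hb => (ha.2 b hb.1).symm) ⟨hx, hxy⟩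
  have hNN : ∀ x ∈ N, ∀ y ∈ N, x * y * x⁻¹ * y⁻¹ ∈ Z := fun x hx y hy =>
    ⟨N.mul_mem (N.mul_mem (N.mul_mem hx hy) (N.inv_mem hx)) (N.inv_mem hy),
      hNd (Subgroup.commutator_mem_commutator hx hy)⟩
  -- the elementary abelian quotient
  haveI hZ'n : (Z.subgroupOf N).Normal := inferInstance
  set M := N ⧸ Z.subgroupOf N with hM
  letI : CommGroup M :=
    { (inferInstance : Group M) with
      mul_comm := fun a b => by
        induction a using QuotientGroup.induction_on with
        | _ a =>
          induction b using QuotientGroup.induction_on with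
          | _ b =>
            rw [← QuotientGroup.mk_mul, ← QuotientGroup.mk_mul, QuotientGroup.eq]
            show (((a * b)⁻¹ * (b * a) : N) : Γ) ∈ Z
            have := hNN b.1⁻¹ (N.inv_mem b.2) a.1⁻¹ (N.inv_mem a.2)
            simpa [mul_assoc] using this }
  haveI : Nontrivial M := by
    obtain ⟨x, hx, hxc⟩ := SetLike.not_le_iff_exists.1 hNnc
    refine ⟨⟨((⟨x, hx⟩ : N) : M), 1, fun e => hxc ?_⟩⟩
    have : (⟨x, hx⟩ : N) ∈ Z.subgroupOf N := (QuotientGroup.eq_one_iff _).1 e
    exact this.2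
  have hq0 : Nat.card M ≠ 1 := fun e => by
    have := Finite.one_lt_card (α := M); omega
  set q := (Nat.card M).minFac with hqdef
  haveI hq : Fact q.Prime := ⟨Nat.minFac_prime hq0⟩
  let conjM : Γ →* MulAut M :=
    { toFun := fun g => QuotientGroup.congr (Z.subgroupOf N) (Z.subgroupOf N) (MulAut.conjNormal g) (by
        ext x
        constructor
        · rintro ⟨y, hy, rfl⟩
          exact (inferInstance : Z.Normal).conj_mem _ hy g
        · intro hx
          refine ⟨(MulAut.conjNormal g).symm x, ?_, MulEquiv.apply_symm_apply _ _⟩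
          show ((MulAut.conjNormal g).symm x : Γ) ∈ Z
          rw [MulAut.conjNormal_symm_apply]
          simpa using (inferInstance : Z.Normal).conj_mem _ hx g⁻¹)
      map_one' := by
        ext x
        induction x using QuotientGroup.induction_on with
        | _ x => simp
      map_mul' := fun g h => by
        ext x
        induction x using QuotientGroup.induction_on with
        | _ x => simp }
  have hact : ∃ g, conjM g ≠ 1 := by
    by_contra! hall
    refine hNnc fun x hx => ?_
    have hc : ∀ g, g * x * g⁻¹ * x⁻¹ ∈ Z := fun g => by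
      have h1 : conjM g ((⟨x, hx⟩ : N) : M) = ((⟨x, hx⟩ : N) : M) := by rw [hall g]; rfl
      have h2 : ((MulAut.conjNormal g ⟨x, hx⟩ : N) : M) = ((⟨x, hx⟩ : N) : M) := h1
      rw [eq_comm, QuotientGroup.eq] at h2
      have h3 := (inferInstance : Z.Normal).conj_mem _
        (show x⁻¹ * (g * x * g⁻¹) ∈ Z by simpa [Subgroup.mem_subgroupOf] using h2) x
      simpa [mul_assoc] using h3
    let φ : Γ →* Subgroup.center Γ :=
      { toFun := fun g => ⟨g * x * g⁻¹ * x⁻¹, (hc g).2⟩
        map_one' := by simp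
        map_mul' := fun g h => Subtype.ext (by
          show g * h * x * (g * h)⁻¹ * x⁻¹ = g * x * g⁻¹ * x⁻¹ * (h * x * h⁻¹ * x⁻¹)
          have hh := Subgroup.mem_center_iff.1 (hc h).2
          calc g * h * x * (g * h)⁻¹ * x⁻¹ = g * (h * x * h⁻¹ * x⁻¹) * (x * g⁻¹ * x⁻¹) := by group
            _ = (h * x * h⁻¹ * x⁻¹) * g * (x * g⁻¹ * x⁻¹) := by rw [hh g]
            _ = (h * x * h⁻¹ * x⁻¹) * (g * x * g⁻¹ * x⁻¹) := by group
            _ = g * x * g⁻¹ * x⁻¹ * (h * x * h⁻¹ * x⁻¹) := (hh _).symm) }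
    rw [Subgroup.mem_center_iff]
    intro g
    have h1 : g * x * g⁻¹ * x⁻¹ = 1 :=
      congrArg Subtype.val (hom_comm_trivial hper φ
        (fun a b => Subtype.ext (Subgroup.mem_center_iff.1 (φ b).2 (φ a).1)) g)
    exact mul_inv_eq_iff_eq_mul.1 (mul_inv_eq_one.1 h1)
  -- exponent `q`
  have hpow : ∀ a : M, a ^ q = 1 := by
    let T : Subgroup Γ :=
      { carrier := {x | ∃ hx : x ∈ N, ((⟨x, hx⟩ : N) : M) ^ q = 1}
        one_mem' := ⟨N.one_mem, by rw [show (⟨1, N.one_mem⟩ : N) = 1 from rfl, QuotientGroup.mk_one, one_pow]⟩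
        mul_mem' := fun {a b} ⟨ha, ha'⟩ ⟨hb, hb'⟩ => ⟨N.mul_mem ha hb, by
          rw [show (⟨a * b, N.mul_mem ha hb⟩ : N) = ⟨a, ha⟩ * ⟨b, hb⟩ from rfl, QuotientGroup.mk_mul, mul_pow,
            ha', hb', one_mul]⟩
        inv_mem' := fun {a} ⟨ha, ha'⟩ => ⟨N.inv_mem ha, by
          rw [show (⟨a⁻¹, N.inv_mem ha⟩ : N) = ⟨a, ha⟩⁻¹ from rfl, QuotientGroup.mk_inv, inv_pow, ha', inv_one]⟩ }
    have hTn : T.Normal := by
      refine ⟨fun a ha g => ?_⟩
      obtain ⟨ha, ha'⟩ := ha
      refine ⟨hNn.conj_mem a ha g, ?_⟩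
      have e : ((⟨g * a * g⁻¹, hNn.conj_mem a ha g⟩ : N) : M) = conjM g ((⟨a, ha⟩ : N) : M) := rfl
      rw [e, ← map_pow, ha', map_one]
    obtain ⟨y, hy⟩ := exists_prime_orderOf_dvd_card' (G := M) q (Nat.minFac_dvd _)
    have hTN : T = N := by
      by_contra hne
      obtain ⟨y', rfl⟩ := QuotientGroup.mk'_surjective (Z.subgroupOf N) y
      have hlt : T < N := lt_of_le_of_ne (fun a ha => ha.1) hne
      have : (y' : Γ) ∈ Subgroup.center Γ := hmin' T hTn hlt ⟨y'.2, by
        rw [← hy]; exact pow_orderOf_eq_one _⟩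
      have h1 : (QuotientGroup.mk' (Z.subgroupOf N)) y' = 1 := (QuotientGroup.eq_one_iff y').2 ⟨y'.2, this⟩
      rw [h1, orderOf_one] at hy
      exact hq.out.ne_one hy.symm
    intro a
    induction a using QuotientGroup.induction_on with
    | _ a =>
      obtain ⟨h, h'⟩ : (a : Γ) ∈ T := hTN.ge a.2
      exact h'
  -- representatives are independent endomorphisms
  have hMn : Nat.card M ≤ n * n := by
    let T : N → End K (End K V) := fun y =>
      (LinearMap.mulLeft K (ρ y)).comp (LinearMap.mulRight K (ρ (y : Γ)⁻¹))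
    have hT : ∀ (y : N) (X : End K V), T y X = ρ y * (X * ρ (y : Γ)⁻¹) := fun y X => rfl
    have hsc : ∀ x y : N, ∃ c : K, ρ ((y : Γ) * x * (y : Γ)⁻¹ * (x : Γ)⁻¹) = c • 1 := fun x y =>
      hscalar (hNN y y.2 x x.2).2
    choose χ hχ using hsc
    have hχ' : ∀ (a : M), ∀ y, T y (ρ (a.out : Γ)) = χ a.out y • ρ (a.out : Γ) := fun a y => by
      rw [hT, ← map_mul, ← map_mul, ← smul_one_mul, ← hχ, ← map_mul]
      congr 1
      group
    let J := (Finset.univ : Finset (Option Unit))
    haveI := Fintype.ofFinite M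
    have hinj' : Function.Injective fun a : M => fun y => χ a.out y := by
      intro a b hab
      rw [← QuotientGroup.out_eq' a, ← QuotientGroup.out_eq' b, QuotientGroup.eq]
      refine ⟨(a.out⁻¹ * b.out).2, hZin _ (a.out⁻¹ * b.out).2 fun y hy => ?_⟩
      have h1 : (y * (a.out : Γ) * y⁻¹ * (a.out : Γ)⁻¹) = y * (b.out : Γ) * y⁻¹ * (b.out : Γ)⁻¹ :=
        hinj (by rw [hχ a.out ⟨y, hy⟩, hχ b.out ⟨y, hy⟩]; exact congrArg (· • _) (congrFun hab ⟨y, hy⟩))
      have hc := Subgroup.mem_center_iff.1 (hNN y hy b.out b.out.2).2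
      show y * ((a.out : Γ)⁻¹ * b.out) = (a.out : Γ)⁻¹ * b.out * y
      set c := y * (b.out : Γ) * y⁻¹ * (b.out : Γ)⁻¹ with hcdef
      calc y * ((a.out : Γ)⁻¹ * b.out) = (y * (a.out : Γ)⁻¹ * y⁻¹) * (y * b.out * y⁻¹) * y := by group
        _ = ((c * (a.out : Γ))⁻¹) * (c * b.out) * y := by
            rw [show c * (b.out : Γ) = y * b.out * y⁻¹ by rw [hcdef]; group,
              show c * (a.out : Γ) = y * a.out * y⁻¹ by rw [← h1]; group]
            group
        _ = (a.out : Γ)⁻¹ * b.out * y := by group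
    have h := RepBounds.card_le_finrank_of_eigenchar T
      (Finset.univ.map ⟨fun a : M => fun y => χ a.out y, hinj'⟩) fun ψ hψ => by
      obtain ⟨a, -, rfl⟩ := Finset.mem_map.1 hψ
      refine ⟨ρ (a.out : Γ), fun e => ?_, hχ' a⟩
      obtain ⟨v, hv⟩ := exists_ne (0 : V)
      exact apply_ne_zero ρ _ hv (LinearMap.congr_fun e v)
    rw [Finset.card_map, Finset.card_univ, Module.finrank_linearMap, ← Nat.card_eq_fintype_card] at h
    exact h
  -- linearise the action
  letI : Module (ZMod q) (Additive M) := AddCommGroup.zmodModule (n := q) fun a => hpow (Additive.toMul a)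
  haveI : FiniteDimensional (ZMod q) (Additive M) := Module.Finite.of_finite
  set D := finrank (ZMod q) (Additive M) with hD
  have hMD : Nat.card M = q ^ D := by
    rw [hD, show Nat.card M = Nat.card (Additive M) from Nat.card_congr Additive.ofMul,
      Module.natCard_eq_pow_finrank (K := ZMod q), Nat.card_zmod]
  have hq2 : 2 ≤ q := hq.out.two_le
  have h2D : 2 ^ D ≤ n * n := (Nat.pow_le_pow_left hq2 D).trans (hMD ▸ hMn)
  let lin : Γ →* End (ZMod q) (Additive M) :=
    { toFun := fun g => AddMonoidHom.toZModLinearMap q (MonoidHom.toAdditive (conjM g).toMonoidHom)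
      map_one' := by
        refine LinearMap.ext fun a => ?_
        show Additive.ofMul (conjM 1 (Additive.toMul a)) = a
        rw [map_one]; rfl
      map_mul' := fun g h => by
        refine LinearMap.ext fun a => ?_
        show Additive.ofMul (conjM (g * h) (Additive.toMul a)) =
          Additive.ofMul (conjM g (conjM h (Additive.toMul a)))
        rw [map_mul]; rfl }
  obtain ⟨g0, hg0⟩ := hact
  have hlin : lin g0 ≠ 1 := fun e => hg0 (by
    refine MulEquiv.ext fun a => ?_
    exact congrArg Additive.toMul (LinearMap.congr_fun e (Additive.ofMul a)))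
  by_cases hn5 : 5 ≤ n
  · have hDn : D < n := by
      by_contra hc
      have := Nat.pow_le_pow_right (show 1 ≤ 2 by norm_num) (not_lt.1 hc)
      have := sq_lt_two_pow n hn5
      omega
    let K' : Type u := AlgebraicClosure (ULift.{u} (ZMod q))
    let ι : ZMod q →+* K' :=
      (algebraMap (ULift.{u} (ZMod q)) K').comp (ULift.ringEquiv.symm : ZMod q ≃+* ULift.{u} (ZMod q)).toRingHom
    let bs := Module.finBasis (ZMod q) (Additive M)
    let σ : Γ →* End K' (Fin D → K') :=
      (Matrix.toLinAlgEquiv' : Matrix (Fin D) (Fin D) K' ≃ₐ[K'] _).toMonoidHom.comp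
        ((RingHom.mapMatrix ι).toMonoidHom.comp
          ((LinearMap.toMatrixAlgEquiv bs).toMonoidHom.comp lin))
    have hσ : σ g0 ≠ 1 := fun e => hlin (by
      apply (LinearMap.toMatrixAlgEquiv bs).injective
      apply Matrix.map_injective ι.injective
      apply (Matrix.toLinAlgEquiv' : Matrix (Fin D) (Fin D) K' ≃ₐ[K'] _).injective
      rw [map_one (LinearMap.toMatrixAlgEquiv bs)]
      beta_reduce
      rw [Matrix.map_one _ (map_zero ι) (map_one ι), map_one]
      exact e)
    have hb := IH D hDn K' (Fin D → K') r Γ π hπ hr σ ⟨g0, hσ⟩ (Module.finrank_fin_fun K')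
    have h1 : r - 2 ≤ D := by have := hb.1; omega
    have h2 := Nat.pow_le_pow_right (show 1 ≤ 2 by norm_num) h1
    have h3 := sq_lt_two_pow_sub r hr
    have h4 : n * n ≤ r * r := Nat.mul_le_mul (by omega) (by omega)
    omega
  · have hD4 : D ≤ 4 := by
      by_contra hc
      have h1 := Nat.pow_le_pow_right (show 1 ≤ 2 by norm_num) (show 5 ≤ D by omega)
      have h2 : n * n ≤ 4 * 4 := Nat.mul_le_mul (by omega) (by omega)
      omega
    haveI : Finite (End (ZMod q) (Additive M)) := Module.finite_of_finite (ZMod q)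
    haveI : Finite (MulAut M) := Finite.of_injective (fun f : MulAut M => (f : M → M)) DFunLike.coe_injective
    have hcardle : Nat.card (MulAut M) ≤ Nat.card (End (ZMod q) (Additive M)) := by
      refine Nat.card_le_card_of_injective
        (fun f => AddMonoidHom.toZModLinearMap q (MonoidHom.toAdditive f.toMonoidHom)) fun f f' hff => ?_
      refine MulEquiv.ext fun a => ?_
      exact congrArg Additive.toMul (LinearMap.congr_fun hff (Additive.ofMul a))
    rw [Module.natCard_eq_pow_finrank (K := ZMod q) (V := End (ZMod q) (Additive M)), Module.finrank_linearMap,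
      Nat.card_zmod, pow_mul, ← hD,
      ← hMD] at hcardle
    have h16 : Nat.card M ≤ 16 := hMn.trans (Nat.mul_le_mul (show n ≤ 4 by omega) (show n ≤ 4 by omega))
    have h2 : Nat.card M ^ D ≤ 16 ^ 4 :=
      (Nat.pow_le_pow_left h16 D).trans (Nat.pow_le_pow_right (by norm_num) hD4)
    have h3 := Nat.le_of_dvd Nat.card_pos (hbig conjM ⟨g0, hg0⟩)
    have h4 := card_alt_fin hr
    have h5 : Nat.factorial 9 ≤ r.factorial := Nat.factorial_le hr
    have h6 : Nat.factorial 9 = 362880 := rfl
    omega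

/-- A faithful irreducible representation. -/
theorem big_of_irreducible (hπ : MinCover π) (hr : 9 ≤ r) (ρ : Γ →* End K V) (hinj : Function.Injective ρ)
    (hirr : ∀ W : Submodule K V, (∀ g, ∀ v ∈ W, ρ g v ∈ W) → W = ⊥ ∨ W = ⊤) (hpos : 0 < finrank K V)
    (IH : BigBelow.{u} (finrank K V)) : Big K r (finrank K V) := by
  by_contra hB
  haveI : Nontrivial V := Module.finrank_pos_iff.1 hpos
  have hn : finrank K V + 2 ≤ r := by
    by_contra hc
    exact hB ⟨by omega, fun _ => by omega⟩
  have hc := ker_central hπ hr ρ hinj hirr hn IH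
  have hper := hπ.perfect (alt_perfect hr)
  have h2 : Nat.card π.ker ≤ 2 := Cfsg.Agent.S0892.result r (by omega) (by omega) (by omega) π.ker hc
    (hper ▸ le_top) (QuotientGroup.quotientKerEquivOfSurjective π hπ.1)
  have hcpos : 0 < Nat.card π.ker := Nat.card_pos
  rcases (show Nat.card π.ker = 1 ∨ Nat.card π.ker = 2 by omega) with h1 | h1
  · have hbot : π.ker = ⊥ := Subgroup.card_eq_one.1 h1
    let e : Γ ≃* alternatingGroup (Fin r) := MulEquiv.ofBijective π ⟨(π.ker_eq_bot_iff).1 hbot, hπ.1⟩
    obtain ⟨l, hl, hnd⟩ := exists_extend ([] : List (Fin r)) List.nodup_nil 3 (by simp; omega)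
    match l, hl with
    | [a, b, c], _ =>
      rw [List.nil_append] at hnd
      have hne : (ρ.comp e.symm.toMonoidHom) (triA a b c) ≠ 1 := fun he =>
        triA_ne_one hnd (e.symm.map_eq_one_iff.1 (hinj (he.trans (map_one ρ).symm)))
      have := ordinary_big (ρ.comp e.symm.toMonoidHom) (by rw [Fintype.card_fin]; exact hr) hne
      rw [Fintype.card_fin] at this
      exact hB this
  · obtain ⟨z, hz, hz1⟩ : ∃ z ∈ π.ker, z ≠ 1 := by
      by_contra! hall
      have : π.ker = ⊥ := (Subgroup.eq_bot_iff_forall _).2 hall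
      rw [this, Subgroup.card_bot] at h1
      omega
    obtain ⟨c, hcz⟩ := scalar_of_commute ρ hirr (ρ z) fun g => by
      show ρ z * ρ g = ρ g * ρ z
      rw [← map_mul, ← map_mul, Subgroup.mem_center_iff.1 (hc hz) g]
    have hkk : ∀ k ∈ π.ker, k * k = 1 := fun k hk => by
      have := pow_card_eq_one' (x := (⟨k, hk⟩ : π.ker))
      rw [h1, pow_two] at this
      exact congrArg Subtype.val this
    have hc1 : c ≠ 1 := fun e => hz1 (hinj (by rw [hcz, e, one_smul, map_one]))
    have hcc : (c - 1) * (c + 1) = 0 := by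
      obtain ⟨v, hv⟩ := exists_ne (0 : V)
      have := LinearMap.congr_fun (congrArg ρ (hkk z hz)) v
      rw [map_mul, map_one, hcz, End.mul_apply] at this
      simp only [LinearMap.smul_apply, End.one_apply, smul_smul] at this
      have := smul_left_injective K hv (this.trans (one_smul K v).symm)
      linear_combination this
    have hcm : c = -1 := eq_neg_of_add_eq_zero_left ((mul_eq_zero.1 hcc).resolve_left (sub_ne_zero.2 hc1))
    have h2K : (2 : K) ≠ 0 := fun e => hc1 (by linear_combination hcm - e)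
    have hker : ∀ k ∈ π.ker, k = 1 ∨ k = z := by
      intro k hk
      by_contra! hcon
      classical
      haveI := Fintype.ofFinite π.ker
      have hle := Finset.card_le_univ ({1, ⟨z, hz⟩, ⟨k, hk⟩} : Finset π.ker)
      rw [Finset.card_eq_three.2 ⟨_, _, _, fun e => hz1 (congrArg Subtype.val e).symm,
        fun e => hcon.1 (congrArg Subtype.val e).symm, fun e => hcon.2 (congrArg Subtype.val e).symm, rfl⟩,
        ← Nat.card_eq_fintype_card, h1] at hle
      omega
    have hkρ : ∀ k, π k = 1 → ρ k = 1 ∨ ρ k = -1 := fun k hk => by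
      rcases hker k hk with rfl | rfl
      · exact Or.inl (map_one ρ)
      · exact Or.inr (by rw [hcz, hcm, neg_one_smul])
    obtain ⟨m, rfl⟩ : ∃ m, r = m + 2 := ⟨r - 2, by omega⟩
    have H : SpinData π ρ :=
      { two := h2K
        card := by rw [Fintype.card_fin]; exact hr
        pos := hpos
        surj := hπ.1
        ker := hkρ
        sq := fun g a b c' d h hg => by
          have hk : g * g ∈ π.ker := by rw [MonoidHom.mem_ker, map_mul, hg, (dtA_klein' h).2.2.1]
          rcases hker _ hk with e | e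
          · exact absurd e (lift_dt_sq_ne_one (by omega) π hπ.1 hπ.2 hc h1 (by omega) h hg)
          · rw [← map_mul, e, hcz, hcm, neg_one_smul] }
    have := H.big
    rw [Fintype.card_fin] at this
    exact hB this

end

/-- The minimal degree of a linear group covering `A_r`. -/
theorem big_below : ∀ n, BigBelow.{u} n := by
  intro n
  induction n with
  | zero => exact fun m hm => absurd hm (Nat.not_lt_zero m)
  | succ n ih =>
    intro m hm K _ _ V _ _ _ r Γ _ _ π hπ hr ρ hne hfin
    rcases Nat.lt_succ_iff_lt_or_eq.1 hm with hlt | rfl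
    · exact ih m hlt K V r Γ π hπ hr ρ hne hfin
    subst hfin
    classical
    -- pass to the image
    haveI := alt_simple hr
    obtain ⟨g, hg⟩ := hne
    have hN : ρ.ker ≤ π.ker := hπ.normal_le_ker _ fun e => hg (MonoidHom.mem_ker.1 (e ▸ Subgroup.mem_top g))
    have hπ' := hπ.quotient ρ.ker hN
    let σ : Γ ⧸ ρ.ker →* End K V := QuotientGroup.lift ρ.ker ρ le_rfl
    have hσinj : Function.Injective σ := by
      rw [injective_iff_map_eq_one]
      intro a
      induction a using QuotientGroup.induction_on with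
      | _ a => exact fun h => (QuotientGroup.eq_one_iff a).2 h
    have hne' : ∃ a, σ a ≠ 1 := ⟨(g : Γ ⧸ ρ.ker), hg⟩
    by_cases hred : ∃ W : Submodule K V, (∀ a, ∀ v ∈ W, σ a v ∈ W) ∧ W ≠ ⊥ ∧ W ≠ ⊤
    · obtain ⟨W, hW, h1, h2⟩ := hred
      exact big_of_reducible hπ' hr σ hne' ih W hW h1 h2
    push Not at hred
    refine big_of_irreducible hπ' hr σ hσinj (fun W hW => or_iff_not_imp_left.2 (hred W hW)) ?_ ih
    refine Nat.pos_of_ne_zero fun h0 => hg (LinearMap.ext fun v => ?_)
    haveI : Subsingleton V := Module.finrank_zero_iff.1 h0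
    exact Subsingleton.elim _ _

/-- A group with quotient `A_r` acting faithfully. -/
theorem big_of_section {K : Type u} [Field K] [IsAlgClosed K] {V : Type u} [AddCommGroup V] [Module K V]
    [FiniteDimensional K V] {r : ℕ} (hr : 9 ≤ r) {H : Type u} [Group H] [Finite H]
    (π : H →* alternatingGroup (Fin r)) (hπ : Function.Surjective π) (ρ : H →* End K V)
    (hρ : Function.Injective ρ) : Big K r (finrank K V) := by
  classical
  obtain ⟨M, hM, hMmin⟩ := (Set.toFinite {M : Subgroup H | M.map π = ⊤}).exists_minimal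
    ⟨⊤, by rw [Set.mem_ofPred_eq, ← MonoidHom.range_eq_map, MonoidHom.range_eq_top.2 hπ]⟩
  have hmc : MinCover (π.comp M.subtype) := by
    refine ⟨fun a => ?_, fun L hL => ?_⟩
    · obtain ⟨m, hm, rfl⟩ := (hM.ge (Subgroup.mem_top a) : a ∈ M.map π)
      exact ⟨⟨m, hm⟩, rfl⟩
    · have h1 : M ≤ L.map M.subtype :=
        hMmin (show (L.map M.subtype).map π = ⊤ by rw [Subgroup.map_map]; exact hL) (Subgroup.map_subtype_le L)
      rw [eq_top_iff]
      intro x _
      obtain ⟨y, hy, hyx⟩ := h1 x.2
      rwa [← Subtype.ext hyx]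
  obtain ⟨a, ha⟩ : ∃ a : alternatingGroup (Fin r), a ≠ 1 := by
    haveI := alt_simple hr
    exact exists_ne 1
  obtain ⟨m, hm⟩ := hmc.1 a
  refine big_below (finrank K V + 1) _ (Nat.lt_succ_self _) K V r M (π.comp M.subtype) hmc hr
    (ρ.comp M.subtype) ⟨m, fun e => ha ?_⟩ rfl
  have : (m : H) = 1 := hρ (e.trans (map_one ρ).symm)
  rw [← hm, MonoidHom.comp_apply, Subgroup.coe_subtype, this, map_one]

end Cfsg.Agent.Lib.AltDegree52
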